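import Cfsg.Agent.Comp.Pres

set_option autoImplicit false
set_option maxRecDepth 1000000
set_option maxHeartbeats 0
set_option Elab.async false

namespace CF.XT.WE

open CF.Comp

noncomputable def PW : List (List Nat) := [[(nat_lit 1), (nat_lit 3), (nat_lit 10)],
  [(nat_lit 1), (nat_lit 3)],
  [(nat_lit 1), (nat_lit 3), (nat_lit 5)],
  [(nat_lit 1), (nat_lit 3), (nat_lit 5), (nat_lit 7)],
  [(nat_lit 9), (nat_lit 4)],
  [(nat_lit 9), (nat_lit 5)],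
  [(nat_lit 9), (nat_lit 5), (nat_lit 7)],
  [(nat_lit 3), (nat_lit 5)],
  [(nat_lit 3), (nat_lit 5), (nat_lit 7)],
  [(nat_lit 5), (nat_lit 7)]]
noncomputable def R5 : List (List Nat) := [[(nat_lit 1), (nat_lit 1), (nat_lit 1)],
  [(nat_lit 3), (nat_lit 3), (nat_lit 3)],
  [(nat_lit 5), (nat_lit 5), (nat_lit 5)],
  [(nat_lit 7), (nat_lit 7), (nat_lit 7)],
  [(nat_lit 9), (nat_lit 9), (nat_lit 9)],
  [(nat_lit 1), (nat_lit 3), (nat_lit 10), (nat_lit 1), (nat_lit 3), (nat_lit 10)],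
  [(nat_lit 1), (nat_lit 3), (nat_lit 1), (nat_lit 3)],
  [(nat_lit 1), (nat_lit 3), (nat_lit 5), (nat_lit 1), (nat_lit 3), (nat_lit 5)],
  [(nat_lit 1), (nat_lit 3), (nat_lit 5), (nat_lit 7), (nat_lit 1), (nat_lit 3), (nat_lit 5), (nat_lit 7)],
  [(nat_lit 9), (nat_lit 4), (nat_lit 9), (nat_lit 4)],
  [(nat_lit 9), (nat_lit 5), (nat_lit 9), (nat_lit 5)],
  [(nat_lit 9), (nat_lit 5), (nat_lit 7), (nat_lit 9), (nat_lit 5), (nat_lit 7)],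
  [(nat_lit 3), (nat_lit 5), (nat_lit 3), (nat_lit 5)],
  [(nat_lit 3), (nat_lit 5), (nat_lit 7), (nat_lit 3), (nat_lit 5), (nat_lit 7)],
  [(nat_lit 5), (nat_lit 7), (nat_lit 5), (nat_lit 7)]]
noncomputable def R4 : List (List Nat) := [[(nat_lit 3), (nat_lit 3), (nat_lit 3)],
  [(nat_lit 5), (nat_lit 5), (nat_lit 5)],
  [(nat_lit 7), (nat_lit 7), (nat_lit 7)],
  [(nat_lit 9), (nat_lit 9), (nat_lit 9)],
  [(nat_lit 9), (nat_lit 4), (nat_lit 9), (nat_lit 4)],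
  [(nat_lit 9), (nat_lit 5), (nat_lit 9), (nat_lit 5)],
  [(nat_lit 9), (nat_lit 5), (nat_lit 7), (nat_lit 9), (nat_lit 5), (nat_lit 7)],
  [(nat_lit 3), (nat_lit 5), (nat_lit 3), (nat_lit 5)],
  [(nat_lit 3), (nat_lit 5), (nat_lit 7), (nat_lit 3), (nat_lit 5), (nat_lit 7)],
  [(nat_lit 5), (nat_lit 7), (nat_lit 5), (nat_lit 7)]]
noncomputable def R3 : List (List Nat) := [[(nat_lit 5), (nat_lit 5), (nat_lit 5)],
  [(nat_lit 7), (nat_lit 7), (nat_lit 7)],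
  [(nat_lit 9), (nat_lit 9), (nat_lit 9)],
  [(nat_lit 9), (nat_lit 5), (nat_lit 9), (nat_lit 5)],
  [(nat_lit 9), (nat_lit 5), (nat_lit 7), (nat_lit 9), (nat_lit 5), (nat_lit 7)],
  [(nat_lit 5), (nat_lit 7), (nat_lit 5), (nat_lit 7)]]
noncomputable def G4 : List (List Nat) := [[(nat_lit 3)],
  [(nat_lit 5)],
  [(nat_lit 7)],
  [(nat_lit 9)]]
noncomputable def G3 : List (List Nat) := [[(nat_lit 5)],
  [(nat_lit 7)],
  [(nat_lit 9)]]
noncomputable def we1_c0 : BT (Bx Nat) := (BT.leaf (Bx.mk (nat_lit 0x0)))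
noncomputable def we1_c1 : BT (Bx Nat) := (BT.leaf (Bx.mk (nat_lit 0x45d8c2e8717240b7245a9875220706ad33d6b21138e3a508ab4ce81f146115101cd5167ab0a98893102c62f3b7099b88af2c48450c070e20440000)))
noncomputable def we1_c2 : BT (Bx Nat) := (BT.leaf (Bx.mk (nat_lit 0xb7d8fae88cb30895274c1c24cacae5896304a1a244e11c908f4c459e249f11908888818282297113102d5c43b4219a10ae8847c414220620460000)))
noncomputable def we1_c3 : BT (Bx Nat) := (BT.leaf (Bx.mk (nat_lit 0x86d8e36891b050d77c6cc2348c1aa7ab63c68a1051019c92908465440cd551aba895467ac32d9810b2ac66b3b8e99c80b08c27d5240a0e20c20000)))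
noncomputable def we1_c4 : BT (Bx Nat) := (BT.leaf (Bx.mk (nat_lit 0xf6d9176a04ee55992f1c1c650d4ea799284c7440d90b2689905ac5a3745431aa9885d35440bd6318c18960c3b6619b30af1837cc14409213020000)))
noncomputable def we1_c5 : BT (Bx Nat) := (BT.leaf (Bx.mk (nat_lit 0x151d906e49371103a310b9cdd8d36b09b070d7a0e5127268e124d18aee2d461aab6c61053e8b9935102066913b46a5d708f3627d81c409620c20000)))
noncomputable def we1_c6 : BT (Bx Nat) := (BT.leaf (Bx.mk (nat_lit 0x107dc23e097f452592c7b9a3d8e7aa78f24478a03c121df10347529bc3a931daa0ec58772e3adb78cd3e96473be3a211c4e0e57871ba39211c20000)))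
noncomputable def we1_c7 : BT (Bx Nat) := (BT.leaf (Bx.mk (nat_lit 0x1a4d0f2e6207644782e8b9b1d8ca2a74b44659c25b612d87c924e48c25a10960a46f5a47312259a0cbcab6e42c40a9c94910277a91bb18a20c20000)))
noncomputable def we1_c8 : BT (Bx Nat) := (BT.leaf (Bx.mk (nat_lit 0x849c8a4ec62743938289b984d8b26a693440999c4c1225e792d4c962a4ae206510315894424997255102e8492304a5a24ed9257491b848a12420000)))
noncomputable def we1_c9 : BT (Bx Nat) := (BT.leaf (Bx.mk (nat_lit 0x88d8f6e893f056768489440e6122269f7388a9d6d0f22679104087ad6b9321aa10c60f53351e120b01e98815c240a2050e1067881ba41220c20000)))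
noncomputable def we1_c10 : BT (Bx Nat) := (BT.leaf (Bx.mk (nat_lit 0xe6d8c56a12ac415930aa12560f6a669524278c40de206a82f04667aa53945daab2c84a3ae52df291094560a53ad122052f3227d71c409a12820000)))
noncomputable def we1_p : BT (Bx Nat) := (BT.leaf (Bx.mk (nat_lit 0x8c8f1815ec4bd416914d211a2534065706ad215842ac24508882110122014392661cca51949320e42288429084108421040000000)))
noncomputable def we1_e0 : BT Nat := (BT.node (nat_lit 71) (BT.node (nat_lit 69) (BT.leaf (nat_lit 2)) (BT.leaf (nat_lit 262146))) (BT.node (nat_lit 73) (BT.leaf (nat_lit 524290)) (BT.leaf (nat_lit 786434))))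
noncomputable def we1_e : BT Nat := we1_e0
noncomputable def we1_cols : List (BT (Bx Nat)) := [we1_c0, we1_c1, we1_c2, we1_c3, we1_c4, we1_c5, we1_c6, we1_c7, we1_c8, we1_c9, we1_c10]
noncomputable def we1_ch (x j : Nat) : Bx Nat := chunkG we1_cols (nat_lit 1) x j
noncomputable def we1_L (x : Nat) : Bx (Nat → Nat) := lookG we1_ch (nat_lit 8) (nat_lit 255) (nat_lit 17) (nat_lit 131071) x
noncomputable def we1_pc (_ j : Nat) : Bx Nat := we1_p.get j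
noncomputable def we1_pb : Bx (Nat → Nat) := lookG we1_pc (nat_lit 8) (nat_lit 255) (nat_lit 15) (nat_lit 32767) (nat_lit 0)
noncomputable def we1_rots : BT CW := (BT.node (nat_lit 27) (BT.node (nat_lit 13) (BT.node (nat_lit 6) (BT.node (nat_lit 3) (BT.node (nat_lit 1) (BT.leaf ⟨[], (nat_lit 1000000), (nat_lit 0), (nat_lit 0), (nat_lit 0)⟩) (BT.node (nat_lit 2) (BT.leaf ⟨[], (nat_lit 1000000), (nat_lit 0), (nat_lit 0), (nat_lit 1)⟩) (BT.leaf ⟨[], (nat_lit 1000000), (nat_lit 0), (nat_lit 0), (nat_lit 2)⟩))) (BT.node (nat_lit 4) (BT.leaf ⟨[(nat_lit 2), (nat_lit 1)], (nat_lit 19), (nat_lit 1), (nat_lit 0), (nat_lit 3)⟩) (BT.node (nat_lit 5) (BT.leaf ⟨[(nat_lit 1), (nat_lit 2)], (nat_lit 19), (nat_lit 0), (nat_lit 0), (nat_lit 3)⟩) (BT.leaf ⟨[(nat_lit 3), (nat_lit 4)], (nat_lit 18), (nat_lit 0), (nat_lit 0), (nat_lit 3)⟩)))) (BT.node (nat_lit 9) (BT.node (nat_lit 7) (BT.leaf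 ⟨[(nat_lit 6), (nat_lit 5)], (nat_lit 17), (nat_lit 1), (nat_lit 0), (nat_lit 3)⟩) (BT.node (nat_lit 8) (BT.leaf ⟨[(nat_lit 9), (nat_lit 10)], (nat_lit 15), (nat_lit 0), (nat_lit 0), (nat_lit 3)⟩) (BT.leaf ⟨[(nat_lit 8), (nat_lit 7)], (nat_lit 16), (nat_lit 1), (nat_lit 0), (nat_lit 3)⟩))) (BT.node (nat_lit 11) (BT.node (nat_lit 10) (BT.leaf ⟨[(nat_lit 10), (nat_lit 9)], (nat_lit 15), (nat_lit 1), (nat_lit 0), (nat_lit 3)⟩) (BT.leaf ⟨[(nat_lit 7), (nat_lit 8)], (nat_lit 16), (nat_lit 0), (nat_lit 0), (nat_lit 3)⟩)) (BT.node (nat_lit 12) (BT.leaf ⟨[(nat_lit 4), (nat_lit 3)], (nat_lit 18), (nat_lit 1), (nat_lit 0), (nat_lit 3)⟩) (BT.leaf ⟨[(nat_lit 5), (nat_lit 6)], (nat_lit 17), (nat_lit 0), (nat_lit 0), (nat_lit 3)⟩))))) (BT.node (nat_lit 20) (BT.node (nat_lit 16) (BT.node (nat_lit 14) (BT.leaf ⟨[(nat_lit 1), (nat_lit 1), (nat_lit 1)], (nat_lit 0), (nat_lit 0), (nat_lit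 0), (nat_lit 3)⟩) (BT.node (nat_lit 15) (BT.leaf ⟨[(nat_lit 9), (nat_lit 9), (nat_lit 9)], (nat_lit 4), (nat_lit 0), (nat_lit 0), (nat_lit 3)⟩) (BT.leaf ⟨[(nat_lit 5), (nat_lit 9), (nat_lit 5), (nat_lit 9)], (nat_lit 10), (nat_lit 1), (nat_lit 0), (nat_lit 3)⟩))) (BT.node (nat_lit 18) (BT.node (nat_lit 17) (BT.leaf ⟨[(nat_lit 5), (nat_lit 7), (nat_lit 5), (nat_lit 7)], (nat_lit 14), (nat_lit 0), (nat_lit 0), (nat_lit 3)⟩) (BT.leaf ⟨[(nat_lit 6), (nat_lit 4), (nat_lit 6), (nat_lit 4)], (nat_lit 32), (nat_lit 0), (nat_lit 0), (nat_lit 3)⟩)) (BT.node (nat_lit 19) (BT.leaf ⟨[(nat_lit 4), (nat_lit 9), (nat_lit 4), (nat_lit 9)], (nat_lit 9), (nat_lit 1), (nat_lit 0), (nat_lit 3)⟩) (BT.leaf ⟨[(nat_lit 3), (nat_lit 1), (nat_lit 3), (nat_lit 1)], (nat_lit 6), (nat_lit 1), (nat_lit 0), (nat_lit 3)⟩)))) (BT.node (nat_lit 23) (BT.node (nat_lit 21) (BT.leaf ⟨[(nat_lit 3), (nat_lit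 3), (nat_lit 3)], (nat_lit 1), (nat_lit 0), (nat_lit 0), (nat_lit 3)⟩) (BT.node (nat_lit 22) (BT.leaf ⟨[(nat_lit 1), (nat_lit 3), (nat_lit 1), (nat_lit 3)], (nat_lit 6), (nat_lit 0), (nat_lit 0), (nat_lit 3)⟩) (BT.leaf ⟨[(nat_lit 10), (nat_lit 1), (nat_lit 3), (nat_lit 10), (nat_lit 1), (nat_lit 3)], (nat_lit 5), (nat_lit 2), (nat_lit 0), (nat_lit 3)⟩))) (BT.node (nat_lit 25) (BT.node (nat_lit 24) (BT.leaf ⟨[(nat_lit 5), (nat_lit 1), (nat_lit 3), (nat_lit 5), (nat_lit 1), (nat_lit 3)], (nat_lit 7), (nat_lit 2), (nat_lit 0), (nat_lit 3)⟩) (BT.leaf ⟨[(nat_lit 10), (nat_lit 3), (nat_lit 10), (nat_lit 3)], (nat_lit 29), (nat_lit 1), (nat_lit 0), (nat_lit 3)⟩)) (BT.node (nat_lit 26) (BT.leaf ⟨[(nat_lit 10), (nat_lit 10), (nat_lit 10)], (nat_lit 24), (nat_lit 0), (nat_lit 0), (nat_lit 3)⟩) (BT.leaf ⟨[(nat_lit 5), (nat_lit 3), (nat_lit 5), (nat_lit 3)], (nat_lit 12), (nat_lit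 1), (nat_lit 0), (nat_lit 3)⟩)))))) (BT.node (nat_lit 41) (BT.node (nat_lit 34) (BT.node (nat_lit 30) (BT.node (nat_lit 28) (BT.leaf ⟨[(nat_lit 5), (nat_lit 5), (nat_lit 5)], (nat_lit 2), (nat_lit 0), (nat_lit 0), (nat_lit 3)⟩) (BT.node (nat_lit 29) (BT.leaf ⟨[(nat_lit 3), (nat_lit 10), (nat_lit 3), (nat_lit 10)], (nat_lit 29), (nat_lit 0), (nat_lit 0), (nat_lit 3)⟩) (BT.leaf ⟨[(nat_lit 6), (nat_lit 10), (nat_lit 6), (nat_lit 10)], (nat_lit 30), (nat_lit 0), (nat_lit 0), (nat_lit 3)⟩))) (BT.node (nat_lit 32) (BT.node (nat_lit 31) (BT.leaf ⟨[(nat_lit 6), (nat_lit 6), (nat_lit 6)], (nat_lit 22), (nat_lit 0), (nat_lit 0), (nat_lit 3)⟩) (BT.leaf ⟨[(nat_lit 3), (nat_lit 5), (nat_lit 3), (nat_lit 5)], (nat_lit 12), (nat_lit 0), (nat_lit 0), (nat_lit 3)⟩)) (BT.node (nat_lit 33) (BT.leaf ⟨[(nat_lit 1), (nat_lit 3), (nat_lit 10), (nat_lit 1), (nat_lit 3), (nat_lit 10)], (nat_lit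 5), (nat_lit 0), (nat_lit 0), (nat_lit 3)⟩) (BT.leaf ⟨[(nat_lit 1), (nat_lit 3), (nat_lit 5), (nat_lit 1), (nat_lit 3), (nat_lit 5)], (nat_lit 7), (nat_lit 0), (nat_lit 0), (nat_lit 3)⟩)))) (BT.node (nat_lit 37) (BT.node (nat_lit 35) (BT.leaf ⟨[(nat_lit 7), (nat_lit 3), (nat_lit 5), (nat_lit 7), (nat_lit 3), (nat_lit 5)], (nat_lit 13), (nat_lit 2), (nat_lit 0), (nat_lit 3)⟩) (BT.node (nat_lit 36) (BT.leaf ⟨[(nat_lit 7), (nat_lit 7), (nat_lit 7)], (nat_lit 3), (nat_lit 0), (nat_lit 0), (nat_lit 3)⟩) (BT.leaf ⟨[(nat_lit 7), (nat_lit 5), (nat_lit 7), (nat_lit 5)], (nat_lit 14), (nat_lit 1), (nat_lit 0), (nat_lit 3)⟩))) (BT.node (nat_lit 39) (BT.node (nat_lit 38) (BT.leaf ⟨[(nat_lit 10), (nat_lit 8), (nat_lit 6), (nat_lit 10), (nat_lit 8), (nat_lit 6)], (nat_lit 31), (nat_lit 2), (nat_lit 0), (nat_lit 3)⟩) (BT.leaf ⟨[(nat_lit 10), (nat_lit 6), (nat_lit 10), (nat_lit 6)],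 (nat_lit 30), (nat_lit 1), (nat_lit 0), (nat_lit 3)⟩)) (BT.node (nat_lit 40) (BT.leaf ⟨[(nat_lit 7), (nat_lit 9), (nat_lit 5), (nat_lit 7), (nat_lit 9), (nat_lit 5)], (nat_lit 11), (nat_lit 2), (nat_lit 0), (nat_lit 3)⟩) (BT.leaf ⟨[(nat_lit 7), (nat_lit 1), (nat_lit 3), (nat_lit 5), (nat_lit 7), (nat_lit 1), (nat_lit 3), (nat_lit 5)], (nat_lit 8), (nat_lit 3), (nat_lit 0), (nat_lit 3)⟩))))) (BT.node (nat_lit 48) (BT.node (nat_lit 44) (BT.node (nat_lit 42) (BT.leaf ⟨[(nat_lit 9), (nat_lit 5), (nat_lit 7), (nat_lit 9), (nat_lit 5), (nat_lit 7)], (nat_lit 11), (nat_lit 0), (nat_lit 0), (nat_lit 3)⟩) (BT.node (nat_lit 43) (BT.leaf ⟨[(nat_lit 3), (nat_lit 5), (nat_lit 7), (nat_lit 3), (nat_lit 5), (nat_lit 7)], (nat_lit 13), (nat_lit 0), (nat_lit 0), (nat_lit 3)⟩) (BT.leaf ⟨[(nat_lit 4), (nat_lit 4), (nat_lit 4)], (nat_lit 21), (nat_lit 0), (nat_lit 0), (nat_lit 3)⟩))) (BT.node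 (nat_lit 46) (BT.node (nat_lit 45) (BT.leaf ⟨[(nat_lit 9), (nat_lit 5), (nat_lit 9), (nat_lit 5)], (nat_lit 10), (nat_lit 0), (nat_lit 0), (nat_lit 3)⟩) (BT.leaf ⟨[(nat_lit 4), (nat_lit 6), (nat_lit 4), (nat_lit 6)], (nat_lit 32), (nat_lit 1), (nat_lit 0), (nat_lit 3)⟩)) (BT.node (nat_lit 47) (BT.leaf ⟨[(nat_lit 1), (nat_lit 3), (nat_lit 5), (nat_lit 7), (nat_lit 1), (nat_lit 3), (nat_lit 5), (nat_lit 7)], (nat_lit 8), (nat_lit 0), (nat_lit 0), (nat_lit 3)⟩) (BT.leaf ⟨[(nat_lit 5), (nat_lit 7), (nat_lit 1), (nat_lit 3), (nat_lit 5), (nat_lit 7), (nat_lit 1), (nat_lit 3)], (nat_lit 8), (nat_lit 2), (nat_lit 0), (nat_lit 3)⟩)))) (BT.node (nat_lit 51) (BT.node (nat_lit 49) (BT.leaf ⟨[(nat_lit 4), (nat_lit 2), (nat_lit 9), (nat_lit 4), (nat_lit 2), (nat_lit 9)], (nat_lit 25), (nat_lit 1), (nat_lit 0), (nat_lit 3)⟩) (BT.node (nat_lit 50) (BT.leaf ⟨[(nat_lit 2), (nat_lit 4),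 (nat_lit 2), (nat_lit 4)], (nat_lit 26), (nat_lit 1), (nat_lit 0), (nat_lit 3)⟩) (BT.leaf ⟨[(nat_lit 9), (nat_lit 4), (nat_lit 9), (nat_lit 4)], (nat_lit 9), (nat_lit 0), (nat_lit 0), (nat_lit 3)⟩))) (BT.node (nat_lit 53) (BT.node (nat_lit 52) (BT.leaf ⟨[(nat_lit 2), (nat_lit 2), (nat_lit 2)], (nat_lit 20), (nat_lit 0), (nat_lit 0), (nat_lit 3)⟩) (BT.leaf ⟨[(nat_lit 2), (nat_lit 6), (nat_lit 4), (nat_lit 2), (nat_lit 6), (nat_lit 4)], (nat_lit 27), (nat_lit 2), (nat_lit 0), (nat_lit 3)⟩)) (BT.node (nat_lit 54) (BT.leaf ⟨[(nat_lit 4), (nat_lit 8), (nat_lit 6), (nat_lit 4), (nat_lit 8), (nat_lit 6)], (nat_lit 33), (nat_lit 2), (nat_lit 0), (nat_lit 3)⟩) (BT.leaf ⟨[(nat_lit 2), (nat_lit 8), (nat_lit 6), (nat_lit 4), (nat_lit 2), (nat_lit 8), (nat_lit 6), (nat_lit 4)], (nat_lit 28), (nat_lit 3), (nat_lit 0), (nat_lit 3)⟩)))))))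
noncomputable def we1_hcs : List CW := [⟨[(nat_lit 3)], (nat_lit 0), (nat_lit 0), (nat_lit 0), (nat_lit 0)⟩, ⟨[(nat_lit 5)], (nat_lit 1), (nat_lit 0), (nat_lit 0), (nat_lit 0)⟩, ⟨[(nat_lit 7)], (nat_lit 2), (nat_lit 0), (nat_lit 0), (nat_lit 0)⟩, ⟨[(nat_lit 9)], (nat_lit 3), (nat_lit 0), (nat_lit 0), (nat_lit 0)⟩, ⟨[(nat_lit 4)], (nat_lit 4), (nat_lit 0), (nat_lit 0), (nat_lit 0)⟩, ⟨[(nat_lit 6)], (nat_lit 5), (nat_lit 0), (nat_lit 0), (nat_lit 0)⟩, ⟨[(nat_lit 8)], (nat_lit 6), (nat_lit 0), (nat_lit 0), (nat_lit 0)⟩, ⟨[(nat_lit 10)], (nat_lit 7), (nat_lit 0), (nat_lit 0), (nat_lit 0)⟩]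
noncomputable def we1_H (x j : Nat) : Bx (Nat → Nat → Nat) := mkH we1_L we1_pb.1 we1_e.get (lmap CW.w we1_hcs) (nat_lit 27) (nat_lit 28) (nat_lit 11) (nat_lit 32) (nat_lit 2048) (nat_lit 2047) x (we1_rots.get j)
noncomputable def we1_F (x b : Nat) : Bool := blkOK we1_H we1_ch (nat_lit 28) (nat_lit 32) (nat_lit 64) (nat_lit 8) (nat_lit 255) (nat_lit 17) (nat_lit 131071) x b

theorem we1_k0_0 : allFrom (we1_F (nat_lit 0)) (nat_lit 0) (nat_lit 4) = true := by decide +kernel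
theorem we1_k1_0 : allFrom (we1_F (nat_lit 1)) (nat_lit 0) (nat_lit 4) = true := by decide +kernel
theorem we1_k2_0 : allFrom (we1_F (nat_lit 2)) (nat_lit 0) (nat_lit 4) = true := by decide +kernel
theorem we1_k3_0 : allFrom (we1_F (nat_lit 3)) (nat_lit 0) (nat_lit 4) = true := by decide +kernel
theorem we1_k4_0 : allFrom (we1_F (nat_lit 4)) (nat_lit 0) (nat_lit 4) = true := by decide +kernel
theorem we1_k5_0 : allFrom (we1_F (nat_lit 5)) (nat_lit 0) (nat_lit 4) = true := by decide +kernel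
theorem we1_k6_0 : allFrom (we1_F (nat_lit 6)) (nat_lit 0) (nat_lit 4) = true := by decide +kernel
theorem we1_k7_0 : allFrom (we1_F (nat_lit 7)) (nat_lit 0) (nat_lit 4) = true := by decide +kernel
theorem we1_k8_0 : allFrom (we1_F (nat_lit 8)) (nat_lit 0) (nat_lit 4) = true := by decide +kernel
theorem we1_k9_0 : allFrom (we1_F (nat_lit 9)) (nat_lit 0) (nat_lit 4) = true := by decide +kernel
theorem we1_k10_0 : allFrom (we1_F (nat_lit 10)) (nat_lit 0) (nat_lit 4) = true := by decide +kernel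
noncomputable def we2_c0 : BT (Bx Nat) := (BT.leaf (Bx.mk (nat_lit 0x0)))
noncomputable def we2_c1 : BT (Bx Nat) := (BT.leaf (Bx.mk (nat_lit 0x8b02adc69b10b5442f52d09ea6216ae678856c2995c2b6648142f58e2110000)))
noncomputable def we2_c2 : BT (Bx Nat) := (BT.leaf (Bx.mk (nat_lit 0xe908118423e044948e810e7235045248b5110da19242b084710502062118000)))
noncomputable def we2_c3 : BT (Bx Nat) := (BT.leaf (Bx.mk (nat_lit 0xe503bda683cfe722094bd69cb152532076c8ce321792c0c27408f78e2308000)))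
noncomputable def we2_c4 : BT (Bx Nat) := (BT.leaf (Bx.mk (nat_lit 0x9d02b9c6734ce7a1ca43969724ee63da65b90c71d4e2b5c3738510920e08000)))
noncomputable def we2_c5 : BT (Bx Nat) := (BT.leaf (Bx.mk (nat_lit 0xb5025df052cb87414735da9c20f86334645d2ad2998236e2758710962308000)))
noncomputable def we2_c6 : BT (Bx Nat) := (BT.leaf (Bx.mk (nat_lit 0x4f019de43b4a7598e9885c9398e73a0ea8858b3a20712ce569c6c3920708000)))
noncomputable def we2_c7 : BT (Bx Nat) := (BT.leaf (Bx.mk (nat_lit 0x412e23205dbcc969f6c42570495ec541247b10e60e214c4277c45109a2308000)))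
noncomputable def we2_c8 : BT (Bx Nat) := (BT.leaf (Bx.mk (nat_lit 0xd0f221d10c0f56990c4d56e426082b9078209040a21544286a0ce40e0808000)))
noncomputable def we2_p : BT (Bx Nat) := (BT.leaf (Bx.mk (nat_lit 0x3388ac06ac689061c68705948651d908641d087421508421088410000000)))
noncomputable def we2_e0 : BT Nat := (BT.node (nat_lit 69) (BT.leaf (nat_lit 2)) (BT.node (nat_lit 71) (BT.leaf (nat_lit 262146)) (BT.leaf (nat_lit 524290))))
noncomputable def we2_e : BT Nat := we2_e0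
noncomputable def we2_cols : List (BT (Bx Nat)) := [we2_c0, we2_c1, we2_c2, we2_c3, we2_c4, we2_c5, we2_c6, we2_c7, we2_c8]
noncomputable def we2_ch (x j : Nat) : Bx Nat := chunkG we2_cols (nat_lit 1) x j
noncomputable def we2_L (x : Nat) : Bx (Nat → Nat) := lookG we2_ch (nat_lit 8) (nat_lit 255) (nat_lit 15) (nat_lit 32767) x
noncomputable def we2_pc (_ j : Nat) : Bx Nat := we2_p.get j
noncomputable def we2_pb : Bx (Nat → Nat) := lookG we2_pc (nat_lit 8) (nat_lit 255) (nat_lit 14) (nat_lit 16383) (nat_lit 0)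
noncomputable def we2_rots : BT CW := (BT.node (nat_lit 15) (BT.node (nat_lit 7) (BT.node (nat_lit 3) (BT.node (nat_lit 1) (BT.leaf ⟨[], (nat_lit 1000000), (nat_lit 0), (nat_lit 0), (nat_lit 0)⟩) (BT.node (nat_lit 2) (BT.leaf ⟨[], (nat_lit 1000000), (nat_lit 0), (nat_lit 0), (nat_lit 1)⟩) (BT.leaf ⟨[], (nat_lit 1000000), (nat_lit 0), (nat_lit 0), (nat_lit 2)⟩))) (BT.node (nat_lit 5) (BT.node (nat_lit 4) (BT.leaf ⟨[(nat_lit 2), (nat_lit 1)], (nat_lit 13), (nat_lit 1), (nat_lit 0), (nat_lit 3)⟩) (BT.leaf ⟨[(nat_lit 1), (nat_lit 2)], (nat_lit 13), (nat_lit 0), (nat_lit 0), (nat_lit 3)⟩)) (BT.node (nat_lit 6) (BT.leaf ⟨[(nat_lit 3), (nat_lit 4)], (nat_lit 12), (nat_lit 0), (nat_lit 0), (nat_lit 3)⟩) (BT.leaf ⟨[(nat_lit 6), (nat_lit 5)], (nat_lit 11), (nat_lit 1), (nat_lit 0), (nat_lit 3)⟩)))) (BT.node (nat_lit 11) (BT.node (nat_lit 9) (BT.node (nat_lit 8) (BT.leaf ⟨[(nat_lit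 8), (nat_lit 7)], (nat_lit 10), (nat_lit 1), (nat_lit 0), (nat_lit 3)⟩) (BT.leaf ⟨[(nat_lit 7), (nat_lit 8)], (nat_lit 10), (nat_lit 0), (nat_lit 0), (nat_lit 3)⟩)) (BT.node (nat_lit 10) (BT.leaf ⟨[(nat_lit 5), (nat_lit 6)], (nat_lit 11), (nat_lit 0), (nat_lit 0), (nat_lit 3)⟩) (BT.leaf ⟨[(nat_lit 1), (nat_lit 1), (nat_lit 1)], (nat_lit 0), (nat_lit 0), (nat_lit 0), (nat_lit 3)⟩))) (BT.node (nat_lit 13) (BT.node (nat_lit 12) (BT.leaf ⟨[(nat_lit 7), (nat_lit 7), (nat_lit 7)], (nat_lit 3), (nat_lit 0), (nat_lit 0), (nat_lit 3)⟩) (BT.leaf ⟨[(nat_lit 4), (nat_lit 8), (nat_lit 4), (nat_lit 8)], (nat_lit 20), (nat_lit 0), (nat_lit 0), (nat_lit 3)⟩)) (BT.node (nat_lit 14) (BT.leaf ⟨[(nat_lit 4), (nat_lit 3)], (nat_lit 12), (nat_lit 1), (nat_lit 0), (nat_lit 3)⟩) (BT.leaf ⟨[(nat_lit 3), (nat_lit 1), (nat_lit 3), (nat_lit 1)], (nat_lit 7), (nat_lit 1), (nat_lit 0), (nat_lit 3)⟩)))))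 (BT.node (nat_lit 22) (BT.node (nat_lit 18) (BT.node (nat_lit 16) (BT.leaf ⟨[(nat_lit 3), (nat_lit 3), (nat_lit 3)], (nat_lit 1), (nat_lit 0), (nat_lit 0), (nat_lit 3)⟩) (BT.node (nat_lit 17) (BT.leaf ⟨[(nat_lit 7), (nat_lit 2), (nat_lit 7), (nat_lit 2)], (nat_lit 4), (nat_lit 0), (nat_lit 0), (nat_lit 3)⟩) (BT.leaf ⟨[(nat_lit 3), (nat_lit 7), (nat_lit 3), (nat_lit 7)], (nat_lit 5), (nat_lit 1), (nat_lit 0), (nat_lit 3)⟩))) (BT.node (nat_lit 20) (BT.node (nat_lit 19) (BT.leaf ⟨[(nat_lit 1), (nat_lit 3), (nat_lit 1), (nat_lit 3)], (nat_lit 7), (nat_lit 0), (nat_lit 0), (nat_lit 3)⟩) (BT.leaf ⟨[(nat_lit 2), (nat_lit 7), (nat_lit 2), (nat_lit 7)], (nat_lit 4), (nat_lit 1), (nat_lit 0), (nat_lit 3)⟩)) (BT.node (nat_lit 21) (BT.leaf ⟨[(nat_lit 8), (nat_lit 1), (nat_lit 8), (nat_lit 1)], (nat_lit 19), (nat_lit 1), (nat_lit 0), (nat_lit 3)⟩) (BT.leaf ⟨[(nat_lit 5), (nat_lit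 1), (nat_lit 3), (nat_lit 5), (nat_lit 1), (nat_lit 3)], (nat_lit 8), (nat_lit 2), (nat_lit 0), (nat_lit 3)⟩)))) (BT.node (nat_lit 26) (BT.node (nat_lit 24) (BT.node (nat_lit 23) (BT.leaf ⟨[(nat_lit 5), (nat_lit 3), (nat_lit 5), (nat_lit 3)], (nat_lit 9), (nat_lit 1), (nat_lit 0), (nat_lit 3)⟩) (BT.leaf ⟨[(nat_lit 5), (nat_lit 5), (nat_lit 5)], (nat_lit 2), (nat_lit 0), (nat_lit 0), (nat_lit 3)⟩)) (BT.node (nat_lit 25) (BT.leaf ⟨[(nat_lit 3), (nat_lit 5), (nat_lit 3), (nat_lit 5)], (nat_lit 9), (nat_lit 0), (nat_lit 0), (nat_lit 3)⟩) (BT.leaf ⟨[(nat_lit 5), (nat_lit 7), (nat_lit 3), (nat_lit 5), (nat_lit 7), (nat_lit 3)], (nat_lit 6), (nat_lit 2), (nat_lit 0), (nat_lit 3)⟩))) (BT.node (nat_lit 28) (BT.node (nat_lit 27) (BT.leaf ⟨[(nat_lit 7), (nat_lit 3), (nat_lit 7), (nat_lit 3)], (nat_lit 5), (nat_lit 0), (nat_lit 0), (nat_lit 3)⟩) (BT.leaf ⟨[(nat_lit 1), (nat_lit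 3), (nat_lit 5), (nat_lit 1), (nat_lit 3), (nat_lit 5)], (nat_lit 8), (nat_lit 0), (nat_lit 0), (nat_lit 3)⟩)) (BT.node (nat_lit 29) (BT.leaf ⟨[(nat_lit 1), (nat_lit 8), (nat_lit 1), (nat_lit 8)], (nat_lit 19), (nat_lit 0), (nat_lit 0), (nat_lit 3)⟩) (BT.leaf ⟨[(nat_lit 3), (nat_lit 5), (nat_lit 1), (nat_lit 3), (nat_lit 5), (nat_lit 1)], (nat_lit 8), (nat_lit 1), (nat_lit 0), (nat_lit 3)⟩))))))
noncomputable def we2_hcs : List CW := [⟨[(nat_lit 3)], (nat_lit 0), (nat_lit 0), (nat_lit 0), (nat_lit 0)⟩, ⟨[(nat_lit 5)], (nat_lit 1), (nat_lit 0), (nat_lit 0), (nat_lit 0)⟩, ⟨[(nat_lit 7)], (nat_lit 2), (nat_lit 0), (nat_lit 0), (nat_lit 0)⟩, ⟨[(nat_lit 4)], (nat_lit 3), (nat_lit 0), (nat_lit 0), (nat_lit 0)⟩, ⟨[(nat_lit 6)], (nat_lit 4), (nat_lit 0), (nat_lit 0), (nat_lit 0)⟩, ⟨[(nat_lit 8)], (nat_lit 5), (nat_lit 0), (nat_lit 0), (nat_lit 0)⟩]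
noncomputable def we2_H (x j : Nat) : Bx (Nat → Nat → Nat) := mkH we2_L we2_pb.1 we2_e.get (lmap CW.w we2_hcs) (nat_lit 16) (nat_lit 17) (nat_lit 9) (nat_lit 32) (nat_lit 1024) (nat_lit 2047) x (we2_rots.get j)
noncomputable def we2_F (x b : Nat) : Bool := blkOK we2_H we2_ch (nat_lit 17) (nat_lit 32) (nat_lit 32) (nat_lit 8) (nat_lit 255) (nat_lit 15) (nat_lit 32767) x b

theorem we2_k0_0 : allFrom (we2_F (nat_lit 0)) (nat_lit 0) (nat_lit 4) = true := by decide +kernel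
theorem we2_k1_0 : allFrom (we2_F (nat_lit 1)) (nat_lit 0) (nat_lit 4) = true := by decide +kernel
theorem we2_k2_0 : allFrom (we2_F (nat_lit 2)) (nat_lit 0) (nat_lit 4) = true := by decide +kernel
theorem we2_k3_0 : allFrom (we2_F (nat_lit 3)) (nat_lit 0) (nat_lit 4) = true := by decide +kernel
theorem we2_k4_0 : allFrom (we2_F (nat_lit 4)) (nat_lit 0) (nat_lit 4) = true := by decide +kernel
theorem we2_k5_0 : allFrom (we2_F (nat_lit 5)) (nat_lit 0) (nat_lit 4) = true := by decide +kernel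
theorem we2_k6_0 : allFrom (we2_F (nat_lit 6)) (nat_lit 0) (nat_lit 4) = true := by decide +kernel
theorem we2_k7_0 : allFrom (we2_F (nat_lit 7)) (nat_lit 0) (nat_lit 4) = true := by decide +kernel
theorem we2_k8_0 : allFrom (we2_F (nat_lit 8)) (nat_lit 0) (nat_lit 4) = true := by decide +kernel
noncomputable def we3_c0 : BT (Bx Nat) := (BT.leaf (Bx.mk (nat_lit 0x0)))
noncomputable def we3_c1 : BT (Bx Nat) := (BT.leaf (Bx.mk (nat_lit 0x3bbb6774aaf24b5b16852f0e597159b161d6c0a5d20ae62ae72afad558b7f151a2cf65b1cb343b7f0f3654a8b23176929ce57edd9787582b525324ac6d9b72e38e8b145415482dbc51bc38635dc51105a70b57144b2ad452eca85149f0c7ad1fc2f6b85f0b3853fc29e14de283aa0fc210000)))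
noncomputable def we3_c2 : BT (Bx Nat) := (BT.leaf (Bx.mk (nat_lit 0x213a6278a4ef893b4777250f1938903472b26b448622df11578db64c260be46aa8f3b7466093c38b7d711a61fb5de5e2176469e1a613388c5c426c8a4bf1c2392f7f883d41d885f913f0974c58e20b8f9bc36644dd78d518f602545eb79d6466e065913c215e15b0847850c205c407c218000)))
noncomputable def we3_c3 : BT (Bx Nat) := (BT.leaf (Bx.mk (nat_lit 0x32f985eaebc1e99a1f6e3c6a79a69729f1f0f9c7658efc52b73d9e1ee4eb41d4f0f5c73f8e76ae99e2be1e20fbf1cb93cbc72b57142e7f0e9744e4f55af2e38fab6f28e71c6d5b14746b90786fa3a10793c36cadea3bbe1a38e1eacd93a5e1878e16ac9f0b5e15f8e0eac5f099e123c220000)))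
noncomputable def we3_c4 : BT (Bx Nat) := (BT.leaf (Bx.mk (nat_lit 0x71b3e35dc6ad4de71a69ccab9e1cddf19f63734671b3a31bae32906d78c8c66f736159770d4718e7340d2daa51ce52f0ef86878c5499579630642f47d999c335c61fc396197e30d59b60d3ccaca33d5a2ee4b5c93f0d5e1a70c67183f0c9e18b0c47182f0b7e1630c27181f09be127c228000)))
noncomputable def we3_c5 : BT (Bx Nat) := (BT.leaf (Bx.mk (nat_lit 0x1337466495b59349b3a5ae8a9d59311d7c74c8c9bd9383a585ef74c6d6bc4279a4d56941d363317e49bac9e12d425ebab3e1d9fb47249d641e1cf9246b1dbaa7293292b787184c32c8f922eb15f0ddc913589786be487ac3fc337865e485ac2fc2ff85ce483ac1fc2a7851f09de12bc230000)))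
noncomputable def we3_c6 : BT (Bx Nat) := (BT.leaf (Bx.mk (nat_lit 0x1234445e48e2676222d1479c889b1b2237e43c68ef90c3e3179e5c84cd1d44e9e42178adf1cb221c44dc8379064633842cf3d676be21fe413339310e7208945d3896911c4f05451736710a7205a437884790264eac41dc80fc33d6dac415c80bc30785dc40dc807c2af852f09fe12fc238000)))
noncomputable def we3_p : BT (Bx Nat) := (BT.leaf (Bx.mk (nat_lit 0x5cc397072b0e4e0c98391892216400c7c38f0ad911b02b5416a06d315a21b442680acf119c23383668ccd15982b2c46582ca11941b246648ac90590332054388870d0e0a184430686090a3214542828419082a102418c831506220c3410c82150422083208c41148221043208441040000000)))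
noncomputable def we3_e : BT Nat := BT.leaf (nat_lit 0)
noncomputable def we3_cols : List (BT (Bx Nat)) := [we3_c0, we3_c1, we3_c2, we3_c3, we3_c4, we3_c5, we3_c6]
noncomputable def we3_ch (x j : Nat) : Bx Nat := chunkG we3_cols (nat_lit 1) x j
noncomputable def we3_L (x : Nat) : Bx (Nat → Nat) := lookG we3_ch (nat_lit 8) (nat_lit 255) (nat_lit 15) (nat_lit 32767) x
noncomputable def we3_pc (_ j : Nat) : Bx Nat := we3_p.get j
noncomputable def we3_pb : Bx (Nat → Nat) := lookG we3_pc (nat_lit 8) (nat_lit 255) (nat_lit 15) (nat_lit 32767) (nat_lit 0)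
noncomputable def we3_rots : BT CW := (BT.node (nat_lit 14) (BT.node (nat_lit 7) (BT.node (nat_lit 3) (BT.node (nat_lit 1) (BT.leaf ⟨[], (nat_lit 1000000), (nat_lit 0), (nat_lit 0), (nat_lit 0)⟩) (BT.node (nat_lit 2) (BT.leaf ⟨[], (nat_lit 1000000), (nat_lit 0), (nat_lit 0), (nat_lit 1)⟩) (BT.leaf ⟨[], (nat_lit 1000000), (nat_lit 0), (nat_lit 0), (nat_lit 2)⟩))) (BT.node (nat_lit 5) (BT.node (nat_lit 4) (BT.leaf ⟨[(nat_lit 2), (nat_lit 1)], (nat_lit 8), (nat_lit 1), (nat_lit 0), (nat_lit 3)⟩) (BT.leaf ⟨[(nat_lit 1), (nat_lit 2)], (nat_lit 8), (nat_lit 0), (nat_lit 0), (nat_lit 3)⟩)) (BT.node (nat_lit 6) (BT.leaf ⟨[(nat_lit 4), (nat_lit 3)], (nat_lit 7), (nat_lit 1), (nat_lit 0), (nat_lit 3)⟩) (BT.leaf ⟨[(nat_lit 3), (nat_lit 4)], (nat_lit 7), (nat_lit 0), (nat_lit 0), (nat_lit 3)⟩)))) (BT.node (nat_lit 10) (BT.node (nat_lit 8) (BT.leaf ⟨[(nat_lit 6), (nat_lit 5)], (nat_lit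 6), (nat_lit 1), (nat_lit 0), (nat_lit 3)⟩) (BT.node (nat_lit 9) (BT.leaf ⟨[(nat_lit 5), (nat_lit 6)], (nat_lit 6), (nat_lit 0), (nat_lit 0), (nat_lit 3)⟩) (BT.leaf ⟨[(nat_lit 1), (nat_lit 1), (nat_lit 1)], (nat_lit 0), (nat_lit 0), (nat_lit 0), (nat_lit 3)⟩))) (BT.node (nat_lit 12) (BT.node (nat_lit 11) (BT.leaf ⟨[(nat_lit 3), (nat_lit 3), (nat_lit 3)], (nat_lit 1), (nat_lit 0), (nat_lit 0), (nat_lit 3)⟩) (BT.leaf ⟨[(nat_lit 5), (nat_lit 5), (nat_lit 5)], (nat_lit 2), (nat_lit 0), (nat_lit 0), (nat_lit 3)⟩)) (BT.node (nat_lit 13) (BT.leaf ⟨[(nat_lit 1), (nat_lit 5), (nat_lit 1), (nat_lit 5)], (nat_lit 3), (nat_lit 1), (nat_lit 0), (nat_lit 3)⟩) (BT.leaf ⟨[(nat_lit 1), (nat_lit 3), (nat_lit 1), (nat_lit 3)], (nat_lit 5), (nat_lit 0), (nat_lit 0), (nat_lit 3)⟩))))) (BT.node (nat_lit 21) (BT.node (nat_lit 17) (BT.node (nat_lit 15) (BT.leaf ⟨[(nat_lit 2), (nat_lit 6), (nat_lit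 2), (nat_lit 6)], (nat_lit 14), (nat_lit 0), (nat_lit 0), (nat_lit 3)⟩) (BT.node (nat_lit 16) (BT.leaf ⟨[(nat_lit 2), (nat_lit 4), (nat_lit 2), (nat_lit 4)], (nat_lit 16), (nat_lit 1), (nat_lit 0), (nat_lit 3)⟩) (BT.leaf ⟨[(nat_lit 2), (nat_lit 2), (nat_lit 2)], (nat_lit 11), (nat_lit 0), (nat_lit 0), (nat_lit 3)⟩))) (BT.node (nat_lit 19) (BT.node (nat_lit 18) (BT.leaf ⟨[(nat_lit 4), (nat_lit 2), (nat_lit 4), (nat_lit 2)], (nat_lit 16), (nat_lit 0), (nat_lit 0), (nat_lit 3)⟩) (BT.leaf ⟨[(nat_lit 6), (nat_lit 2), (nat_lit 6), (nat_lit 2)], (nat_lit 14), (nat_lit 1), (nat_lit 0), (nat_lit 3)⟩)) (BT.node (nat_lit 20) (BT.leaf ⟨[(nat_lit 3), (nat_lit 1), (nat_lit 3), (nat_lit 1)], (nat_lit 5), (nat_lit 1), (nat_lit 0), (nat_lit 3)⟩) (BT.leaf ⟨[(nat_lit 5), (nat_lit 1), (nat_lit 5), (nat_lit 1)], (nat_lit 3), (nat_lit 0), (nat_lit 0), (nat_lit 3)⟩)))) (BT.node (nat_lit 25)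 (BT.node (nat_lit 23) (BT.node (nat_lit 22) (BT.leaf ⟨[(nat_lit 1), (nat_lit 3), (nat_lit 5), (nat_lit 1), (nat_lit 3), (nat_lit 5)], (nat_lit 4), (nat_lit 1), (nat_lit 0), (nat_lit 3)⟩) (BT.leaf ⟨[(nat_lit 2), (nat_lit 6), (nat_lit 4), (nat_lit 2), (nat_lit 6), (nat_lit 4)], (nat_lit 15), (nat_lit 1), (nat_lit 0), (nat_lit 3)⟩)) (BT.node (nat_lit 24) (BT.leaf ⟨[(nat_lit 6), (nat_lit 6), (nat_lit 6)], (nat_lit 13), (nat_lit 0), (nat_lit 0), (nat_lit 3)⟩) (BT.leaf ⟨[(nat_lit 4), (nat_lit 4), (nat_lit 4)], (nat_lit 12), (nat_lit 0), (nat_lit 0), (nat_lit 3)⟩))) (BT.node (nat_lit 27) (BT.node (nat_lit 26) (BT.leaf ⟨[(nat_lit 4), (nat_lit 2), (nat_lit 6), (nat_lit 4), (nat_lit 2), (nat_lit 6)], (nat_lit 15), (nat_lit 0), (nat_lit 0), (nat_lit 3)⟩) (BT.leaf ⟨[(nat_lit 6), (nat_lit 4), (nat_lit 2), (nat_lit 6), (nat_lit 4), (nat_lit 2)], (nat_lit 15), (nat_lit 2), (nat_lit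 0), (nat_lit 3)⟩)) (BT.node (nat_lit 28) (BT.leaf ⟨[(nat_lit 3), (nat_lit 5), (nat_lit 1), (nat_lit 3), (nat_lit 5), (nat_lit 1)], (nat_lit 4), (nat_lit 2), (nat_lit 0), (nat_lit 3)⟩) (BT.leaf ⟨[(nat_lit 5), (nat_lit 1), (nat_lit 3), (nat_lit 5), (nat_lit 1), (nat_lit 3)], (nat_lit 4), (nat_lit 0), (nat_lit 0), (nat_lit 3)⟩))))))
noncomputable def we3_hcs : List CW := []
noncomputable def we3_H (x j : Nat) : Bx (Nat → Nat → Nat) := mkH we3_L we3_pb.1 we3_e.get (lmap CW.w we3_hcs) (nat_lit 60) (nat_lit 61) (nat_lit 7) (nat_lit 64) (nat_lit 2048) (nat_lit 4095) x (we3_rots.get j)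
noncomputable def we3_F (x b : Nat) : Bool := blkOK we3_H we3_ch (nat_lit 61) (nat_lit 64) (nat_lit 32) (nat_lit 8) (nat_lit 255) (nat_lit 15) (nat_lit 32767) x b

theorem we3_k0_0 : allFrom (we3_F (nat_lit 0)) (nat_lit 0) (nat_lit 4) = true := by decide +kernel
theorem we3_k1_0 : allFrom (we3_F (nat_lit 1)) (nat_lit 0) (nat_lit 4) = true := by decide +kernel
theorem we3_k2_0 : allFrom (we3_F (nat_lit 2)) (nat_lit 0) (nat_lit 4) = true := by decide +kernel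
theorem we3_k3_0 : allFrom (we3_F (nat_lit 3)) (nat_lit 0) (nat_lit 4) = true := by decide +kernel
theorem we3_k4_0 : allFrom (we3_F (nat_lit 4)) (nat_lit 0) (nat_lit 4) = true := by decide +kernel
theorem we3_k5_0 : allFrom (we3_F (nat_lit 5)) (nat_lit 0) (nat_lit 4) = true := by decide +kernel
theorem we3_k6_0 : allFrom (we3_F (nat_lit 6)) (nat_lit 0) (nat_lit 4) = true := by decide +kernel
theorem we1_all : Cov we1_F 4 11 0 := by
  have h := Cov.zero we1_F 4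
  have h := h.blk (b := 4) we1_k0_0 rfl
  have h := h.next (y := 1) rfl rfl
  have h := h.blk (b := 4) we1_k1_0 rfl
  have h := h.next (y := 2) rfl rfl
  have h := h.blk (b := 4) we1_k2_0 rfl
  have h := h.next (y := 3) rfl rfl
  have h := h.blk (b := 4) we1_k3_0 rfl
  have h := h.next (y := 4) rfl rfl
  have h := h.blk (b := 4) we1_k4_0 rfl
  have h := h.next (y := 5) rfl rfl
  have h := h.blk (b := 4) we1_k5_0 rfl
  have h := h.next (y := 6) rfl rfl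
  have h := h.blk (b := 4) we1_k6_0 rfl
  have h := h.next (y := 7) rfl rfl
  have h := h.blk (b := 4) we1_k7_0 rfl
  have h := h.next (y := 8) rfl rfl
  have h := h.blk (b := 4) we1_k8_0 rfl
  have h := h.next (y := 9) rfl rfl
  have h := h.blk (b := 4) we1_k9_0 rfl
  have h := h.next (y := 10) rfl rfl
  have h := h.blk (b := 4) we1_k10_0 rfl
  have h := h.next (y := 11) rfl rfl
  exact h

theorem we1 : Enum R5 G4 (gensW 5) 27 :=
  ⟨we1_cols, we1_ch, we1_L, we1_H, we1_pb.1, we1_e.get, [(nat_lit 0), (nat_lit 1), (nat_lit 2), (nat_lit 3), (nat_lit 4), (nat_lit 5), (nat_lit 6), (nat_lit 7), (nat_lit 8), (nat_lit 9), (nat_lit 10)], (nat_lit 0), (nat_lit 5), we1_rots, we1_hcs,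
    (nat_lit 28), (nat_lit 11), (nat_lit 32), (nat_lit 64), (nat_lit 2048), (nat_lit 2047), (nat_lit 8), (nat_lit 255), (nat_lit 17), (nat_lit 131071), (nat_lit 1), (nat_lit 4),
    fun _ _ => rfl, fun _ => rfl, fun _ _ => rfl, by decide +kernel, we1_all.1⟩
theorem we2_all : Cov we2_F 4 9 0 := by
  have h := Cov.zero we2_F 4
  have h := h.blk (b := 4) we2_k0_0 rfl
  have h := h.next (y := 1) rfl rfl
  have h := h.blk (b := 4) we2_k1_0 rfl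
  have h := h.next (y := 2) rfl rfl
  have h := h.blk (b := 4) we2_k2_0 rfl
  have h := h.next (y := 3) rfl rfl
  have h := h.blk (b := 4) we2_k3_0 rfl
  have h := h.next (y := 4) rfl rfl
  have h := h.blk (b := 4) we2_k4_0 rfl
  have h := h.next (y := 5) rfl rfl
  have h := h.blk (b := 4) we2_k5_0 rfl
  have h := h.next (y := 6) rfl rfl
  have h := h.blk (b := 4) we2_k6_0 rfl
  have h := h.next (y := 7) rfl rfl
  have h := h.blk (b := 4) we2_k7_0 rfl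
  have h := h.next (y := 8) rfl rfl
  have h := h.blk (b := 4) we2_k8_0 rfl
  have h := h.next (y := 9) rfl rfl
  exact h

theorem we2 : Enum R4 G3 G4 16 :=
  ⟨we2_cols, we2_ch, we2_L, we2_H, we2_pb.1, we2_e.get, [(nat_lit 0), (nat_lit 3), (nat_lit 4), (nat_lit 5), (nat_lit 6), (nat_lit 7), (nat_lit 8), (nat_lit 9), (nat_lit 10)], (nat_lit 0), (nat_lit 5), we2_rots, we2_hcs,
    (nat_lit 17), (nat_lit 9), (nat_lit 32), (nat_lit 32), (nat_lit 1024), (nat_lit 2047), (nat_lit 8), (nat_lit 255), (nat_lit 15), (nat_lit 32767), (nat_lit 1), (nat_lit 4),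
    fun _ _ => rfl, fun _ => rfl, fun _ _ => rfl, by decide +kernel, we2_all.1⟩
theorem we3_all : Cov we3_F 4 7 0 := by
  have h := Cov.zero we3_F 4
  have h := h.blk (b := 4) we3_k0_0 rfl
  have h := h.next (y := 1) rfl rfl
  have h := h.blk (b := 4) we3_k1_0 rfl
  have h := h.next (y := 2) rfl rfl
  have h := h.blk (b := 4) we3_k2_0 rfl
  have h := h.next (y := 3) rfl rfl
  have h := h.blk (b := 4) we3_k3_0 rfl
  have h := h.next (y := 4) rfl rfl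
  have h := h.blk (b := 4) we3_k4_0 rfl
  have h := h.next (y := 5) rfl rfl
  have h := h.blk (b := 4) we3_k5_0 rfl
  have h := h.next (y := 6) rfl rfl
  have h := h.blk (b := 4) we3_k6_0 rfl
  have h := h.next (y := 7) rfl rfl
  exact h

theorem we3 : Enum R3 [] G3 60 :=
  ⟨we3_cols, we3_ch, we3_L, we3_H, we3_pb.1, we3_e.get, [(nat_lit 0), (nat_lit 5), (nat_lit 6), (nat_lit 7), (nat_lit 8), (nat_lit 9), (nat_lit 10)], (nat_lit 0), (nat_lit 5), we3_rots, we3_hcs,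
    (nat_lit 61), (nat_lit 7), (nat_lit 64), (nat_lit 32), (nat_lit 2048), (nat_lit 4095), (nat_lit 8), (nat_lit 255), (nat_lit 15), (nat_lit 32767), (nat_lit 1), (nat_lit 4),
    fun _ _ => rfl, fun _ => rfl, fun _ _ => rfl, by decide +kernel, we3_all.1⟩

theorem bnd : Bound (ug R5) (gensW 5) 25920 :=
  we1.bound (ug_rels _) (we2.bound (rels_sub (ug_rels _) (by decide +kernel))
    (we3.bound (rels_sub (ug_rels _) (by decide +kernel)) (bound_nil _)))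

theorem R5_cases : ∀ r ∈ R5, (∃ i < 5, r = [2 * i + 1, 2 * i + 1, 2 * i + 1]) ∨
    ∃ j < 10, r = nth [] PW j ++ nth [] PW j := by decide +kernel

end CF.XT.WE
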