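import Cfsg.Agent.XT.WE
import Cfsg.Agent.Comp.Big

set_option autoImplicit false
set_option maxRecDepth 1000000
set_option maxHeartbeats 0
set_option Elab.async false

namespace CF.XT.E8

open CF.Comp

noncomputable def PW : List (List Nat) := [[(nat_lit 1), (nat_lit 3), (nat_lit 10)],
  [(nat_lit 1), (nat_lit 3)],
  [(nat_lit 1), (nat_lit 3), (nat_lit 5)],
  [(nat_lit 1), (nat_lit 3), (nat_lit 5), (nat_lit 7)],
  [(nat_lit 1), (nat_lit 3), (nat_lit 5), (nat_lit 7), (nat_lit 11)],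
  [(nat_lit 1), (nat_lit 3), (nat_lit 5), (nat_lit 7), (nat_lit 11), (nat_lit 13)],
  [(nat_lit 9), (nat_lit 4)],
  [(nat_lit 9), (nat_lit 5)],
  [(nat_lit 9), (nat_lit 5), (nat_lit 7)],
  [(nat_lit 9), (nat_lit 5), (nat_lit 7), (nat_lit 11)],
  [(nat_lit 9), (nat_lit 5), (nat_lit 7), (nat_lit 11), (nat_lit 13)],
  [(nat_lit 3), (nat_lit 5)],
  [(nat_lit 3), (nat_lit 5), (nat_lit 7)],
  [(nat_lit 3), (nat_lit 5), (nat_lit 7), (nat_lit 11)],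
  [(nat_lit 3), (nat_lit 5), (nat_lit 7), (nat_lit 11), (nat_lit 13)],
  [(nat_lit 5), (nat_lit 7)],
  [(nat_lit 5), (nat_lit 7), (nat_lit 11)],
  [(nat_lit 5), (nat_lit 7), (nat_lit 11), (nat_lit 13)],
  [(nat_lit 7), (nat_lit 11)],
  [(nat_lit 7), (nat_lit 11), (nat_lit 13)],
  [(nat_lit 11), (nat_lit 13)]]
noncomputable def cox : List Nat := [1, 3, 10, 3, 7, 13]
noncomputable def R7 : List (List Nat) := [[(nat_lit 1), (nat_lit 1), (nat_lit 1)],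
  [(nat_lit 3), (nat_lit 3), (nat_lit 3)],
  [(nat_lit 5), (nat_lit 5), (nat_lit 5)],
  [(nat_lit 7), (nat_lit 7), (nat_lit 7)],
  [(nat_lit 9), (nat_lit 9), (nat_lit 9)],
  [(nat_lit 11), (nat_lit 11), (nat_lit 11)],
  [(nat_lit 13), (nat_lit 13), (nat_lit 13)],
  [(nat_lit 1), (nat_lit 3), (nat_lit 10), (nat_lit 1), (nat_lit 3), (nat_lit 10)],
  [(nat_lit 1), (nat_lit 3), (nat_lit 1), (nat_lit 3)],
  [(nat_lit 1), (nat_lit 3), (nat_lit 5), (nat_lit 1), (nat_lit 3), (nat_lit 5)],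
  [(nat_lit 1), (nat_lit 3), (nat_lit 5), (nat_lit 7), (nat_lit 1), (nat_lit 3), (nat_lit 5), (nat_lit 7)],
  [(nat_lit 1), (nat_lit 3), (nat_lit 5), (nat_lit 7), (nat_lit 11), (nat_lit 1), (nat_lit 3), (nat_lit 5), (nat_lit 7), (nat_lit 11)],
  [(nat_lit 1), (nat_lit 3), (nat_lit 5), (nat_lit 7), (nat_lit 11), (nat_lit 13), (nat_lit 1), (nat_lit 3), (nat_lit 5), (nat_lit 7), (nat_lit 11), (nat_lit 13)],
  [(nat_lit 9), (nat_lit 4), (nat_lit 9), (nat_lit 4)],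
  [(nat_lit 9), (nat_lit 5), (nat_lit 9), (nat_lit 5)],
  [(nat_lit 9), (nat_lit 5), (nat_lit 7), (nat_lit 9), (nat_lit 5), (nat_lit 7)],
  [(nat_lit 9), (nat_lit 5), (nat_lit 7), (nat_lit 11), (nat_lit 9), (nat_lit 5), (nat_lit 7), (nat_lit 11)],
  [(nat_lit 9), (nat_lit 5), (nat_lit 7), (nat_lit 11), (nat_lit 13), (nat_lit 9), (nat_lit 5), (nat_lit 7), (nat_lit 11), (nat_lit 13)],
  [(nat_lit 3), (nat_lit 5), (nat_lit 3), (nat_lit 5)],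
  [(nat_lit 3), (nat_lit 5), (nat_lit 7), (nat_lit 3), (nat_lit 5), (nat_lit 7)],
  [(nat_lit 3), (nat_lit 5), (nat_lit 7), (nat_lit 11), (nat_lit 3), (nat_lit 5), (nat_lit 7), (nat_lit 11)],
  [(nat_lit 3), (nat_lit 5), (nat_lit 7), (nat_lit 11), (nat_lit 13), (nat_lit 3), (nat_lit 5), (nat_lit 7), (nat_lit 11), (nat_lit 13)],
  [(nat_lit 5), (nat_lit 7), (nat_lit 5), (nat_lit 7)],
  [(nat_lit 5), (nat_lit 7), (nat_lit 11), (nat_lit 5), (nat_lit 7), (nat_lit 11)],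
  [(nat_lit 5), (nat_lit 7), (nat_lit 11), (nat_lit 13), (nat_lit 5), (nat_lit 7), (nat_lit 11), (nat_lit 13)],
  [(nat_lit 7), (nat_lit 11), (nat_lit 7), (nat_lit 11)],
  [(nat_lit 7), (nat_lit 11), (nat_lit 13), (nat_lit 7), (nat_lit 11), (nat_lit 13)],
  [(nat_lit 11), (nat_lit 13), (nat_lit 11), (nat_lit 13)],
  [(nat_lit 1), (nat_lit 3), (nat_lit 10), (nat_lit 3), (nat_lit 7), (nat_lit 13), (nat_lit 1), (nat_lit 3), (nat_lit 10), (nat_lit 3), (nat_lit 7), (nat_lit 13), (nat_lit 1), (nat_lit 3), (nat_lit 10), (nat_lit 3), (nat_lit 7), (nat_lit 13), (nat_lit 1), (nat_lit 3), (nat_lit 10), (nat_lit 3), (nat_lit 7), (nat_lit 13), (nat_lit 1), (nat_lit 3), (nat_lit 10), (nat_lit 3), (nat_lit 7), (nat_lit 13), (nat_lit 1), (nat_lit 3), (nat_lit 10), (nat_lit 3), (nat_lit 7), (nat_lit 13), (nat_lit 1), (nat_lit 3), (nat_lit 10), (nat_lit 3), (nat_lit 7), (nat_lit 13), (nat_lit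 1), (nat_lit 3), (nat_lit 10), (nat_lit 3), (nat_lit 7), (nat_lit 13), (nat_lit 1), (nat_lit 3), (nat_lit 10), (nat_lit 3), (nat_lit 7), (nat_lit 13), (nat_lit 1), (nat_lit 3), (nat_lit 10), (nat_lit 3), (nat_lit 7), (nat_lit 13), (nat_lit 1), (nat_lit 3), (nat_lit 10), (nat_lit 3), (nat_lit 7), (nat_lit 13), (nat_lit 1), (nat_lit 3), (nat_lit 10), (nat_lit 3), (nat_lit 7), (nat_lit 13), (nat_lit 1), (nat_lit 3), (nat_lit 10), (nat_lit 3), (nat_lit 7), (nat_lit 13), (nat_lit 1), (nat_lit 3), (nat_lit 10), (nat_lit 3), (nat_lit 7), (nat_lit 13), (nat_lit 1), (nat_lit 3), (nat_lit 10), (nat_lit 3), (nat_lit 7), (nat_lit 13)]]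
noncomputable def R6 : List (List Nat) := [[(nat_lit 1), (nat_lit 1), (nat_lit 1)],
  [(nat_lit 3), (nat_lit 3), (nat_lit 3)],
  [(nat_lit 5), (nat_lit 5), (nat_lit 5)],
  [(nat_lit 7), (nat_lit 7), (nat_lit 7)],
  [(nat_lit 9), (nat_lit 9), (nat_lit 9)],
  [(nat_lit 11), (nat_lit 11), (nat_lit 11)],
  [(nat_lit 1), (nat_lit 3), (nat_lit 10), (nat_lit 1), (nat_lit 3), (nat_lit 10)],
  [(nat_lit 1), (nat_lit 3), (nat_lit 1), (nat_lit 3)],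
  [(nat_lit 1), (nat_lit 3), (nat_lit 5), (nat_lit 1), (nat_lit 3), (nat_lit 5)],
  [(nat_lit 1), (nat_lit 3), (nat_lit 5), (nat_lit 7), (nat_lit 1), (nat_lit 3), (nat_lit 5), (nat_lit 7)],
  [(nat_lit 1), (nat_lit 3), (nat_lit 5), (nat_lit 7), (nat_lit 11), (nat_lit 1), (nat_lit 3), (nat_lit 5), (nat_lit 7), (nat_lit 11)],
  [(nat_lit 9), (nat_lit 4), (nat_lit 9), (nat_lit 4)],
  [(nat_lit 9), (nat_lit 5), (nat_lit 9), (nat_lit 5)],
  [(nat_lit 9), (nat_lit 5), (nat_lit 7), (nat_lit 9), (nat_lit 5), (nat_lit 7)],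
  [(nat_lit 9), (nat_lit 5), (nat_lit 7), (nat_lit 11), (nat_lit 9), (nat_lit 5), (nat_lit 7), (nat_lit 11)],
  [(nat_lit 3), (nat_lit 5), (nat_lit 3), (nat_lit 5)],
  [(nat_lit 3), (nat_lit 5), (nat_lit 7), (nat_lit 3), (nat_lit 5), (nat_lit 7)],
  [(nat_lit 3), (nat_lit 5), (nat_lit 7), (nat_lit 11), (nat_lit 3), (nat_lit 5), (nat_lit 7), (nat_lit 11)],
  [(nat_lit 5), (nat_lit 7), (nat_lit 5), (nat_lit 7)],
  [(nat_lit 5), (nat_lit 7), (nat_lit 11), (nat_lit 5), (nat_lit 7), (nat_lit 11)],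
  [(nat_lit 7), (nat_lit 11), (nat_lit 7), (nat_lit 11)]]
noncomputable def e81_c0 : BT (Bx Nat) := (BT.leaf (Bx.mk (nat_lit 0x0)))
noncomputable def e81_c1 : BT (Bx Nat) := (BT.leaf (Bx.mk (nat_lit 0x285ed1b0b80217d8d3fea485f4230798d83e0841e249ce9302f793859458be44616313075a181a8744ee3e16248e73991798a44c04e15a28e6f948970d0bb14c0ee250761485553c1ba420e8530a9948364ac1c86c5d23d0a6168128b41a05a14655126d30384ac2ac560de4f0a3977352981b67e0cb4106b9d81450b97c81fbd510611f733a90b70821493f0a453033d50b8b485b4590a02573112c18686031550185216b964472ac5c14109e2984ed70b74b60bf5d119b07ec93c16eb05b6a42d2af16d57b95ab45ac6c2d5b516bd8c052c222864e53ac1699b0b54cc5a46a2d1b71689a4142d611a702cfb21679c0b3ac45987b10db6825dc8b32e9f966ef90308471d0b24fa0947f088bd16422391eec59581049c3843624115485888d08653023a90b0d1e20b91084c9821e5390b2e00498fc1cd7c0a9830200000)))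
noncomputable def e81_c2 : BT (Bx Nat) := (BT.leaf (Bx.mk (nat_lit 0x306f21a37483b5d8c8dea4eb74203798cafb478de2306f7336b7d21b805d8f0446df10375a01ba888de03c6dc463739aaf9890ddc506d9203760e1ba290da44c6e526371941b4130dba4c6e2a4366921b9098db46ec613e365941b4498dbc586ce5036d9caf60e0d94546d5a43611e1b1948da6746d73c366151b58f8d88786c34c367951b515d882906be4835ea71b1d65a70ac6bf5835a201b24f8d907c6b75035b2fb0d558d734c0c54c358adaec18575d4c0c05a359af1ac900d78a46bb6d6155302e970d5abab2c6f915b7ae9580d52bc6a862353adb29a9815ed2ca46d691b8b48998d42d86977364fb3b479cda3abc6967834db41a81d5732cab9c6a34d391a61e5720f46947e347bbb055f0d26fab1286348d21a2a10d1d1468b8c344431a3638d0f4c08c9034353022648d0b2868496341cc1a0a90d0200000)))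
noncomputable def e81_c3 : BT (Bx Nat) := (BT.leaf (Bx.mk (nat_lit 0x1484e91e6390313d8db3ea55a7424d770c13c0935d83c4f732277938794c35f04cc6314d742269a8c98da459e24a6339b1386809e7484d6a60788b31ace09b06db603862f976751435b6644dc530e9956b90eb5a3404e6a4264966968b35bc619d55a26ea21348f18947dace5c262a031195b69a81ad74ad62530365098985cc4850d67a031414e68e98c3e4ccdcad6b0571870ae1c0a4259d3032d2b5867e1bc510ddad12e96897abc4c250b56b012b180956b84bf5e25a3166c93b56ebc4b668257b112d580962b84b07025752128993452c44a866613b76899d3554e0c246c251bb3095b3540e169a78d0fb96a71d983aed9987ed8db73085eb52ae8c1e78b4bbf6659f342501a9382608d302667182909a108a607cf12322351d15b0d90d84476a2e3c3134048aa4242ca6a1e5980d31a049acc1ce5a0a9830200000)))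
noncomputable def e81_c4 : BT (Bx Nat) := (BT.leaf (Bx.mk (nat_lit 0x5c8ed21bf804bdd8d11ea508f4a25b28e23de911c637072357b79123ccc11d2448f1144712123aa981f0248eb48473d12d60911dc508da244761023a0e60cc688e03646f952355716a668b5c4e46e95235a91194776e13e466530390b91a8588de5046da32d48e11b27c8c64e4639e23415119a808c9a445f1d2346981ae588c8504629f23397979e908cb4845eb0bce161184a88c05f81a25231171672788bc4e45dae2ee929186b48c14c458b0c4c195d5cc0b33a605fb022c98de5abf02c6a5d7b9baad3916ec71366381ab9229589152c8b2864453b62299d1144dc8a46f791d302a9b1134d48a17644fb92261d113ae089e7c44db7228291124e889c7644bbe2259e1133348917e44a3d2256011270489088447c322362111940b8e8c445512c22311131c88b924434a22169810f2c88498441cd220a9110200000)))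
noncomputable def e81_c5 : BT (Bx Nat) := (BT.leaf (Bx.mk (nat_lit 0x5dbf81c2370411ace27ea5947421afb976394bb7c84ca72342330d11ccfb1c04ca71189f42351a8c94da144764c52e9b1184a6be05346c2c52d15638a981de6b5e93c52c956f793b7b6698dca6073975158fe8a27d8d83edeb98518cca79060a55511a9a46349028be853c34ade7a029416319b4844062ddfa9512909498693d4a421dad4ef53148e98a4b429e75210d9914848b6494fa222f28d18a7727a33c4ede2ac10e96148cd4a304cddbb35105a276ac18b364a1f324ec99a650d942c66217d2108d914634c0b870217396ea99a852d132d68510b8509a7883ee8a1e6e215bc1095c2640d54277a2113b4e71e14334c0a47e20db94c69eb72af13987a98bc04e5a8083b4840ea250a3f504a1081b0d410a420553024e188194c0918c507c76e2e346132588892dc3d210126140d354059c9c1cf4c0a9830200000)))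
noncomputable def e81_c6 : BT (Bx Nat) := (BT.leaf (Bx.mk (nat_lit 0x587f81e3f98633a0d8fea547f41d237121fc090fd84c7e5a43f08fdddcc0fd24c7e40b23b221fa8c8fc02c7eba43ed9b91bcb0fe4587f12e3eb141f88e6ecc787ed3e3e8941f7928fce647dc4c3ee951f8ce8fbe787d83c3eb961f68b8fa8647c84e3e9a31f48f0fb27c7ce483e7a01f0d58f9a807c94a3e2281f2908f80607d54a3e2ab1ee530f76987bf403e8311f0590f6d4c0cc603e5b11ecd60f8c747bca6063adb8e980f7b487ac4a3dbd3030998f6ab87be5e3da311ec988f5ad07b869717b9a6ad98f50d47b071211b81ea990f52c87b1683d0371e99ec8454879ca60573e327d98f4edc7a1a06d2b91e928992ae879e806cdb81e69d8f3aec798783cbbf1e59e0f3340793a43c73e1e4a90f19087908a3c5d302521c82310d8d8c3c553023e28f1320788903c3cb1e1660f094c0869a3c1ce1e0a90f0200000)))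
noncomputable def e81_c7 : BT (Bx Nat) := (BT.leaf (Bx.mk (nat_lit 0x59c78a41f4060fccea2ea5d1ef121f59153c88a9e3483e230a730c47dcba9db483de0a1fb24479e907b83516e4aa6ed303d0923e0491eca41ea935394cb8c2611e9a41e8135392981d4654e04ce2d98478cea3be6995834e2b9a4750ca2b46d1484f529a265490a39c794d946e27a2450d5b29a6d4cc46a65aa471a907794c0d648a63ab52f532975483b7a6068b1530a9076a711c9488e2520ec698194754c04a8e2abcaed922733c3ae4aa5fb40f05a876cb91be688d6b344c97a968e03b865517b90ec1aa150dd1ab70891b60ea9aa34f4c0b36c850b94691d874ae949ea01d6520e6e98152e50a07a1d1500e9a90728f111c7c1cfba4269da33af51187c84bc14459fa326f149980e074046460a91b1118f8aa45530256981250990c8ce05d302422d4132190890e03cb521a90707391859e88250420a9830200000)))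
noncomputable def e81_c8 : BT (Bx Nat) := (BT.leaf (Bx.mk (nat_lit 0x54778163b70699ace0eeb487660e6bb101dc880ee2447652c3ba0c1da0b0eda4476414779d21d74b8ec14c0f7463b5171dbc90ec44875e2e3ad5303c0c0ec26075c383acd303b120ecf4c0e94a3ad981d54e8ea064758323abd21d22981c6647564c3a9a11d4a90e874c0df443a7a01d4550e9a6874c443a5d21cf4d8e8068754463a3a91d2920e768c73f423a7301d09acc6c7073c4839bad1cd150e8d4c0c95439d251d1588e72e6630a60623634d698182b8731a4394321cca9817ce8d2e62397d03ae198e6744d236c396379aaa90e42d072d68394d13479e1d4ae07266e395be987da8e4ee07207f2cdb91c91d0e32ec71ca6051391c69d8e28f07187a38bc01c5a90e1d4c09d7c38ad21c35f8e254870a863883f1c4e00e230470c8a385c41c3e20e131c7088e383ca1c1a68e0938703a6042cf1c0a90e0200000)))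
noncomputable def e81_c9 : BT (Bx Nat) := (BT.leaf (Bx.mk (nat_lit 0x5aaf81ec388315d8daeea557f4202b71227c0713d84d86332c37911590c13d23eaf7144f4215fa8cb0be4575e44c339b278690aad4c0f3a6079175d50e55af48551a60768b61ad193b67174e48c27952794d8ac148549a6073165f68b13c461755a42a2d21510e0ab26c9dca606e9f614290a82809d84a4e9285f290b0985d848484e9ab61192b08e9984b40ba1ad273573084a45405d55fae60f9713727453c4c29dadb6e97b064d18384a29bafaad970a6ac09b362bd4b05cf58935ad452c696d7b614ad9304edd7a66a4d238aaaa98168d162064c18b426c1c9344e182e72b8e3a607599350d4521a428ab7268e9814ae051ea4289b85869d933eed71878b0bbf5c59e55330051b8228a3e5e4a08a23097908ac07c2143a20a1914509a4283d1262e9811b48505a60454a26225b00d317849ab81ce580a9830200000)))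
noncomputable def e81_c10 : BT (Bx Nat) := (BT.leaf (Bx.mk (nat_lit 0x546781c3360495d8d0cea50674a433252198c70cee4467230337918fce90cbe346711432f2019a8b8cda2466b42333d2195ca0cb44a4ee24338151954d0ccc723d9303349019a290c9e686504432e951958ec9a27c64c36330d30394b8ca85866246323a4192e981c07864e4632d9b197160c84806494a32227192a981b05864848322aa191a981a74c0d23e321ad19069819aaa2c05a31fad18f978c647a2bc4f15dac18e968c7acc6384d25bae18d97c96b486295e31a2e18e588c4ecc62666317b7189180c62db0b06f7d73718a980c66c862162316b618b290c3ad062b6c30f381895b4940cc6287430cb99271c8c44e0623831ca371869d8c2ae86187630bbe185a9813f0a513a604dbd184a14a230461088307c3923a90c131638da030552181e3451924606a6045ca1816981112c60498301cd180a90c0200000)))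
noncomputable def e81_c11 : BT (Bx Nat) := (BT.leaf (Bx.mk (nat_lit 0x51df81693b840dbcf15d4534f60e1b30f55c87aae241270061ba0e2b84aaada4126c101b99f499cb24d23dd6ea607a96d5ac924b0492572e931912b94b1fd0612523692f912b9102aba5cae042eadd20d30ea49660fe2307ef4f0d24c95b484ad644ea9a03f727868870ad944ee7b00d4553a9a6b55545aa84f0cf911fa87cac046aa3b40d292248ac434e4655fae0d099868280fbc49a5bb50d195246940348a4197a92aed99566dc338a01a1d20caa8956ca4ab168916b42aa68067b483255491d390cc28067348322a25565302d5aa44ed8fa8a0199520c75d065ce0aa67254fd302adb9f42e8fa074e8dba2a65ca448f4a95a6051bb3e69daa28f8a927e7cbc22a41f24274c09ea604e3f4846981310d20fa604b3f763a02a1b05d0c8aec5c4542a263131dd088eec3ca541a6a40b48302a0542513e0e9830200000)))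
noncomputable def e81_c12 : BT (Bx Nat) := (BT.leaf (Bx.mk (nat_lit 0x4c8781443b9321d2910ce127ef133b58e21c8710e23c8700a7bb0e21a0a10da3c86c2a4331d21d4a90d2548613c435089fcc810c44085e2c431972160690dc5885c3442f97215cf90ba7c8524042d982154d90a04486522432202150c909884849424299721818cf9c8484b42427b239114909b4c0da3842cb59f1a81ead44e3c44423b638f91908b40f51a271baf9d09a1e827884844421d03d2a89c627c8405041d2920be89c5ae0f384641fd020d691054a483d6441cd1389d41068ea7aea605dbb9c95990674082ba44115302d999064d482868414b7209298160e081da440dd302b1b1042e482070411d220529814d488137240fba2069c903d488117c40bd2203de1038e88197a40abd2061f102504816844083e2039f901b0080c88405c3202a19013188088c403c9201a6100b3c803a04015302129100200000)))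
noncomputable def e81_c13 : BT (Bx Nat) := (BT.leaf (Bx.mk (nat_lit 0x4def81497bd20b9c9a0e8082ea0c1798e57c872be23d2f0284bb0d41b8a2bda3d2eca416e810bd4aa5d3482db2a9779425ac820ca410642c971d20b4cb12d0590603496fd20b3caa0cd482cd2ef70974168da0b260962304af20415a9058f482c532f2c202571785a3482c232f6bd20b050bca460955404a8330b29112a9482bb32826520ae11a592c42cea415b21412d9058880948444a1b50b1a90560a093a42ae029cebe90558d82be6849aa340fdabd549c93d6449cd20a99a925ca1034a605e365695b1256cd0336e9515302dd99264dc9236e4923440a698162e129d7080fd302b5c123cec91ca60543940669814ef101572f0dbc246298142f50128048b41404298140e95947a949d30269f25234c09784947be7a39fab1b01e0c88f45c3562a1e71319e088cf43c9561a6250b3d004a4140d1240e9810400000)))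
noncomputable def e81_c14 : BT (Bx Nat) := (BT.leaf (Bx.mk (nat_lit 0x482781213b9309bc151d4482750f4b98d09c8684e238270281338c09b8984da3826c2613303a5d0a04d254261a607b140974784ca3c2642a131970960b04b6542603212f97095e981d67c252a6074160968d04b260253301279f0958b849884249a6071200935852a27c24ba606f32a312981b8602474012134a5291048a7c240a606ab6a2fa981a8ce8414211fd303429819c8023b4411b37a0e1304694822fa60642708f1884674c0c6a411553030d9846e9c230641163208a69044b4c0bd5011d3408c6904454c0b96a116b408d59844d4821fa410ed302c9a845cd82276c1143608ae90433482156e111b70885b8448e82207010dd20849c043cec21aa41083f085dd8438e421478109bc0861e84230021682107bd0839f041afc20c86105c2082a10413142088a103c8081a5840b38204a01015208069810600000)))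
noncomputable def e81_p : BT (Bx Nat) := (BT.leaf (Bx.mk (nat_lit 0x1fa44fd047e73bf397d987ec84f6327b187d888ec22f6007af93d788eba775d1fae11d6ceeb62ed7276b15b584daa46d33b6903b44ada046cf3b6793b34ed9a0ecc332507924ac9226481f239d914ec8a56442b218f908ec840e413b20959006b7c1dbd1ede116eceb7635b83adc056dc8b6c75b61ada916d02a66253122981d4bcda5e652e0a961d4b05a546d2a3295174a499503ca63a529b294c94a14a31a511b288c9445ca212508f07cd83a6c1d320e9307058365c1b220c9ae54d72a53942dca10e4cb726539235c906c44b6206b0f2d870ec38661c2b0d1d460aa287514328a054492820240e5207250304614a30a2184188190408c10270813400000000)))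
noncomputable def e81_e0 : BT Nat := (BT.node (nat_lit 71) (BT.node (nat_lit 67) (BT.leaf (nat_lit 1310722)) (BT.node (nat_lit 69) (BT.leaf (nat_lit 1048578)) (BT.leaf (nat_lit 786434)))) (BT.node (nat_lit 73) (BT.leaf (nat_lit 524290)) (BT.node (nat_lit 75) (BT.leaf (nat_lit 262146)) (BT.leaf (nat_lit 2)))))
noncomputable def e81_e : BT Nat := e81_e0
noncomputable def e81_cols : List (BT (Bx Nat)) := [e81_c0, e81_c1, e81_c2, e81_c3, e81_c4, e81_c5, e81_c6, e81_c7, e81_c8, e81_c9, e81_c10, e81_c11, e81_c12, e81_c13, e81_c14]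
noncomputable def e81_ch (x j : Nat) : Bx Nat := chunkG e81_cols (nat_lit 1) x j
noncomputable def e81_L (x : Nat) : Bx (Nat → Nat) := lookG e81_ch (nat_lit 8) (nat_lit 255) (nat_lit 21) (nat_lit 2097151) x
noncomputable def e81_pc (_ j : Nat) : Bx Nat := e81_p.get j
noncomputable def e81_pb : Bx (Nat → Nat) := lookG e81_pc (nat_lit 8) (nat_lit 255) (nat_lit 17) (nat_lit 131071) (nat_lit 0)
noncomputable def e81_rots : BT CW := (BT.node (nat_lit 55) (BT.node (nat_lit 27) (BT.node (nat_lit 13) (BT.node (nat_lit 6) (BT.node (nat_lit 3) (BT.node (nat_lit 1) (BT.leaf ⟨[], (nat_lit 1000000), (nat_lit 0), (nat_lit 0), (nat_lit 0)⟩) (BT.node (nat_lit 2) (BT.leaf ⟨[], (nat_lit 1000000), (nat_lit 0), (nat_lit 0), (nat_lit 1)⟩) (BT.leaf ⟨[], (nat_lit 1000000), (nat_lit 0), (nat_lit 0), (nat_lit 2)⟩))) (BT.node (nat_lit 4) (BT.leaf ⟨[(nat_lit 14), (nat_lit 13)], (nat_lit 29), (nat_lit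 1), (nat_lit 0), (nat_lit 3)⟩) (BT.node (nat_lit 5) (BT.leaf ⟨[(nat_lit 13), (nat_lit 14)], (nat_lit 29), (nat_lit 0), (nat_lit 0), (nat_lit 3)⟩) (BT.leaf ⟨[(nat_lit 11), (nat_lit 12)], (nat_lit 30), (nat_lit 0), (nat_lit 0), (nat_lit 3)⟩)))) (BT.node (nat_lit 9) (BT.node (nat_lit 7) (BT.leaf ⟨[(nat_lit 7), (nat_lit 8)], (nat_lit 32), (nat_lit 0), (nat_lit 0), (nat_lit 3)⟩) (BT.node (nat_lit 8) (BT.leaf ⟨[(nat_lit 5), (nat_lit 6)], (nat_lit 33), (nat_lit 0), (nat_lit 0), (nat_lit 3)⟩) (BT.leaf ⟨[(nat_lit 3), (nat_lit 4)], (nat_lit 34), (nat_lit 0), (nat_lit 0), (nat_lit 3)⟩))) (BT.node (nat_lit 11) (BT.node (nat_lit 10) (BT.leaf ⟨[(nat_lit 9), (nat_lit 10)], (nat_lit 31), (nat_lit 0), (nat_lit 0), (nat_lit 3)⟩) (BT.leaf ⟨[(nat_lit 1), (nat_lit 2)], (nat_lit 35), (nat_lit 0), (nat_lit 0), (nat_lit 3)⟩)) (BT.node (nat_lit 12) (BT.leaf ⟨[(nat_lit 10), (nat_lit 9)], (nat_lit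 31), (nat_lit 1), (nat_lit 0), (nat_lit 3)⟩) (BT.leaf ⟨[(nat_lit 2), (nat_lit 1)], (nat_lit 35), (nat_lit 1), (nat_lit 0), (nat_lit 3)⟩))))) (BT.node (nat_lit 20) (BT.node (nat_lit 16) (BT.node (nat_lit 14) (BT.leaf ⟨[(nat_lit 8), (nat_lit 7)], (nat_lit 32), (nat_lit 1), (nat_lit 0), (nat_lit 3)⟩) (BT.node (nat_lit 15) (BT.leaf ⟨[(nat_lit 6), (nat_lit 5)], (nat_lit 33), (nat_lit 1), (nat_lit 0), (nat_lit 3)⟩) (BT.leaf ⟨[(nat_lit 12), (nat_lit 11)], (nat_lit 30), (nat_lit 1), (nat_lit 0), (nat_lit 3)⟩))) (BT.node (nat_lit 18) (BT.node (nat_lit 17) (BT.leaf ⟨[(nat_lit 4), (nat_lit 3)], (nat_lit 34), (nat_lit 1), (nat_lit 0), (nat_lit 3)⟩) (BT.leaf ⟨[(nat_lit 13), (nat_lit 13), (nat_lit 13)], (nat_lit 6), (nat_lit 0), (nat_lit 0), (nat_lit 3)⟩)) (BT.node (nat_lit 19) (BT.leaf ⟨[(nat_lit 9), (nat_lit 9), (nat_lit 9)], (nat_lit 4), (nat_lit 0), (nat_lit 0), (nat_lit 3)⟩) (BT.leaf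 ⟨[(nat_lit 5), (nat_lit 5), (nat_lit 5)], (nat_lit 2), (nat_lit 0), (nat_lit 0), (nat_lit 3)⟩)))) (BT.node (nat_lit 23) (BT.node (nat_lit 21) (BT.leaf ⟨[(nat_lit 11), (nat_lit 11), (nat_lit 11)], (nat_lit 5), (nat_lit 0), (nat_lit 0), (nat_lit 3)⟩) (BT.node (nat_lit 22) (BT.leaf ⟨[(nat_lit 4), (nat_lit 9), (nat_lit 4), (nat_lit 9)], (nat_lit 13), (nat_lit 1), (nat_lit 0), (nat_lit 3)⟩) (BT.leaf ⟨[(nat_lit 4), (nat_lit 2), (nat_lit 4), (nat_lit 2)], (nat_lit 44), (nat_lit 0), (nat_lit 0), (nat_lit 3)⟩))) (BT.node (nat_lit 25) (BT.node (nat_lit 24) (BT.leaf ⟨[(nat_lit 3), (nat_lit 5), (nat_lit 3), (nat_lit 5)], (nat_lit 18), (nat_lit 0), (nat_lit 0), (nat_lit 3)⟩) (BT.leaf ⟨[(nat_lit 6), (nat_lit 8), (nat_lit 6), (nat_lit 8)], (nat_lit 58), (nat_lit 1), (nat_lit 0), (nat_lit 3)⟩)) (BT.node (nat_lit 26) (BT.leaf ⟨[(nat_lit 8), (nat_lit 12), (nat_lit 8), (nat_lit 12)], (nat_lit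 61), (nat_lit 1), (nat_lit 0), (nat_lit 3)⟩) (BT.leaf ⟨[(nat_lit 6), (nat_lit 10), (nat_lit 6), (nat_lit 10)], (nat_lit 50), (nat_lit 0), (nat_lit 0), (nat_lit 3)⟩)))))) (BT.node (nat_lit 41) (BT.node (nat_lit 34) (BT.node (nat_lit 30) (BT.node (nat_lit 28) (BT.leaf ⟨[(nat_lit 12), (nat_lit 14), (nat_lit 12), (nat_lit 14)], (nat_lit 63), (nat_lit 1), (nat_lit 0), (nat_lit 3)⟩) (BT.node (nat_lit 29) (BT.leaf ⟨[(nat_lit 8), (nat_lit 6), (nat_lit 8), (nat_lit 6)], (nat_lit 58), (nat_lit 0), (nat_lit 0), (nat_lit 3)⟩) (BT.leaf ⟨[(nat_lit 12), (nat_lit 8), (nat_lit 12), (nat_lit 8)], (nat_lit 61), (nat_lit 0), (nat_lit 0), (nat_lit 3)⟩))) (BT.node (nat_lit 32) (BT.node (nat_lit 31) (BT.leaf ⟨[(nat_lit 11), (nat_lit 13), (nat_lit 11), (nat_lit 13)], (nat_lit 27), (nat_lit 0), (nat_lit 0), (nat_lit 3)⟩) (BT.leaf ⟨[(nat_lit 13), (nat_lit 11), (nat_lit 13), (nat_lit 11)], (nat_lit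 27), (nat_lit 1), (nat_lit 0), (nat_lit 3)⟩)) (BT.node (nat_lit 33) (BT.leaf ⟨[(nat_lit 7), (nat_lit 11), (nat_lit 13), (nat_lit 7), (nat_lit 11), (nat_lit 13)], (nat_lit 26), (nat_lit 0), (nat_lit 0), (nat_lit 3)⟩) (BT.leaf ⟨[(nat_lit 7), (nat_lit 11), (nat_lit 7), (nat_lit 11)], (nat_lit 25), (nat_lit 0), (nat_lit 0), (nat_lit 3)⟩)))) (BT.node (nat_lit 37) (BT.node (nat_lit 35) (BT.leaf ⟨[(nat_lit 7), (nat_lit 7), (nat_lit 7)], (nat_lit 3), (nat_lit 0), (nat_lit 0), (nat_lit 3)⟩) (BT.node (nat_lit 36) (BT.leaf ⟨[(nat_lit 11), (nat_lit 7), (nat_lit 11), (nat_lit 7)], (nat_lit 25), (nat_lit 1), (nat_lit 0), (nat_lit 3)⟩) (BT.leaf ⟨[(nat_lit 13), (nat_lit 7), (nat_lit 11), (nat_lit 13), (nat_lit 7), (nat_lit 11)], (nat_lit 26), (nat_lit 2), (nat_lit 0), (nat_lit 3)⟩))) (BT.node (nat_lit 39) (BT.node (nat_lit 38) (BT.leaf ⟨[(nat_lit 5), (nat_lit 7), (nat_lit 11), (nat_lit 13),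 (nat_lit 5), (nat_lit 7), (nat_lit 11), (nat_lit 13)], (nat_lit 24), (nat_lit 0), (nat_lit 0), (nat_lit 3)⟩) (BT.leaf ⟨[(nat_lit 5), (nat_lit 7), (nat_lit 11), (nat_lit 5), (nat_lit 7), (nat_lit 11)], (nat_lit 23), (nat_lit 0), (nat_lit 0), (nat_lit 3)⟩)) (BT.node (nat_lit 40) (BT.leaf ⟨[(nat_lit 5), (nat_lit 7), (nat_lit 5), (nat_lit 7)], (nat_lit 22), (nat_lit 0), (nat_lit 0), (nat_lit 3)⟩) (BT.leaf ⟨[(nat_lit 7), (nat_lit 5), (nat_lit 7), (nat_lit 5)], (nat_lit 22), (nat_lit 1), (nat_lit 0), (nat_lit 3)⟩))))) (BT.node (nat_lit 48) (BT.node (nat_lit 44) (BT.node (nat_lit 42) (BT.leaf ⟨[(nat_lit 11), (nat_lit 5), (nat_lit 7), (nat_lit 11), (nat_lit 5), (nat_lit 7)], (nat_lit 23), (nat_lit 2), (nat_lit 0), (nat_lit 3)⟩) (BT.node (nat_lit 43) (BT.leaf ⟨[(nat_lit 13), (nat_lit 5), (nat_lit 7), (nat_lit 11), (nat_lit 13), (nat_lit 5), (nat_lit 7), (nat_lit 11)], (nat_lit 24),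 (nat_lit 3), (nat_lit 0), (nat_lit 3)⟩) (BT.leaf ⟨[(nat_lit 9), (nat_lit 5), (nat_lit 7), (nat_lit 11), (nat_lit 13), (nat_lit 9), (nat_lit 5), (nat_lit 7), (nat_lit 11), (nat_lit 13)], (nat_lit 17), (nat_lit 0), (nat_lit 0), (nat_lit 3)⟩))) (BT.node (nat_lit 46) (BT.node (nat_lit 45) (BT.leaf ⟨[(nat_lit 3), (nat_lit 5), (nat_lit 7), (nat_lit 11), (nat_lit 13), (nat_lit 3), (nat_lit 5), (nat_lit 7), (nat_lit 11), (nat_lit 13)], (nat_lit 21), (nat_lit 0), (nat_lit 0), (nat_lit 3)⟩) (BT.leaf ⟨[(nat_lit 9), (nat_lit 5), (nat_lit 7), (nat_lit 11), (nat_lit 9), (nat_lit 5), (nat_lit 7), (nat_lit 11)], (nat_lit 16), (nat_lit 0), (nat_lit 0), (nat_lit 3)⟩)) (BT.node (nat_lit 47) (BT.leaf ⟨[(nat_lit 9), (nat_lit 5), (nat_lit 7), (nat_lit 9), (nat_lit 5), (nat_lit 7)], (nat_lit 15), (nat_lit 0), (nat_lit 0), (nat_lit 3)⟩) (BT.leaf ⟨[(nat_lit 9), (nat_lit 5), (nat_lit 9), (nat_lit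 5)], (nat_lit 14), (nat_lit 0), (nat_lit 0), (nat_lit 3)⟩)))) (BT.node (nat_lit 51) (BT.node (nat_lit 49) (BT.leaf ⟨[(nat_lit 5), (nat_lit 9), (nat_lit 5), (nat_lit 9)], (nat_lit 14), (nat_lit 1), (nat_lit 0), (nat_lit 3)⟩) (BT.node (nat_lit 50) (BT.leaf ⟨[(nat_lit 7), (nat_lit 9), (nat_lit 5), (nat_lit 7), (nat_lit 9), (nat_lit 5)], (nat_lit 15), (nat_lit 2), (nat_lit 0), (nat_lit 3)⟩) (BT.leaf ⟨[(nat_lit 3), (nat_lit 5), (nat_lit 7), (nat_lit 11), (nat_lit 3), (nat_lit 5), (nat_lit 7), (nat_lit 11)], (nat_lit 20), (nat_lit 0), (nat_lit 0), (nat_lit 3)⟩))) (BT.node (nat_lit 53) (BT.node (nat_lit 52) (BT.leaf ⟨[(nat_lit 3), (nat_lit 5), (nat_lit 7), (nat_lit 3), (nat_lit 5), (nat_lit 7)], (nat_lit 19), (nat_lit 0), (nat_lit 0), (nat_lit 3)⟩) (BT.leaf ⟨[(nat_lit 3), (nat_lit 3), (nat_lit 3)], (nat_lit 1), (nat_lit 0), (nat_lit 0), (nat_lit 3)⟩)) (BT.node (nat_lit 54) (BT.leaf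 ⟨[(nat_lit 3), (nat_lit 10), (nat_lit 3), (nat_lit 10)], (nat_lit 49), (nat_lit 0), (nat_lit 0), (nat_lit 3)⟩) (BT.leaf ⟨[(nat_lit 5), (nat_lit 3), (nat_lit 5), (nat_lit 3)], (nat_lit 18), (nat_lit 1), (nat_lit 0), (nat_lit 3)⟩))))))) (BT.node (nat_lit 83) (BT.node (nat_lit 69) (BT.node (nat_lit 62) (BT.node (nat_lit 58) (BT.node (nat_lit 56) (BT.leaf ⟨[(nat_lit 7), (nat_lit 3), (nat_lit 5), (nat_lit 7), (nat_lit 3), (nat_lit 5)], (nat_lit 19), (nat_lit 2), (nat_lit 0), (nat_lit 3)⟩) (BT.node (nat_lit 57) (BT.leaf ⟨[(nat_lit 1), (nat_lit 3), (nat_lit 5), (nat_lit 1), (nat_lit 3), (nat_lit 5)], (nat_lit 9), (nat_lit 0), (nat_lit 0), (nat_lit 3)⟩) (BT.leaf ⟨[(nat_lit 11), (nat_lit 9), (nat_lit 5), (nat_lit 7), (nat_lit 11), (nat_lit 9), (nat_lit 5), (nat_lit 7)], (nat_lit 16), (nat_lit 3), (nat_lit 0), (nat_lit 3)⟩))) (BT.node (nat_lit 60) (BT.node (nat_lit 59) (BT.leaf ⟨[(nat_lit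 11), (nat_lit 3), (nat_lit 5), (nat_lit 7), (nat_lit 11), (nat_lit 3), (nat_lit 5), (nat_lit 7)], (nat_lit 20), (nat_lit 3), (nat_lit 0), (nat_lit 3)⟩) (BT.leaf ⟨[(nat_lit 13), (nat_lit 9), (nat_lit 5), (nat_lit 7), (nat_lit 11), (nat_lit 13), (nat_lit 9), (nat_lit 5), (nat_lit 7), (nat_lit 11)], (nat_lit 17), (nat_lit 4), (nat_lit 0), (nat_lit 3)⟩)) (BT.node (nat_lit 61) (BT.leaf ⟨[(nat_lit 13), (nat_lit 3), (nat_lit 5), (nat_lit 7), (nat_lit 11), (nat_lit 13), (nat_lit 3), (nat_lit 5), (nat_lit 7), (nat_lit 11)], (nat_lit 21), (nat_lit 4), (nat_lit 0), (nat_lit 3)⟩) (BT.leaf ⟨[(nat_lit 1), (nat_lit 3), (nat_lit 5), (nat_lit 7), (nat_lit 11), (nat_lit 13), (nat_lit 1), (nat_lit 3), (nat_lit 5), (nat_lit 7), (nat_lit 11), (nat_lit 13)], (nat_lit 12), (nat_lit 0), (nat_lit 0), (nat_lit 3)⟩)))) (BT.node (nat_lit 65) (BT.node (nat_lit 63) (BT.leaf ⟨[(nat_lit 1), (nat_lit 3),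 (nat_lit 5), (nat_lit 7), (nat_lit 11), (nat_lit 1), (nat_lit 3), (nat_lit 5), (nat_lit 7), (nat_lit 11)], (nat_lit 11), (nat_lit 0), (nat_lit 0), (nat_lit 3)⟩) (BT.node (nat_lit 64) (BT.leaf ⟨[(nat_lit 1), (nat_lit 3), (nat_lit 5), (nat_lit 7), (nat_lit 1), (nat_lit 3), (nat_lit 5), (nat_lit 7)], (nat_lit 10), (nat_lit 0), (nat_lit 0), (nat_lit 3)⟩) (BT.leaf ⟨[(nat_lit 1), (nat_lit 3), (nat_lit 1), (nat_lit 3)], (nat_lit 8), (nat_lit 0), (nat_lit 0), (nat_lit 3)⟩))) (BT.node (nat_lit 67) (BT.node (nat_lit 66) (BT.leaf ⟨[(nat_lit 1), (nat_lit 1), (nat_lit 1)], (nat_lit 0), (nat_lit 0), (nat_lit 0), (nat_lit 3)⟩) (BT.leaf ⟨[(nat_lit 3), (nat_lit 1), (nat_lit 3), (nat_lit 1)], (nat_lit 8), (nat_lit 1), (nat_lit 0), (nat_lit 3)⟩)) (BT.node (nat_lit 68) (BT.leaf ⟨[(nat_lit 1), (nat_lit 3), (nat_lit 10), (nat_lit 1), (nat_lit 3), (nat_lit 10)], (nat_lit 7), (nat_lit 0), (nat_lit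 0), (nat_lit 3)⟩) (BT.leaf ⟨[(nat_lit 10), (nat_lit 1), (nat_lit 3), (nat_lit 10), (nat_lit 1), (nat_lit 3)], (nat_lit 7), (nat_lit 2), (nat_lit 0), (nat_lit 3)⟩))))) (BT.node (nat_lit 76) (BT.node (nat_lit 72) (BT.node (nat_lit 70) (BT.leaf ⟨[(nat_lit 5), (nat_lit 1), (nat_lit 3), (nat_lit 5), (nat_lit 1), (nat_lit 3)], (nat_lit 9), (nat_lit 2), (nat_lit 0), (nat_lit 3)⟩) (BT.node (nat_lit 71) (BT.leaf ⟨[(nat_lit 10), (nat_lit 10), (nat_lit 10)], (nat_lit 40), (nat_lit 0), (nat_lit 0), (nat_lit 3)⟩) (BT.leaf ⟨[(nat_lit 6), (nat_lit 6), (nat_lit 6)], (nat_lit 38), (nat_lit 0), (nat_lit 0), (nat_lit 3)⟩))) (BT.node (nat_lit 74) (BT.node (nat_lit 73) (BT.leaf ⟨[(nat_lit 10), (nat_lit 3), (nat_lit 10), (nat_lit 3)], (nat_lit 49), (nat_lit 1), (nat_lit 0), (nat_lit 3)⟩) (BT.leaf ⟨[(nat_lit 10), (nat_lit 6), (nat_lit 10), (nat_lit 6)], (nat_lit 50), (nat_lit 1), (nat_lit 0), (nat_lit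 3)⟩)) (BT.node (nat_lit 75) (BT.leaf ⟨[(nat_lit 8), (nat_lit 6), (nat_lit 10), (nat_lit 8), (nat_lit 6), (nat_lit 10)], (nat_lit 51), (nat_lit 0), (nat_lit 0), (nat_lit 3)⟩) (BT.leaf ⟨[(nat_lit 8), (nat_lit 8), (nat_lit 8)], (nat_lit 39), (nat_lit 0), (nat_lit 0), (nat_lit 3)⟩)))) (BT.node (nat_lit 79) (BT.node (nat_lit 77) (BT.leaf ⟨[(nat_lit 8), (nat_lit 6), (nat_lit 4), (nat_lit 8), (nat_lit 6), (nat_lit 4)], (nat_lit 55), (nat_lit 0), (nat_lit 0), (nat_lit 3)⟩) (BT.node (nat_lit 78) (BT.leaf ⟨[(nat_lit 12), (nat_lit 8), (nat_lit 6), (nat_lit 12), (nat_lit 8), (nat_lit 6)], (nat_lit 59), (nat_lit 0), (nat_lit 0), (nat_lit 3)⟩) (BT.leaf ⟨[(nat_lit 12), (nat_lit 12), (nat_lit 12)], (nat_lit 41), (nat_lit 0), (nat_lit 0), (nat_lit 3)⟩))) (BT.node (nat_lit 81) (BT.node (nat_lit 80) (BT.leaf ⟨[(nat_lit 14), (nat_lit 12), (nat_lit 8), (nat_lit 14), (nat_lit 12), (nat_lit 8)],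 (nat_lit 62), (nat_lit 0), (nat_lit 0), (nat_lit 3)⟩) (BT.leaf ⟨[(nat_lit 14), (nat_lit 14), (nat_lit 14)], (nat_lit 42), (nat_lit 0), (nat_lit 0), (nat_lit 3)⟩)) (BT.node (nat_lit 82) (BT.leaf ⟨[(nat_lit 14), (nat_lit 12), (nat_lit 14), (nat_lit 12)], (nat_lit 63), (nat_lit 0), (nat_lit 0), (nat_lit 3)⟩) (BT.leaf ⟨[(nat_lit 6), (nat_lit 12), (nat_lit 8), (nat_lit 6), (nat_lit 12), (nat_lit 8)], (nat_lit 59), (nat_lit 2), (nat_lit 0), (nat_lit 3)⟩)))))) (BT.node (nat_lit 97) (BT.node (nat_lit 90) (BT.node (nat_lit 86) (BT.node (nat_lit 84) (BT.leaf ⟨[(nat_lit 7), (nat_lit 1), (nat_lit 3), (nat_lit 5), (nat_lit 7), (nat_lit 1), (nat_lit 3), (nat_lit 5)], (nat_lit 10), (nat_lit 3), (nat_lit 0), (nat_lit 3)⟩) (BT.node (nat_lit 85) (BT.leaf ⟨[(nat_lit 9), (nat_lit 4), (nat_lit 9), (nat_lit 4)], (nat_lit 13), (nat_lit 0), (nat_lit 0), (nat_lit 3)⟩) (BT.leaf ⟨[(nat_lit 2), (nat_lit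 8), (nat_lit 6), (nat_lit 4), (nat_lit 2), (nat_lit 8), (nat_lit 6), (nat_lit 4)], (nat_lit 46), (nat_lit 3), (nat_lit 0), (nat_lit 3)⟩))) (BT.node (nat_lit 88) (BT.node (nat_lit 87) (BT.leaf ⟨[(nat_lit 2), (nat_lit 4), (nat_lit 2), (nat_lit 4)], (nat_lit 44), (nat_lit 1), (nat_lit 0), (nat_lit 3)⟩) (BT.leaf ⟨[(nat_lit 2), (nat_lit 2), (nat_lit 2)], (nat_lit 36), (nat_lit 0), (nat_lit 0), (nat_lit 3)⟩)) (BT.node (nat_lit 89) (BT.leaf ⟨[(nat_lit 2), (nat_lit 9), (nat_lit 4), (nat_lit 2), (nat_lit 9), (nat_lit 4)], (nat_lit 43), (nat_lit 2), (nat_lit 0), (nat_lit 3)⟩) (BT.leaf ⟨[(nat_lit 2), (nat_lit 6), (nat_lit 4), (nat_lit 2), (nat_lit 6), (nat_lit 4)], (nat_lit 45), (nat_lit 2), (nat_lit 0), (nat_lit 3)⟩)))) (BT.node (nat_lit 93) (BT.node (nat_lit 91) (BT.leaf ⟨[(nat_lit 9), (nat_lit 4), (nat_lit 2), (nat_lit 9), (nat_lit 4), (nat_lit 2)], (nat_lit 43), (nat_lit 0), (nat_lit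 0), (nat_lit 3)⟩) (BT.node (nat_lit 92) (BT.leaf ⟨[(nat_lit 6), (nat_lit 4), (nat_lit 2), (nat_lit 6), (nat_lit 4), (nat_lit 2)], (nat_lit 45), (nat_lit 0), (nat_lit 0), (nat_lit 3)⟩) (BT.leaf ⟨[(nat_lit 4), (nat_lit 12), (nat_lit 8), (nat_lit 6), (nat_lit 4), (nat_lit 12), (nat_lit 8), (nat_lit 6)], (nat_lit 56), (nat_lit 3), (nat_lit 0), (nat_lit 3)⟩))) (BT.node (nat_lit 95) (BT.node (nat_lit 94) (BT.leaf ⟨[(nat_lit 4), (nat_lit 6), (nat_lit 4), (nat_lit 6)], (nat_lit 54), (nat_lit 1), (nat_lit 0), (nat_lit 3)⟩) (BT.leaf ⟨[(nat_lit 10), (nat_lit 12), (nat_lit 8), (nat_lit 6), (nat_lit 10), (nat_lit 12), (nat_lit 8), (nat_lit 6)], (nat_lit 52), (nat_lit 3), (nat_lit 0), (nat_lit 3)⟩)) (BT.node (nat_lit 96) (BT.leaf ⟨[(nat_lit 4), (nat_lit 4), (nat_lit 4)], (nat_lit 37), (nat_lit 0), (nat_lit 0), (nat_lit 3)⟩) (BT.leaf ⟨[(nat_lit 10), (nat_lit 8), (nat_lit 6), (nat_lit 10),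 (nat_lit 8), (nat_lit 6)], (nat_lit 51), (nat_lit 2), (nat_lit 0), (nat_lit 3)⟩))))) (BT.node (nat_lit 104) (BT.node (nat_lit 100) (BT.node (nat_lit 98) (BT.leaf ⟨[(nat_lit 4), (nat_lit 8), (nat_lit 6), (nat_lit 4), (nat_lit 8), (nat_lit 6)], (nat_lit 55), (nat_lit 2), (nat_lit 0), (nat_lit 3)⟩) (BT.node (nat_lit 99) (BT.leaf ⟨[(nat_lit 11), (nat_lit 1), (nat_lit 3), (nat_lit 5), (nat_lit 7), (nat_lit 11), (nat_lit 1), (nat_lit 3), (nat_lit 5), (nat_lit 7)], (nat_lit 11), (nat_lit 4), (nat_lit 0), (nat_lit 3)⟩) (BT.leaf ⟨[(nat_lit 2), (nat_lit 12), (nat_lit 8), (nat_lit 6), (nat_lit 4), (nat_lit 2), (nat_lit 12), (nat_lit 8), (nat_lit 6), (nat_lit 4)], (nat_lit 47), (nat_lit 4), (nat_lit 0), (nat_lit 3)⟩))) (BT.node (nat_lit 102) (BT.node (nat_lit 101) (BT.leaf ⟨[(nat_lit 7), (nat_lit 11), (nat_lit 1), (nat_lit 3), (nat_lit 5), (nat_lit 7), (nat_lit 11), (nat_lit 1), (nat_lit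 3), (nat_lit 5)], (nat_lit 11), (nat_lit 3), (nat_lit 0), (nat_lit 3)⟩) (BT.leaf ⟨[(nat_lit 3), (nat_lit 5), (nat_lit 1), (nat_lit 3), (nat_lit 5), (nat_lit 1)], (nat_lit 9), (nat_lit 1), (nat_lit 0), (nat_lit 3)⟩)) (BT.node (nat_lit 103) (BT.leaf ⟨[(nat_lit 13), (nat_lit 1), (nat_lit 3), (nat_lit 5), (nat_lit 7), (nat_lit 11), (nat_lit 13), (nat_lit 1), (nat_lit 3), (nat_lit 5), (nat_lit 7), (nat_lit 11)], (nat_lit 12), (nat_lit 5), (nat_lit 0), (nat_lit 3)⟩) (BT.leaf ⟨[(nat_lit 5), (nat_lit 7), (nat_lit 3), (nat_lit 5), (nat_lit 7), (nat_lit 3)], (nat_lit 19), (nat_lit 1), (nat_lit 0), (nat_lit 3)⟩)))) (BT.node (nat_lit 107) (BT.node (nat_lit 105) (BT.leaf ⟨[(nat_lit 11), (nat_lit 13), (nat_lit 7), (nat_lit 11), (nat_lit 13), (nat_lit 7)], (nat_lit 26), (nat_lit 1), (nat_lit 0), (nat_lit 3)⟩) (BT.node (nat_lit 106) (BT.leaf ⟨[(nat_lit 11), (nat_lit 13), (nat_lit 5), (nat_lit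 7), (nat_lit 11), (nat_lit 13), (nat_lit 5), (nat_lit 7)], (nat_lit 24), (nat_lit 2), (nat_lit 0), (nat_lit 3)⟩) (BT.leaf ⟨[(nat_lit 5), (nat_lit 7), (nat_lit 9), (nat_lit 5), (nat_lit 7), (nat_lit 9)], (nat_lit 15), (nat_lit 1), (nat_lit 0), (nat_lit 3)⟩))) (BT.node (nat_lit 109) (BT.node (nat_lit 108) (BT.leaf ⟨[(nat_lit 5), (nat_lit 7), (nat_lit 11), (nat_lit 13), (nat_lit 1), (nat_lit 3), (nat_lit 5), (nat_lit 7), (nat_lit 11), (nat_lit 13), (nat_lit 1), (nat_lit 3)], (nat_lit 12), (nat_lit 2), (nat_lit 0), (nat_lit 3)⟩) (BT.leaf ⟨[(nat_lit 4), (nat_lit 2), (nat_lit 9), (nat_lit 4), (nat_lit 2), (nat_lit 9)], (nat_lit 43), (nat_lit 1), (nat_lit 0), (nat_lit 3)⟩)) (BT.node (nat_lit 110) (BT.leaf ⟨[(nat_lit 6), (nat_lit 4), (nat_lit 6), (nat_lit 4)], (nat_lit 54), (nat_lit 0), (nat_lit 0), (nat_lit 3)⟩) (BT.leaf ⟨[(nat_lit 4), (nat_lit 9), (nat_lit 4), (nat_lit 2), (nat_lit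 14), (nat_lit 8), (nat_lit 4), (nat_lit 9), (nat_lit 4), (nat_lit 2), (nat_lit 14), (nat_lit 8), (nat_lit 4), (nat_lit 9), (nat_lit 4), (nat_lit 2), (nat_lit 14), (nat_lit 8), (nat_lit 4), (nat_lit 9), (nat_lit 4), (nat_lit 2), (nat_lit 14), (nat_lit 8), (nat_lit 4), (nat_lit 9), (nat_lit 4), (nat_lit 2), (nat_lit 14), (nat_lit 8), (nat_lit 4), (nat_lit 9), (nat_lit 4), (nat_lit 2), (nat_lit 14), (nat_lit 8), (nat_lit 4), (nat_lit 9), (nat_lit 4), (nat_lit 2), (nat_lit 14), (nat_lit 8), (nat_lit 4), (nat_lit 9), (nat_lit 4), (nat_lit 2), (nat_lit 14), (nat_lit 8), (nat_lit 4), (nat_lit 9), (nat_lit 4), (nat_lit 2), (nat_lit 14), (nat_lit 8), (nat_lit 4), (nat_lit 9), (nat_lit 4), (nat_lit 2), (nat_lit 14), (nat_lit 8), (nat_lit 4), (nat_lit 9), (nat_lit 4), (nat_lit 2), (nat_lit 14), (nat_lit 8), (nat_lit 4), (nat_lit 9), (nat_lit 4), (nat_lit 2), (nat_lit 14), (nat_lit 8),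 (nat_lit 4), (nat_lit 9), (nat_lit 4), (nat_lit 2), (nat_lit 14), (nat_lit 8), (nat_lit 4), (nat_lit 9), (nat_lit 4), (nat_lit 2), (nat_lit 14), (nat_lit 8), (nat_lit 4), (nat_lit 9), (nat_lit 4), (nat_lit 2), (nat_lit 14), (nat_lit 8)], (nat_lit 64), (nat_lit 2), (nat_lit 0), (nat_lit 3)⟩))))))))
noncomputable def e81_hcs : List CW := [⟨[(nat_lit 11)], (nat_lit 0), (nat_lit 0), (nat_lit 0), (nat_lit 0)⟩, ⟨[(nat_lit 9)], (nat_lit 1), (nat_lit 0), (nat_lit 0), (nat_lit 0)⟩, ⟨[(nat_lit 7)], (nat_lit 2), (nat_lit 0), (nat_lit 0), (nat_lit 0)⟩, ⟨[(nat_lit 5)], (nat_lit 3), (nat_lit 0), (nat_lit 0), (nat_lit 0)⟩, ⟨[(nat_lit 3)], (nat_lit 4), (nat_lit 0), (nat_lit 0), (nat_lit 0)⟩, ⟨[(nat_lit 1)], (nat_lit 5), (nat_lit 0), (nat_lit 0), (nat_lit 0)⟩, ⟨[(nat_lit 12)], (nat_lit 6), (nat_lit 0), (nat_lit 0), (nat_lit 0)⟩, ⟨[(nat_lit 10)], (nat_lit 7), (nat_lit 0), (nat_lit 0), (nat_lit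 0)⟩, ⟨[(nat_lit 8)], (nat_lit 8), (nat_lit 0), (nat_lit 0), (nat_lit 0)⟩, ⟨[(nat_lit 6)], (nat_lit 9), (nat_lit 0), (nat_lit 0), (nat_lit 0)⟩, ⟨[(nat_lit 4)], (nat_lit 10), (nat_lit 0), (nat_lit 0), (nat_lit 0)⟩, ⟨[(nat_lit 2)], (nat_lit 11), (nat_lit 0), (nat_lit 0), (nat_lit 0)⟩]
noncomputable def e81_H (x j : Nat) : Bx (Nat → Nat → Nat) := mkH e81_L e81_pb.1 e81_e.get (lmap CW.w e81_hcs) (nat_lit 120) (nat_lit 121) (nat_lit 15) (nat_lit 128) (nat_lit 16384) (nat_lit 8191) x (e81_rots.get j)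
noncomputable def e81_F (x b : Nat) : Bool := blkOK e81_H e81_ch (nat_lit 121) (nat_lit 128) (nat_lit 128) (nat_lit 8) (nat_lit 255) (nat_lit 21) (nat_lit 2097151) x b

theorem e81_k0_0 : allFrom (e81_F (nat_lit 0)) (nat_lit 0) (nat_lit 4) = true := by decide +kernel
theorem e81_k1_0 : allFrom (e81_F (nat_lit 1)) (nat_lit 0) (nat_lit 4) = true := by decide +kernel
theorem e81_k2_0 : allFrom (e81_F (nat_lit 2)) (nat_lit 0) (nat_lit 4) = true := by decide +kernel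
theorem e81_k3_0 : allFrom (e81_F (nat_lit 3)) (nat_lit 0) (nat_lit 4) = true := by decide +kernel
theorem e81_k4_0 : allFrom (e81_F (nat_lit 4)) (nat_lit 0) (nat_lit 4) = true := by decide +kernel
theorem e81_k5_0 : allFrom (e81_F (nat_lit 5)) (nat_lit 0) (nat_lit 4) = true := by decide +kernel
theorem e81_k6_0 : allFrom (e81_F (nat_lit 6)) (nat_lit 0) (nat_lit 4) = true := by decide +kernel
theorem e81_k7_0 : allFrom (e81_F (nat_lit 7)) (nat_lit 0) (nat_lit 4) = true := by decide +kernel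
theorem e81_k8_0 : allFrom (e81_F (nat_lit 8)) (nat_lit 0) (nat_lit 4) = true := by decide +kernel
theorem e81_k9_0 : allFrom (e81_F (nat_lit 9)) (nat_lit 0) (nat_lit 4) = true := by decide +kernel
theorem e81_k10_0 : allFrom (e81_F (nat_lit 10)) (nat_lit 0) (nat_lit 4) = true := by decide +kernel
theorem e81_k11_0 : allFrom (e81_F (nat_lit 11)) (nat_lit 0) (nat_lit 4) = true := by decide +kernel
theorem e81_k12_0 : allFrom (e81_F (nat_lit 12)) (nat_lit 0) (nat_lit 4) = true := by decide +kernel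
theorem e81_k13_0 : allFrom (e81_F (nat_lit 13)) (nat_lit 0) (nat_lit 4) = true := by decide +kernel
theorem e81_k14_0 : allFrom (e81_F (nat_lit 14)) (nat_lit 0) (nat_lit 4) = true := by decide +kernel
noncomputable def e82_c0 : BT (Bx Nat) := (BT.leaf (Bx.mk (nat_lit 0x0)))
noncomputable def e82_c1 : BT (Bx Nat) := (BT.leaf (Bx.mk (nat_lit 0x4bf82586e62cd8f63aa2cb349a627b2c3903a20c6ee0555c81c92657a4c27e054a9acb516562ccab518d3c0a8176342ad2471646e8a99d610bc2a27963eeb479f14ec029c7d8b700a6a064b4ad188452f0b15625ecc4291998a73b2425147d8b0e8c5294314ab64658c49e050f7322f9026f0285bda1583223162364b04cd807a2f0b906080000)))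
noncomputable def e82_c2 : BT (Bx Nat) := (BT.leaf (Bx.mk (nat_lit 0x23382066e58cd8e19af033140669c0cb911999c3324465a78cc121952032954651c81bd3193ac32544658f468b9035a83246c646fc581c190f20667463ee0c7a090ec31dc786370c86a118ac83188a2aef8c66018b4914f9462738c3a38ca4c3129a22358c438184d430db461570c1eb1865e306e409780c17902462304c860798c0b818080000)))
noncomputable def e82_c3 : BT (Bx Nat) := (BT.leaf (Bx.mk (nat_lit 0x69b8293ee695d9051a22cf35446ab08bd3538a0a32469e0aa8b562b520cec559d6b88b98112302235c452e089991142c2278044bc0875f4f0c4a2280abef087a32b0489dc854331956a34cb4ea58954291156e74cacc9d1a142549543902be8553a939f6953b5105d8a0db54998291ef5055ecc8d8413c0813250366545d1387aa60b906080000)))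
noncomputable def e82_c4 : BT (Bx Nat) := (BT.leaf (Bx.mk (nat_lit 0x43f8247ee60fd962799e3f5407e878fc121f8a03ef5ca64c4ca941f71e3ec507d6a8fb58a13b52e55e748e949a1971b34296675108f81e1f0c43dd7c7befcc7b9031463dc847ad10f6a01edcc3d8e07a310f6661eac83d7cc7a138f4e51ea503d2a479f60f3ab1e6583cbd8a1b70f277263dc3c8bc79588f1721e272046cc787a0f0b81e080000)))
noncomputable def e82_c5 : BT (Bx Nat) := (BT.leaf (Bx.mk (nat_lit 0x87782cf6e712d4f55a7207641b666aac94498f01ec38961c07a5a2571eaaf51b56e929db3d6b876878f48d879b80ef7206a803cb0aa8a03d0ea1dc88936f878e40f04a1dd8ceb32125f902fce1d89552921d5a83aaec1dae039bb924e73c8d41ccacf1fc07279029561cbe40a17123af5455cd88c520f8aa1b80e1e8485d4f09b1d0b906080000)))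
noncomputable def e82_c6 : BT (Bx Nat) := (BT.leaf (Bx.mk (nat_lit 0x63b82876fc0ed0d1db1c3b53c76660ec931d89a3af38758c8eb5a1d4f20704c757c0e939037363a870754e4a9a1831ba3a781c3d00e89f1d0cae1de0733c819662ce6c6208473fb965221cdd06188c73518e5a71cac8397d8725c0e3661c8f038ba871f68e2b9029d6e10b0c1970e2790275a388c070f80e1b31c268383e408ba8e0b81c080000)))
noncomputable def e82_c7 : BT (Bx Nat) := (BT.leaf (Bx.mk (nat_lit 0xa6b830dec69fd7903b9caf43e1665abc934b8987f038fd6c9fbb80d41a6ef4e959a8695c0d6ba1a980354d429a10d3be6e380d3cf068a136fc61a088fb7b069380cc4a19dd8343c064e434ccc19c8cdb529a5a934ace6d290faf42b368368527ccb0d9d69f27902a72051a929772b2b9027db088c128f82b1b33e2f0182d8d89b9a0f906080000)))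
noncomputable def e82_c8 : BT (Bx Nat) := (BT.leaf (Bx.mk (nat_lit 0x8378e06ea58ddcc1bb1a374386e650dc921b896370306d8c0db9d794a436b346df0bc9de2f47206d88bcac8d9b63356e5de786c8fbd8b72edc8660806c2f8d8e678e4eed8846bf10d5e31acf205d8c6a720d5a81aaf034de40b530d5381a64e351e069358d3e71a950350a469768d2ac1a758348bc68f78d1b21a2ea343d8685c811381a080000)))
noncomputable def e82_c9 : BT (Bx Nat) := (BT.leaf (Bx.mk (nat_lit 0x68782516e523d8b23a188f2e04dfc81d7813698473351e0a91c564771c26c4c4d6e23a97874ac268744c8e4999e131be8a1748bf04389c233c245d811cb0a166246d702547c8bdc8182012df02528c8b91a15a742ac90d7a04b14894e6448d2250a911f6a33aa126d824bb4491c091b72257204ce0489c81272223e68c5d1107aa10b906080000)))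
noncomputable def e82_c10 : BT (Bx Nat) := (BT.leaf (Bx.mk (nat_lit 0x42f8205ee48bdb8179142f52c5e058bd14177182efe40e6a8bb790389ed6c51ad6d8ba96174aee686c5c2d8b99f16fbd3e77e6caf8b89e172702da705c6f0b6e0170442d785cb308b76016f52dd38c5a910b5a616af205ca9d25c81625168d4e90a459f60b3ab726f02c8b5b99b0b2781635cd4bc458bc812b216272047cc587a0b0b816080000)))
noncomputable def e82_c11 : BT (Bx Nat) := (BT.leaf (Bx.mk (nat_lit 0xc4371ce6dc81e0841a92b74296e652ec925b89683030e5eb05b9b0b6f016644858f85ab80b16e429e02c091cae10b3f015ddc849c81a380ad4416580843090739031c4b588882f09c7e520a7205e8d02731046a207cc712e40b7c8166738872056ace1dc815675c6d080ca56976ae2ac404d9448bd68f7ae1b2402ea704e0283b900f902100000)))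
noncomputable def e82_c12 : BT (Bx Nat) := (BT.leaf (Bx.mk (nat_lit 0x7013614270304dc709a9013424266484c91098941302c25ebbeb9c816a012b4424d040ab60947012289fcbc81b237d06c123e023bc81a5f08ff206780235c046390324011ee0227c818780894211c84237c04438087481198822f28452508b4c111a422b5043e6086ce10ca02176042ab084d6108b820f7041b1082e8104d8205c0407902180000)))
noncomputable def e82_p : BT (Bx Nat) := (BT.leaf (Bx.mk (nat_lit 0xfd8bed47ed05dc89dc41cbcacb81cb4abb06ba82ba46ba08a98ca942a905a88ca88b980c98029786974c974b9744868c86898645860b8608750a74cb74c8748b748a6443640b638b634763466345530752c5524752465241420941c2418a41893142310a310420c62088104c104b00000000)))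
noncomputable def e82_e0 : BT Nat := (BT.node (nat_lit 69) (BT.node (nat_lit 67) (BT.leaf (nat_lit 1048578)) (BT.leaf (nat_lit 786434))) (BT.node (nat_lit 71) (BT.leaf (nat_lit 524290)) (BT.node (nat_lit 73) (BT.leaf (nat_lit 262146)) (BT.leaf (nat_lit 2)))))
noncomputable def e82_e : BT Nat := e82_e0
noncomputable def e82_cols : List (BT (Bx Nat)) := [e82_c0, e82_c1, e82_c2, e82_c3, e82_c4, e82_c5, e82_c6, e82_c7, e82_c8, e82_c9, e82_c10, e82_c11, e82_c12]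
noncomputable def e82_ch (x j : Nat) : Bx Nat := chunkG e82_cols (nat_lit 1) x j
noncomputable def e82_L (x : Nat) : Bx (Nat → Nat) := lookG e82_ch (nat_lit 8) (nat_lit 255) (nat_lit 19) (nat_lit 524287) x
noncomputable def e82_pc (_ j : Nat) : Bx Nat := e82_p.get j
noncomputable def e82_pb : Bx (Nat → Nat) := lookG e82_pc (nat_lit 8) (nat_lit 255) (nat_lit 16) (nat_lit 65535) (nat_lit 0)
noncomputable def e82_rots : BT CW := (BT.node (nat_lit 41) (BT.node (nat_lit 20) (BT.node (nat_lit 10) (BT.node (nat_lit 5) (BT.node (nat_lit 2) (BT.node (nat_lit 1) (BT.leaf ⟨[], (nat_lit 1000000), (nat_lit 0), (nat_lit 0), (nat_lit 0)⟩) (BT.leaf ⟨[], (nat_lit 1000000), (nat_lit 0), (nat_lit 0), (nat_lit 1)⟩)) (BT.node (nat_lit 3) (BT.leaf ⟨[], (nat_lit 1000000), (nat_lit 0), (nat_lit 0), (nat_lit 2)⟩) (BT.node (nat_lit 4) (BT.leaf ⟨[(nat_lit 12), (nat_lit 11)], (nat_lit 22), (nat_lit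 1), (nat_lit 0), (nat_lit 3)⟩) (BT.leaf ⟨[(nat_lit 11), (nat_lit 12)], (nat_lit 22), (nat_lit 0), (nat_lit 0), (nat_lit 3)⟩)))) (BT.node (nat_lit 7) (BT.node (nat_lit 6) (BT.leaf ⟨[(nat_lit 7), (nat_lit 8)], (nat_lit 24), (nat_lit 0), (nat_lit 0), (nat_lit 3)⟩) (BT.leaf ⟨[(nat_lit 5), (nat_lit 6)], (nat_lit 25), (nat_lit 0), (nat_lit 0), (nat_lit 3)⟩)) (BT.node (nat_lit 8) (BT.leaf ⟨[(nat_lit 3), (nat_lit 4)], (nat_lit 26), (nat_lit 0), (nat_lit 0), (nat_lit 3)⟩) (BT.node (nat_lit 9) (BT.leaf ⟨[(nat_lit 9), (nat_lit 10)], (nat_lit 23), (nat_lit 0), (nat_lit 0), (nat_lit 3)⟩) (BT.leaf ⟨[(nat_lit 1), (nat_lit 2)], (nat_lit 27), (nat_lit 0), (nat_lit 0), (nat_lit 3)⟩))))) (BT.node (nat_lit 15) (BT.node (nat_lit 12) (BT.node (nat_lit 11) (BT.leaf ⟨[(nat_lit 10), (nat_lit 9)], (nat_lit 23), (nat_lit 1), (nat_lit 0), (nat_lit 3)⟩) (BT.leaf ⟨[(nat_lit 2), (nat_lit 1)], (nat_lit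 27), (nat_lit 1), (nat_lit 0), (nat_lit 3)⟩)) (BT.node (nat_lit 13) (BT.leaf ⟨[(nat_lit 8), (nat_lit 7)], (nat_lit 24), (nat_lit 1), (nat_lit 0), (nat_lit 3)⟩) (BT.node (nat_lit 14) (BT.leaf ⟨[(nat_lit 6), (nat_lit 5)], (nat_lit 25), (nat_lit 1), (nat_lit 0), (nat_lit 3)⟩) (BT.leaf ⟨[(nat_lit 4), (nat_lit 3)], (nat_lit 26), (nat_lit 1), (nat_lit 0), (nat_lit 3)⟩)))) (BT.node (nat_lit 17) (BT.node (nat_lit 16) (BT.leaf ⟨[(nat_lit 11), (nat_lit 11), (nat_lit 11)], (nat_lit 5), (nat_lit 0), (nat_lit 0), (nat_lit 3)⟩) (BT.leaf ⟨[(nat_lit 9), (nat_lit 9), (nat_lit 9)], (nat_lit 4), (nat_lit 0), (nat_lit 0), (nat_lit 3)⟩)) (BT.node (nat_lit 18) (BT.leaf ⟨[(nat_lit 5), (nat_lit 5), (nat_lit 5)], (nat_lit 2), (nat_lit 0), (nat_lit 0), (nat_lit 3)⟩) (BT.node (nat_lit 19) (BT.leaf ⟨[(nat_lit 4), (nat_lit 9), (nat_lit 4), (nat_lit 9)], (nat_lit 11), (nat_lit 1), (nat_lit 0), (nat_lit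 3)⟩) (BT.leaf ⟨[(nat_lit 4), (nat_lit 2), (nat_lit 4), (nat_lit 2)], (nat_lit 35), (nat_lit 0), (nat_lit 0), (nat_lit 3)⟩)))))) (BT.node (nat_lit 30) (BT.node (nat_lit 25) (BT.node (nat_lit 22) (BT.node (nat_lit 21) (BT.leaf ⟨[(nat_lit 3), (nat_lit 5), (nat_lit 3), (nat_lit 5)], (nat_lit 15), (nat_lit 0), (nat_lit 0), (nat_lit 3)⟩) (BT.leaf ⟨[(nat_lit 6), (nat_lit 8), (nat_lit 6), (nat_lit 8)], (nat_lit 46), (nat_lit 1), (nat_lit 0), (nat_lit 3)⟩)) (BT.node (nat_lit 23) (BT.leaf ⟨[(nat_lit 8), (nat_lit 12), (nat_lit 8), (nat_lit 12)], (nat_lit 48), (nat_lit 1), (nat_lit 0), (nat_lit 3)⟩) (BT.node (nat_lit 24) (BT.leaf ⟨[(nat_lit 6), (nat_lit 10), (nat_lit 6), (nat_lit 10)], (nat_lit 40), (nat_lit 0), (nat_lit 0), (nat_lit 3)⟩) (BT.leaf ⟨[(nat_lit 8), (nat_lit 6), (nat_lit 8), (nat_lit 6)], (nat_lit 46), (nat_lit 0), (nat_lit 0), (nat_lit 3)⟩)))) (BT.node (nat_lit 27) (BT.node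 (nat_lit 26) (BT.leaf ⟨[(nat_lit 7), (nat_lit 11), (nat_lit 7), (nat_lit 11)], (nat_lit 20), (nat_lit 0), (nat_lit 0), (nat_lit 3)⟩) (BT.leaf ⟨[(nat_lit 7), (nat_lit 7), (nat_lit 7)], (nat_lit 3), (nat_lit 0), (nat_lit 0), (nat_lit 3)⟩)) (BT.node (nat_lit 28) (BT.leaf ⟨[(nat_lit 11), (nat_lit 7), (nat_lit 11), (nat_lit 7)], (nat_lit 20), (nat_lit 1), (nat_lit 0), (nat_lit 3)⟩) (BT.node (nat_lit 29) (BT.leaf ⟨[(nat_lit 5), (nat_lit 7), (nat_lit 11), (nat_lit 5), (nat_lit 7), (nat_lit 11)], (nat_lit 19), (nat_lit 0), (nat_lit 0), (nat_lit 3)⟩) (BT.leaf ⟨[(nat_lit 5), (nat_lit 7), (nat_lit 5), (nat_lit 7)], (nat_lit 18), (nat_lit 0), (nat_lit 0), (nat_lit 3)⟩))))) (BT.node (nat_lit 35) (BT.node (nat_lit 32) (BT.node (nat_lit 31) (BT.leaf ⟨[(nat_lit 7), (nat_lit 5), (nat_lit 7), (nat_lit 5)], (nat_lit 18), (nat_lit 1), (nat_lit 0), (nat_lit 3)⟩) (BT.leaf ⟨[(nat_lit 11), (nat_lit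 5), (nat_lit 7), (nat_lit 11), (nat_lit 5), (nat_lit 7)], (nat_lit 19), (nat_lit 2), (nat_lit 0), (nat_lit 3)⟩)) (BT.node (nat_lit 33) (BT.leaf ⟨[(nat_lit 9), (nat_lit 5), (nat_lit 7), (nat_lit 11), (nat_lit 9), (nat_lit 5), (nat_lit 7), (nat_lit 11)], (nat_lit 14), (nat_lit 0), (nat_lit 0), (nat_lit 3)⟩) (BT.node (nat_lit 34) (BT.leaf ⟨[(nat_lit 9), (nat_lit 5), (nat_lit 7), (nat_lit 9), (nat_lit 5), (nat_lit 7)], (nat_lit 13), (nat_lit 0), (nat_lit 0), (nat_lit 3)⟩) (BT.leaf ⟨[(nat_lit 9), (nat_lit 5), (nat_lit 9), (nat_lit 5)], (nat_lit 12), (nat_lit 0), (nat_lit 0), (nat_lit 3)⟩)))) (BT.node (nat_lit 38) (BT.node (nat_lit 36) (BT.leaf ⟨[(nat_lit 5), (nat_lit 9), (nat_lit 5), (nat_lit 9)], (nat_lit 12), (nat_lit 1), (nat_lit 0), (nat_lit 3)⟩) (BT.node (nat_lit 37) (BT.leaf ⟨[(nat_lit 7), (nat_lit 9), (nat_lit 5), (nat_lit 7), (nat_lit 9), (nat_lit 5)], (nat_lit 13), (nat_lit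 2), (nat_lit 0), (nat_lit 3)⟩) (BT.leaf ⟨[(nat_lit 3), (nat_lit 5), (nat_lit 7), (nat_lit 11), (nat_lit 3), (nat_lit 5), (nat_lit 7), (nat_lit 11)], (nat_lit 17), (nat_lit 0), (nat_lit 0), (nat_lit 3)⟩))) (BT.node (nat_lit 39) (BT.leaf ⟨[(nat_lit 3), (nat_lit 5), (nat_lit 7), (nat_lit 3), (nat_lit 5), (nat_lit 7)], (nat_lit 16), (nat_lit 0), (nat_lit 0), (nat_lit 3)⟩) (BT.node (nat_lit 40) (BT.leaf ⟨[(nat_lit 3), (nat_lit 3), (nat_lit 3)], (nat_lit 1), (nat_lit 0), (nat_lit 0), (nat_lit 3)⟩) (BT.leaf ⟨[(nat_lit 3), (nat_lit 10), (nat_lit 3), (nat_lit 10)], (nat_lit 39), (nat_lit 0), (nat_lit 0), (nat_lit 3)⟩))))))) (BT.node (nat_lit 62) (BT.node (nat_lit 51) (BT.node (nat_lit 46) (BT.node (nat_lit 43) (BT.node (nat_lit 42) (BT.leaf ⟨[(nat_lit 5), (nat_lit 3), (nat_lit 5), (nat_lit 3)], (nat_lit 15), (nat_lit 1), (nat_lit 0), (nat_lit 3)⟩) (BT.leaf ⟨[(nat_lit 7), (nat_lit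 3), (nat_lit 5), (nat_lit 7), (nat_lit 3), (nat_lit 5)], (nat_lit 16), (nat_lit 2), (nat_lit 0), (nat_lit 3)⟩)) (BT.node (nat_lit 44) (BT.leaf ⟨[(nat_lit 1), (nat_lit 3), (nat_lit 5), (nat_lit 1), (nat_lit 3), (nat_lit 5)], (nat_lit 8), (nat_lit 0), (nat_lit 0), (nat_lit 3)⟩) (BT.node (nat_lit 45) (BT.leaf ⟨[(nat_lit 11), (nat_lit 9), (nat_lit 5), (nat_lit 7), (nat_lit 11), (nat_lit 9), (nat_lit 5), (nat_lit 7)], (nat_lit 14), (nat_lit 3), (nat_lit 0), (nat_lit 3)⟩) (BT.leaf ⟨[(nat_lit 11), (nat_lit 3), (nat_lit 5), (nat_lit 7), (nat_lit 11), (nat_lit 3), (nat_lit 5), (nat_lit 7)], (nat_lit 17), (nat_lit 3), (nat_lit 0), (nat_lit 3)⟩)))) (BT.node (nat_lit 48) (BT.node (nat_lit 47) (BT.leaf ⟨[(nat_lit 1), (nat_lit 3), (nat_lit 5), (nat_lit 7), (nat_lit 11), (nat_lit 1), (nat_lit 3), (nat_lit 5), (nat_lit 7), (nat_lit 11)], (nat_lit 10), (nat_lit 0), (nat_lit 0), (nat_lit 3)⟩)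 (BT.leaf ⟨[(nat_lit 1), (nat_lit 3), (nat_lit 5), (nat_lit 7), (nat_lit 1), (nat_lit 3), (nat_lit 5), (nat_lit 7)], (nat_lit 9), (nat_lit 0), (nat_lit 0), (nat_lit 3)⟩)) (BT.node (nat_lit 49) (BT.leaf ⟨[(nat_lit 1), (nat_lit 3), (nat_lit 1), (nat_lit 3)], (nat_lit 7), (nat_lit 0), (nat_lit 0), (nat_lit 3)⟩) (BT.node (nat_lit 50) (BT.leaf ⟨[(nat_lit 1), (nat_lit 1), (nat_lit 1)], (nat_lit 0), (nat_lit 0), (nat_lit 0), (nat_lit 3)⟩) (BT.leaf ⟨[(nat_lit 3), (nat_lit 1), (nat_lit 3), (nat_lit 1)], (nat_lit 7), (nat_lit 1), (nat_lit 0), (nat_lit 3)⟩))))) (BT.node (nat_lit 56) (BT.node (nat_lit 53) (BT.node (nat_lit 52) (BT.leaf ⟨[(nat_lit 1), (nat_lit 3), (nat_lit 10), (nat_lit 1), (nat_lit 3), (nat_lit 10)], (nat_lit 6), (nat_lit 0), (nat_lit 0), (nat_lit 3)⟩) (BT.leaf ⟨[(nat_lit 10), (nat_lit 1), (nat_lit 3), (nat_lit 10), (nat_lit 1), (nat_lit 3)], (nat_lit 6), (nat_lit 2),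 (nat_lit 0), (nat_lit 3)⟩)) (BT.node (nat_lit 54) (BT.leaf ⟨[(nat_lit 5), (nat_lit 1), (nat_lit 3), (nat_lit 5), (nat_lit 1), (nat_lit 3)], (nat_lit 8), (nat_lit 2), (nat_lit 0), (nat_lit 3)⟩) (BT.node (nat_lit 55) (BT.leaf ⟨[(nat_lit 10), (nat_lit 10), (nat_lit 10)], (nat_lit 32), (nat_lit 0), (nat_lit 0), (nat_lit 3)⟩) (BT.leaf ⟨[(nat_lit 6), (nat_lit 6), (nat_lit 6)], (nat_lit 30), (nat_lit 0), (nat_lit 0), (nat_lit 3)⟩)))) (BT.node (nat_lit 59) (BT.node (nat_lit 57) (BT.leaf ⟨[(nat_lit 10), (nat_lit 3), (nat_lit 10), (nat_lit 3)], (nat_lit 39), (nat_lit 1), (nat_lit 0), (nat_lit 3)⟩) (BT.node (nat_lit 58) (BT.leaf ⟨[(nat_lit 10), (nat_lit 6), (nat_lit 10), (nat_lit 6)], (nat_lit 40), (nat_lit 1), (nat_lit 0), (nat_lit 3)⟩) (BT.leaf ⟨[(nat_lit 8), (nat_lit 6), (nat_lit 10), (nat_lit 8), (nat_lit 6), (nat_lit 10)], (nat_lit 41), (nat_lit 0), (nat_lit 0), (nat_lit 3)⟩)))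 (BT.node (nat_lit 60) (BT.leaf ⟨[(nat_lit 8), (nat_lit 8), (nat_lit 8)], (nat_lit 31), (nat_lit 0), (nat_lit 0), (nat_lit 3)⟩) (BT.node (nat_lit 61) (BT.leaf ⟨[(nat_lit 8), (nat_lit 6), (nat_lit 4), (nat_lit 8), (nat_lit 6), (nat_lit 4)], (nat_lit 44), (nat_lit 0), (nat_lit 0), (nat_lit 3)⟩) (BT.leaf ⟨[(nat_lit 12), (nat_lit 8), (nat_lit 6), (nat_lit 12), (nat_lit 8), (nat_lit 6)], (nat_lit 47), (nat_lit 0), (nat_lit 0), (nat_lit 3)⟩)))))) (BT.node (nat_lit 72) (BT.node (nat_lit 67) (BT.node (nat_lit 64) (BT.node (nat_lit 63) (BT.leaf ⟨[(nat_lit 12), (nat_lit 12), (nat_lit 12)], (nat_lit 33), (nat_lit 0), (nat_lit 0), (nat_lit 3)⟩) (BT.leaf ⟨[(nat_lit 12), (nat_lit 8), (nat_lit 12), (nat_lit 8)], (nat_lit 48), (nat_lit 0), (nat_lit 0), (nat_lit 3)⟩)) (BT.node (nat_lit 65) (BT.leaf ⟨[(nat_lit 6), (nat_lit 12), (nat_lit 8), (nat_lit 6), (nat_lit 12), (nat_lit 8)], (nat_lit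 47), (nat_lit 2), (nat_lit 0), (nat_lit 3)⟩) (BT.node (nat_lit 66) (BT.leaf ⟨[(nat_lit 7), (nat_lit 1), (nat_lit 3), (nat_lit 5), (nat_lit 7), (nat_lit 1), (nat_lit 3), (nat_lit 5)], (nat_lit 9), (nat_lit 3), (nat_lit 0), (nat_lit 3)⟩) (BT.leaf ⟨[(nat_lit 9), (nat_lit 4), (nat_lit 9), (nat_lit 4)], (nat_lit 11), (nat_lit 0), (nat_lit 0), (nat_lit 3)⟩)))) (BT.node (nat_lit 69) (BT.node (nat_lit 68) (BT.leaf ⟨[(nat_lit 2), (nat_lit 8), (nat_lit 6), (nat_lit 4), (nat_lit 2), (nat_lit 8), (nat_lit 6), (nat_lit 4)], (nat_lit 37), (nat_lit 3), (nat_lit 0), (nat_lit 3)⟩) (BT.leaf ⟨[(nat_lit 2), (nat_lit 4), (nat_lit 2), (nat_lit 4)], (nat_lit 35), (nat_lit 1), (nat_lit 0), (nat_lit 3)⟩)) (BT.node (nat_lit 70) (BT.leaf ⟨[(nat_lit 2), (nat_lit 2), (nat_lit 2)], (nat_lit 28), (nat_lit 0), (nat_lit 0), (nat_lit 3)⟩) (BT.node (nat_lit 71) (BT.leaf ⟨[(nat_lit 2), (nat_lit 9), (nat_lit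 4), (nat_lit 2), (nat_lit 9), (nat_lit 4)], (nat_lit 34), (nat_lit 2), (nat_lit 0), (nat_lit 3)⟩) (BT.leaf ⟨[(nat_lit 2), (nat_lit 6), (nat_lit 4), (nat_lit 2), (nat_lit 6), (nat_lit 4)], (nat_lit 36), (nat_lit 2), (nat_lit 0), (nat_lit 3)⟩))))) (BT.node (nat_lit 77) (BT.node (nat_lit 74) (BT.node (nat_lit 73) (BT.leaf ⟨[(nat_lit 9), (nat_lit 4), (nat_lit 2), (nat_lit 9), (nat_lit 4), (nat_lit 2)], (nat_lit 34), (nat_lit 0), (nat_lit 0), (nat_lit 3)⟩) (BT.leaf ⟨[(nat_lit 6), (nat_lit 4), (nat_lit 2), (nat_lit 6), (nat_lit 4), (nat_lit 2)], (nat_lit 36), (nat_lit 0), (nat_lit 0), (nat_lit 3)⟩)) (BT.node (nat_lit 75) (BT.leaf ⟨[(nat_lit 4), (nat_lit 12), (nat_lit 8), (nat_lit 6), (nat_lit 4), (nat_lit 12), (nat_lit 8), (nat_lit 6)], (nat_lit 45), (nat_lit 3), (nat_lit 0), (nat_lit 3)⟩) (BT.node (nat_lit 76) (BT.leaf ⟨[(nat_lit 4), (nat_lit 6), (nat_lit 4), (nat_lit 6)], (nat_lit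 43), (nat_lit 1), (nat_lit 0), (nat_lit 3)⟩) (BT.leaf ⟨[(nat_lit 10), (nat_lit 12), (nat_lit 8), (nat_lit 6), (nat_lit 10), (nat_lit 12), (nat_lit 8), (nat_lit 6)], (nat_lit 42), (nat_lit 3), (nat_lit 0), (nat_lit 3)⟩)))) (BT.node (nat_lit 80) (BT.node (nat_lit 78) (BT.leaf ⟨[(nat_lit 4), (nat_lit 4), (nat_lit 4)], (nat_lit 29), (nat_lit 0), (nat_lit 0), (nat_lit 3)⟩) (BT.node (nat_lit 79) (BT.leaf ⟨[(nat_lit 10), (nat_lit 8), (nat_lit 6), (nat_lit 10), (nat_lit 8), (nat_lit 6)], (nat_lit 41), (nat_lit 2), (nat_lit 0), (nat_lit 3)⟩) (BT.leaf ⟨[(nat_lit 4), (nat_lit 8), (nat_lit 6), (nat_lit 4), (nat_lit 8), (nat_lit 6)], (nat_lit 44), (nat_lit 2), (nat_lit 0), (nat_lit 3)⟩))) (BT.node (nat_lit 81) (BT.leaf ⟨[(nat_lit 11), (nat_lit 1), (nat_lit 3), (nat_lit 5), (nat_lit 7), (nat_lit 11), (nat_lit 1), (nat_lit 3), (nat_lit 5), (nat_lit 7)], (nat_lit 10), (nat_lit 4), (nat_lit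 0), (nat_lit 3)⟩) (BT.node (nat_lit 82) (BT.leaf ⟨[(nat_lit 7), (nat_lit 11), (nat_lit 1), (nat_lit 3), (nat_lit 5), (nat_lit 7), (nat_lit 11), (nat_lit 1), (nat_lit 3), (nat_lit 5)], (nat_lit 10), (nat_lit 3), (nat_lit 0), (nat_lit 3)⟩) (BT.leaf ⟨[(nat_lit 3), (nat_lit 5), (nat_lit 1), (nat_lit 3), (nat_lit 5), (nat_lit 1)], (nat_lit 8), (nat_lit 1), (nat_lit 0), (nat_lit 3)⟩))))))))
noncomputable def e82_hcs : List CW := [⟨[(nat_lit 9)], (nat_lit 0), (nat_lit 0), (nat_lit 0), (nat_lit 0)⟩, ⟨[(nat_lit 7)], (nat_lit 1), (nat_lit 0), (nat_lit 0), (nat_lit 0)⟩, ⟨[(nat_lit 5)], (nat_lit 2), (nat_lit 0), (nat_lit 0), (nat_lit 0)⟩, ⟨[(nat_lit 3)], (nat_lit 3), (nat_lit 0), (nat_lit 0), (nat_lit 0)⟩, ⟨[(nat_lit 1)], (nat_lit 4), (nat_lit 0), (nat_lit 0), (nat_lit 0)⟩, ⟨[(nat_lit 10)], (nat_lit 5), (nat_lit 0), (nat_lit 0), (nat_lit 0)⟩, ⟨[(nat_lit 8)], (nat_lit 6), (nat_lit 0),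 (nat_lit 0), (nat_lit 0)⟩, ⟨[(nat_lit 6)], (nat_lit 7), (nat_lit 0), (nat_lit 0), (nat_lit 0)⟩, ⟨[(nat_lit 4)], (nat_lit 8), (nat_lit 0), (nat_lit 0), (nat_lit 0)⟩, ⟨[(nat_lit 2)], (nat_lit 9), (nat_lit 0), (nat_lit 0), (nat_lit 0)⟩]
noncomputable def e82_H (x j : Nat) : Bx (Nat → Nat → Nat) := mkH e82_L e82_pb.1 e82_e.get (lmap CW.w e82_hcs) (nat_lit 56) (nat_lit 57) (nat_lit 13) (nat_lit 64) (nat_lit 8192) (nat_lit 4095) x (e82_rots.get j)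
noncomputable def e82_F (x b : Nat) : Bool := blkOK e82_H e82_ch (nat_lit 57) (nat_lit 64) (nat_lit 128) (nat_lit 8) (nat_lit 255) (nat_lit 19) (nat_lit 524287) x b

theorem e82_k0_0 : allFrom (e82_F (nat_lit 0)) (nat_lit 0) (nat_lit 4) = true := by decide +kernel
theorem e82_k1_0 : allFrom (e82_F (nat_lit 1)) (nat_lit 0) (nat_lit 4) = true := by decide +kernel
theorem e82_k2_0 : allFrom (e82_F (nat_lit 2)) (nat_lit 0) (nat_lit 4) = true := by decide +kernel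
theorem e82_k3_0 : allFrom (e82_F (nat_lit 3)) (nat_lit 0) (nat_lit 4) = true := by decide +kernel
theorem e82_k4_0 : allFrom (e82_F (nat_lit 4)) (nat_lit 0) (nat_lit 4) = true := by decide +kernel
theorem e82_k5_0 : allFrom (e82_F (nat_lit 5)) (nat_lit 0) (nat_lit 4) = true := by decide +kernel
theorem e82_k6_0 : allFrom (e82_F (nat_lit 6)) (nat_lit 0) (nat_lit 4) = true := by decide +kernel
theorem e82_k7_0 : allFrom (e82_F (nat_lit 7)) (nat_lit 0) (nat_lit 4) = true := by decide +kernel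
theorem e82_k8_0 : allFrom (e82_F (nat_lit 8)) (nat_lit 0) (nat_lit 4) = true := by decide +kernel
theorem e82_k9_0 : allFrom (e82_F (nat_lit 9)) (nat_lit 0) (nat_lit 4) = true := by decide +kernel
theorem e82_k10_0 : allFrom (e82_F (nat_lit 10)) (nat_lit 0) (nat_lit 4) = true := by decide +kernel
theorem e82_k11_0 : allFrom (e82_F (nat_lit 11)) (nat_lit 0) (nat_lit 4) = true := by decide +kernel
theorem e82_k12_0 : allFrom (e82_F (nat_lit 12)) (nat_lit 0) (nat_lit 4) = true := by decide +kernel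
theorem e81_all : Cov e81_F 4 15 0 := by
  have h := Cov.zero e81_F 4
  have h := h.blk (b := 4) e81_k0_0 rfl
  have h := h.next (y := 1) rfl rfl
  have h := h.blk (b := 4) e81_k1_0 rfl
  have h := h.next (y := 2) rfl rfl
  have h := h.blk (b := 4) e81_k2_0 rfl
  have h := h.next (y := 3) rfl rfl
  have h := h.blk (b := 4) e81_k3_0 rfl
  have h := h.next (y := 4) rfl rfl
  have h := h.blk (b := 4) e81_k4_0 rfl
  have h := h.next (y := 5) rfl rfl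
  have h := h.blk (b := 4) e81_k5_0 rfl
  have h := h.next (y := 6) rfl rfl
  have h := h.blk (b := 4) e81_k6_0 rfl
  have h := h.next (y := 7) rfl rfl
  have h := h.blk (b := 4) e81_k7_0 rfl
  have h := h.next (y := 8) rfl rfl
  have h := h.blk (b := 4) e81_k8_0 rfl
  have h := h.next (y := 9) rfl rfl
  have h := h.blk (b := 4) e81_k9_0 rfl
  have h := h.next (y := 10) rfl rfl
  have h := h.blk (b := 4) e81_k10_0 rfl
  have h := h.next (y := 11) rfl rfl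
  have h := h.blk (b := 4) e81_k11_0 rfl
  have h := h.next (y := 12) rfl rfl
  have h := h.blk (b := 4) e81_k12_0 rfl
  have h := h.next (y := 13) rfl rfl
  have h := h.blk (b := 4) e81_k13_0 rfl
  have h := h.next (y := 14) rfl rfl
  have h := h.blk (b := 4) e81_k14_0 rfl
  have h := h.next (y := 15) rfl rfl
  exact h

theorem e81 : Enum R7 (gensW 6) (gensW 7) 120 :=
  ⟨e81_cols, e81_ch, e81_L, e81_H, e81_pb.1, e81_e.get, [(nat_lit 0), (nat_lit 1), (nat_lit 2), (nat_lit 3), (nat_lit 4), (nat_lit 5), (nat_lit 6), (nat_lit 7), (nat_lit 8), (nat_lit 9), (nat_lit 10), (nat_lit 11), (nat_lit 12), (nat_lit 13), (nat_lit 14)], (nat_lit 0), (nat_lit 7), e81_rots, e81_hcs,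
    (nat_lit 121), (nat_lit 15), (nat_lit 128), (nat_lit 128), (nat_lit 16384), (nat_lit 8191), (nat_lit 8), (nat_lit 255), (nat_lit 21), (nat_lit 2097151), (nat_lit 1), (nat_lit 4),
    fun _ _ => rfl, fun _ => rfl, fun _ _ => rfl, by decide +kernel, e81_all.1⟩
theorem e82_all : Cov e82_F 4 13 0 := by
  have h := Cov.zero e82_F 4
  have h := h.blk (b := 4) e82_k0_0 rfl
  have h := h.next (y := 1) rfl rfl
  have h := h.blk (b := 4) e82_k1_0 rfl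
  have h := h.next (y := 2) rfl rfl
  have h := h.blk (b := 4) e82_k2_0 rfl
  have h := h.next (y := 3) rfl rfl
  have h := h.blk (b := 4) e82_k3_0 rfl
  have h := h.next (y := 4) rfl rfl
  have h := h.blk (b := 4) e82_k4_0 rfl
  have h := h.next (y := 5) rfl rfl
  have h := h.blk (b := 4) e82_k5_0 rfl
  have h := h.next (y := 6) rfl rfl
  have h := h.blk (b := 4) e82_k6_0 rfl
  have h := h.next (y := 7) rfl rfl
  have h := h.blk (b := 4) e82_k7_0 rfl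
  have h := h.next (y := 8) rfl rfl
  have h := h.blk (b := 4) e82_k8_0 rfl
  have h := h.next (y := 9) rfl rfl
  have h := h.blk (b := 4) e82_k9_0 rfl
  have h := h.next (y := 10) rfl rfl
  have h := h.blk (b := 4) e82_k10_0 rfl
  have h := h.next (y := 11) rfl rfl
  have h := h.blk (b := 4) e82_k11_0 rfl
  have h := h.next (y := 12) rfl rfl
  have h := h.blk (b := 4) e82_k12_0 rfl
  have h := h.next (y := 13) rfl rfl
  exact h

theorem e82 : Enum R6 (gensW 5) (gensW 6) 56 :=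
  ⟨e82_cols, e82_ch, e82_L, e82_H, e82_pb.1, e82_e.get, [(nat_lit 0), (nat_lit 1), (nat_lit 2), (nat_lit 3), (nat_lit 4), (nat_lit 5), (nat_lit 6), (nat_lit 7), (nat_lit 8), (nat_lit 9), (nat_lit 10), (nat_lit 11), (nat_lit 12)], (nat_lit 0), (nat_lit 7), e82_rots, e82_hcs,
    (nat_lit 57), (nat_lit 13), (nat_lit 64), (nat_lit 128), (nat_lit 8192), (nat_lit 4095), (nat_lit 8), (nat_lit 255), (nat_lit 19), (nat_lit 524287), (nat_lit 1), (nat_lit 4),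
    fun _ _ => rfl, fun _ => rfl, fun _ _ => rfl, by decide +kernel, e82_all.1⟩

theorem bnd : Bound (ug R7) (gensW 7) 174182400 :=
  e81.bound (ug_rels _) (e82.bound (rels_sub (ug_rels _) (by decide +kernel))
    (WE.bnd.of_univ (rels_sub (ug_rels _) (by decide +kernel))))

theorem R7_cases : ∀ r ∈ R7, (∃ i < 7, r = [2 * i + 1, 2 * i + 1, 2 * i + 1]) ∨
    (∃ j < 21, r = nth [] PW j ++ nth [] PW j) ∨ r = wpow cox 15 := by decide +kernel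

end CF.XT.E8
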