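import Cfsg.Agent.XT.Bt2

set_option autoImplicit false
set_option linter.unusedSectionVars false
set_option linter.style.haveILetI false

namespace CF.XT.Bt

open MulAction Equiv Equiv.Perm Subgroup

theorem conj_pow_iter {K : Type*} [Group K] {g u : K} {r : ℕ} (h : g * u * g⁻¹ = u ^ r) (n : ℕ) :
    g ^ n * u * (g ^ n)⁻¹ = u ^ (r ^ n) := by
  induction n with
  | zero => simp
  | succ n ih =>
    rw [pow_succ' g, mul_inv_rev, show g * g ^ n * u * ((g ^ n)⁻¹ * g⁻¹) =
      g * (g ^ n * u * (g ^ n)⁻¹) * g⁻¹ by group, ih, ← conj_pow, h, ← pow_mul, pow_succ']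

theorem conj_zpowers {K : Type*} [Group K] [Finite K] {p : ℕ} [hp : Fact p.Prime]
    (hK : ∀ S : Sylow p K, Nat.card S ≤ p) {u v : K} (hu : orderOf u = p) (hv : orderOf v = p) :
    ∃ k : K, ∃ r : ℕ, k * v * k⁻¹ = u ^ r := by
  have key : ∀ w : K, orderOf w = p → ∃ S : Sylow p K, (S : Subgroup K) = zpowers w := by
    intro w hw
    have h1 : IsPGroup p (zpowers w) := IsPGroup.of_card (n := 1) (by rw [Nat.card_zpowers, hw, pow_one])
    obtain ⟨S, hS⟩ := h1.exists_le_sylow
    exact ⟨S, (eq_of_le_of_card_ge hS (by rw [Nat.card_zpowers, hw]; exact hK S)).symm⟩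
  obtain ⟨S, hS⟩ := key u hu
  obtain ⟨T, hT⟩ := key v hv
  obtain ⟨k, hk⟩ := exists_smul_eq K T S
  have : k * v * k⁻¹ ∈ zpowers u := by
    rw [← hS, ← hk, Sylow.coe_subgroup_smul]
    have : v ∈ (T : Subgroup K) := hT ▸ mem_zpowers v
    exact smul_mem_pointwise_smul v (MulAut.conj k) _ this
  obtain ⟨r, hr⟩ := (mem_powers_iff_mem_zpowers.2 this)
  exact ⟨k, r, hr.symm⟩

variable {β : Type*} [Fintype β] [DecidableEq β]

theorem three_dvd {w : Perm β} {a b c : β} (hab : a ≠ b) (hac : a ≠ c) (h1 : w a = b) (h2 : w b = c)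
    (h3 : w c = a) : 3 ∣ orderOf w := by
  have h0 : (w ^ 3) a = a := by simp [pow_succ, h1, h2, h3]
  have h4 : ∀ k, (w ^ (3 * k)) a = a := fun k => by
    rw [pow_mul]; exact Perm.pow_apply_eq_self_of_apply_eq_self h0 k
  have h5 : (w ^ orderOf w) a = a := by rw [pow_orderOf_eq_one]; rfl
  rw [← Nat.mod_add_div (orderOf w) 3, pow_add, Perm.mul_apply, h4] at h5
  have : orderOf w % 3 < 3 := Nat.mod_lt _ (by norm_num)
  apply Nat.dvd_of_mod_eq_zero
  interval_cases (orderOf w % 3)
  · rfl
  · rw [pow_one, h1] at h5; exact absurd h5.symm hab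
  · rw [pow_two, Perm.mul_apply, h1, h2] at h5; exact absurd h5.symm hac

theorem exists_three {G : Subgroup (Perm β)} (h3 : IsMultiplyPretransitive G β 3) {a b c : β}
    (hab : a ≠ b) (hac : a ≠ c) (hbc : b ≠ c) : ∃ h ∈ G, h a = b ∧ h b = c ∧ h c = a := by
  let e1 : Fin 3 ↪ β := ⟨![a, b, c], by
    intro i j; fin_cases i <;> fin_cases j <;> simp [hab, hac, hbc, hab.symm, hac.symm, hbc.symm]⟩
  let e2 : Fin 3 ↪ β := ⟨![b, c, a], by
    intro i j; fin_cases i <;> fin_cases j <;> simp [hab, hac, hbc, hab.symm, hac.symm, hbc.symm]⟩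
  obtain ⟨g, hg⟩ := h3.exists_smul_eq e1 e2
  exact ⟨g, g.2, DFunLike.congr_fun hg 0, DFunLike.congr_fun hg 1, DFunLike.congr_fun hg 2⟩

theorem d13_five {G : Subgroup (Perm β)} (h3 : IsMultiplyPretransitive G β 3)
    (hd : Fintype.card β = 13)
    (noc : ∀ g ∈ G, g.IsCycle → g.support.card.Prime → g.support.card + 3 ≤ 13 → False) :
    ¬ 5 ∣ Nat.card G := by
  intro h5
  haveI : Fact (Nat.Prime 5) := ⟨by norm_num⟩
  have s10 : ∀ u ∈ G, orderOf u = 5 → u.support.card = 10 := by
    intro u hu ho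
    obtain ⟨k, hk1, -, hk3⟩ := supp_prime (by norm_num) ho
    have hle := Finset.card_le_univ u.support
    by_cases hk : k = 0
    · exact (noc u hu (hk3 hk) (by rw [hk1, hk]; norm_num) (by omega)).elim
    · omega
  obtain ⟨u, huG, hu⟩ := exists_ord (by norm_num) h5
  have hu10 := s10 u huG hu
  obtain ⟨a, b, c, hab, hac, hbc, habc⟩ := Finset.card_eq_three.1
    (show (u.supportᶜ).card = 3 by rw [Finset.card_compl]; omega)
  have hfix : ∀ z, u z = z ↔ z = a ∨ z = b ∨ z = c := by
    intro z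
    have := Finset.ext_iff.1 habc z
    simpa using this
  obtain ⟨h, hG, ha, hb, hc⟩ := exists_three h3 hab hac hbc
  let K : Subgroup (Perm β) :=
    G ⊓ (stabilizer (Perm β) a ⊓ (stabilizer (Perm β) b ⊓ stabilizer (Perm β) c))
  have hK : ∀ g, g ∈ K ↔ g ∈ G ∧ g a = a ∧ g b = b ∧ g c = c := fun g => by
    simp [K, mem_inf, mem_stabilizer_iff]
  have huK : u ∈ K := (hK u).2 ⟨huG, (hfix a).2 (by simp), (hfix b).2 (by simp), (hfix c).2 (by simp)⟩
  have hvK : h * u * h⁻¹ ∈ K := by
    refine (hK _).2 ⟨mul_mem (mul_mem hG huG) (inv_mem hG), ?_, ?_, ?_⟩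
    · rw [← hc]; simp [(hfix c).2 (by simp)]
    · rw [← ha]; simp [(hfix a).2 (by simp)]
    · rw [← hb]; simp [(hfix b).2 (by simp)]
  obtain ⟨w0, hw0⟩ : u.support.Nonempty := Finset.card_pos.1 (by omega)
  have hS : ∀ S : Sylow 5 K, Nat.card S ≤ 5 := by
    intro S
    have hst : stabilizer S w0 = ⊥ := by
      by_contra hne
      have hp : IsPGroup 5 (stabilizer S w0) := S.isPGroup'.to_subgroup _
      obtain ⟨n, hn⟩ := hp.exists_card_eq
      have hn0 : n ≠ 0 := by
        rintro rfl
        exact hne (card_eq_one.1 (by simpa using hn))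
      obtain ⟨t, ht⟩ := exists_prime_orderOf_dvd_card' (G := stabilizer S w0) 5
        (hn ▸ dvd_pow_self 5 hn0)
      have ht' : orderOf (((t : S) : K) : Perm β) = 5 := by
        rw [orderOf_coe, orderOf_coe, orderOf_coe, ht]
      obtain ⟨t1, t2, t3, t4⟩ := (hK _).1 ((t : S) : K).2
      have t5 : (((t : S) : K) : Perm β) w0 = w0 := t.2
      have := s10 _ t1 ht'
      have hsub : (((t : S) : K) : Perm β).support ⊆ u.support.erase w0 := by
        intro z hz
        rw [mem_support] at hz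
        refine Finset.mem_erase.2 ⟨fun e => hz (e ▸ t5), mem_support.2 fun e => hz ?_⟩
        rcases (hfix z).1 e with rfl | rfl | rfl <;> assumption
      have := Finset.card_le_card hsub
      rw [Finset.card_erase_of_mem hw0] at this
      omega
    have h1 := (stabilizer S w0).index_mul_card
    rw [index_stabilizer, hst, card_bot, mul_one] at h1
    have h2 : (orbit S w0).ncard ≤ 13 := by
      have := Set.ncard_le_card (orbit S w0)
      rwa [Nat.card_eq_fintype_card, hd] at this
    obtain ⟨n, hn⟩ := S.isPGroup'.exists_card_eq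
    have : n ≤ 1 := by
      by_contra hlt
      have : 5 ^ 2 ≤ 5 ^ n := Nat.pow_le_pow_right (by norm_num) (by omega)
      omega
    rw [hn]
    interval_cases n <;> norm_num
  obtain ⟨k, r, hk⟩ := conj_zpowers hS (u := ⟨u, huK⟩) (v := ⟨_, hvK⟩) (by rw [orderOf_mk, hu])
    (by rw [orderOf_mk, ← MulAut.conj_apply, MulEquiv.orderOf_eq, hu])
  obtain ⟨k1, k2, k3, k4⟩ := (hK _).1 k.2
  set g : Perm β := (k : Perm β) * h with hg
  have hgu : g * u * g⁻¹ = u ^ r := by
    have := congrArg Subtype.val hk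
    simp only [Subgroup.coe_mul, Subgroup.coe_inv, SubgroupClass.coe_pow] at this
    rw [← this, hg]; group
  have ga : g a = b := by simp [hg, ha, k3]
  have gb : g b = c := by simp [hg, hb, k4]
  have gc : g c = a := by simp [hg, hc, k2]
  have hr : ¬ 5 ∣ r := by
    intro hr
    have : u ^ r = 1 := by rw [← orderOf_dvd_iff_pow_eq_one, hu]; exact hr
    rw [this, mul_inv_eq_one, mul_eq_left] at hgu
    rw [hgu, orderOf_one] at hu
    omega
  have hw : g ^ 4 * u * (g ^ 4)⁻¹ = u := by
    rw [conj_pow_iter hgu, ← pow_mod_orderOf, hu]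
    have : r ^ 4 % 5 = 1 := by
      rw [Nat.pow_mod]
      have : r % 5 < 5 := Nat.mod_lt _ (by norm_num)
      have : r % 5 ≠ 0 := fun e => hr (Nat.dvd_of_mod_eq_zero e)
      interval_cases (r % 5) <;> simp_all
    rw [this, pow_one]
  have hcom : Commute (g ^ 4) u := mul_inv_eq_iff_eq_mul.1 hw
  have h3d : 3 ∣ orderOf (g ^ 4) := three_dvd hab hac (by simp [pow_succ, ga, gb, gc])
    (by simp [pow_succ, ga, gb, gc]) (by simp [pow_succ, ga, gb, gc])
  set v := (g ^ 4) ^ (orderOf (g ^ 4) / 3) with hv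
  have hv3 : orderOf v = 3 := orderOf_pow_orderOf_div (orderOf_pos _).ne' h3d
  have hvG : v ∈ G := pow_mem (pow_mem (mul_mem k1 hG) _) _
  have hvu : Commute u v := (hcom.pow_left _).symm
  have hdis : v.support ⊆ u.supportᶜ := by
    intro z hz
    rw [Finset.mem_compl]
    intro hz'
    rw [mem_support] at hz hz'
    obtain ⟨j, j1, j2, hj⟩ := exists_pow_fix (u * v) z
    rw [hvu.mul_pow] at hj
    by_cases h5j : 5 ∣ j
    · have : u ^ j = 1 := by rw [← orderOf_dvd_iff_pow_eq_one, hu]; exact h5j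
      rw [this, one_mul] at hj
      refine hz (fix_of_pow hv3 ?_ hj)
      exact ((Nat.Prime.coprime_iff_not_dvd Nat.prime_three).2 (by omega)).symm
    · have h7 := Perm.pow_apply_eq_self_of_apply_eq_self hj 3
      rw [(hvu.pow_pow j j).mul_pow, ← pow_mul v, mul_comm j 3, pow_mul v, ← hv3,
        pow_orderOf_eq_one, one_pow, mul_one, ← pow_mul, hv3] at h7
      refine hz' (fix_of_pow hu ?_ h7)
      exact ((Nat.Prime.coprime_iff_not_dvd (by norm_num)).2 (by omega)).symm
  obtain ⟨m, hm1, -, hm3⟩ := supp_prime Nat.prime_three hv3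
  have := Finset.card_le_card hdis
  rw [Finset.card_compl] at this
  have hm : m = 0 := by omega
  exact noc v hvG (hm3 hm) (by rw [hm1, hm]; norm_num) (by omega)

/-- an 11-cycle normalizing a 3-group fixing a point -/
theorem d13_Q {Q : Subgroup (Perm β)} (hd : Fintype.card β = 13) (hQ : IsPGroup 3 Q) {a : β}
    (ha : ∀ g ∈ Q, g a = a) {x : Perm β} (hx : orderOf x = 11) (hxa : x a = a)
    (hn : x ∈ normalizer (Q : Set (Perm β))) : Q = ⊥ := by
  classical
  haveI : Fact (Nat.Prime 3) := ⟨by norm_num⟩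
  obtain ⟨k, hk1, -, hk3⟩ := supp_prime (by norm_num) hx
  have hle := Finset.card_le_univ x.support
  have hk : k = 0 := by omega
  have hc := hk3 hk
  have h11 : x.support.card = 11 := by omega
  obtain ⟨b, hb1, hb2⟩ := Finset.exists_mem_notMem_of_card_lt_card (s := insert a x.support)
    (t := Finset.univ) (by
      have := Finset.card_insert_le a x.support
      rw [Finset.card_univ]; omega)
  rw [Finset.mem_insert, not_or, notMem_support] at hb2
  obtain ⟨hba, hxb⟩ := hb2
  have hall : ∀ z, z = a ∨ z = b ∨ x z ≠ z := by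
    intro z
    have : insert a (insert b x.support) = Finset.univ := by
      apply Finset.eq_univ_of_card
      rw [Finset.card_insert_of_notMem (by simp [Ne.symm hba, hxa]),
        Finset.card_insert_of_notMem (by simp [hxb])]
      omega
    have := Finset.ext_iff.1 this z
    simpa using this
  have hinv : ∀ T : Set β, (∀ z ∈ T, x z ∈ T) → ∀ z ∈ T, x z ≠ z → ∀ w, x w ≠ w → w ∈ T := by
    intro T hT z hz hz' w hw
    obtain ⟨i, hi⟩ := hc.exists_pow_eq hz' hw
    rw [← hi]
    clear hi
    induction i with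
    | zero => simpa using hz
    | succ i ih => rw [pow_succ', Perm.mul_apply]; exact hT _ ih
  have hn1 : ∀ g ∈ Q, x * g * x⁻¹ ∈ Q := fun g hg => (mem_normalizer_iff.1 hn g).1 hg
  have hn2 : ∀ g ∈ Q, x⁻¹ * g * x ∈ Q := fun g hg => by
    have := (mem_normalizer_iff.1 (inv_mem hn) g).1 hg
    rwa [inv_inv] at this
  have hb : ∀ g ∈ Q, g b = b := by
    by_contra hne
    push Not at hne
    obtain ⟨g, hg, hgb⟩ := hne
    have hna : ∀ z ∈ orbit Q b, z ≠ a := by
      rintro _ ⟨q, rfl⟩ e
      apply hba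
      apply (q : Perm β).injective
      rw [ha _ q.2]; exact e
    have h1 : ∀ z ∈ orbit Q b, x z ∈ orbit Q b := by
      rintro _ ⟨q, rfl⟩
      refine ⟨⟨_, hn1 _ q.2⟩, ?_⟩
      show (x * q * x⁻¹) b = x ((q : Perm β) b)
      rw [Perm.mul_apply, Perm.mul_apply, inv_eq_iff_eq.2 hxb.symm]
    have h2 : g b ∈ orbit Q b := ⟨⟨g, hg⟩, rfl⟩
    have h3 : x (g b) ≠ g b := by
      rcases hall (g b) with e | e | e
      · exact absurd e (hna _ h2)
      · exact absurd e hgb
      · exact e
    have h4 : orbit Q b = ({a} : Set β)ᶜ := by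
      ext z
      refine ⟨fun hz => hna z hz, fun hz => ?_⟩
      rcases hall z with e | e | e
      · exact absurd e hz
      · rw [e]; exact mem_orbit_self _
      · exact hinv _ h1 _ h2 h3 z e
    obtain ⟨n, hn⟩ := hQ.card_orbit b
    have h5 := Set.ncard_add_ncard_compl ({a} : Set β)
    rw [Nat.card_coe_set_eq, h4] at hn
    rw [Set.ncard_singleton, Nat.card_eq_fintype_card, hd, hn] at h5
    have : n ≤ 2 := by
      by_contra hlt
      have : 3 ^ 3 ≤ 3 ^ n := Nat.pow_le_pow_right (by norm_num) (by omega)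
      omega
    interval_cases n <;> omega
  have hm := hQ.card_modEq_card_fixedPoints β
  rw [Nat.card_eq_fintype_card, hd, Nat.card_coe_set_eq] at hm
  have : ∃ z ∈ fixedPoints Q β, x z ≠ z := by
    by_contra hne
    push Not at hne
    have : fixedPoints Q β = {a, b} := by
      ext z
      refine ⟨fun hz => ?_, ?_⟩
      · rcases hall z with e | e | e
        · exact Or.inl e
        · exact Or.inr e
        · exact absurd (hne z hz) e
      · rintro (rfl | rfl)
        · exact fun q => ha _ q.2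
        · exact fun q => hb _ q.2
    rw [this, Set.ncard_pair (Ne.symm hba)] at hm
    exact absurd hm (by decide)
  obtain ⟨z, hz, hz'⟩ := this
  have h1 : ∀ z ∈ fixedPoints Q β, x z ∈ fixedPoints Q β := by
    intro z hz q
    have : (x⁻¹ * q * x) z = z := hz ⟨_, hn2 _ q.2⟩
    rw [Perm.mul_apply, Perm.mul_apply, inv_eq_iff_eq] at this
    exact this
  rw [eq_bot_iff]
  intro g hg
  rw [mem_bot]
  ext w
  rcases hall w with e | e | e
  · rw [e]; exact ha g hg
  · rw [e]; exact hb g hg
  · exact hinv _ h1 z hz hz' w e ⟨g, hg⟩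

theorem neg_one_zmod11 : (-1 : ZMod 11) = ((10 : ℕ) : ZMod 11) := by decide

theorem d13_norm (hd : Fintype.card β = 13) {x g : Perm β} (hx : orderOf x = 11) {a : β}
    (hxa : x a = a) (hga : g a = a) (hsg : sign g = 1) (h5 : ¬ 5 ∣ orderOf g) {r : ℕ}
    (hg : g * x * g⁻¹ = x ^ r) : g * x * g⁻¹ = x := by
  haveI : Fact (Nat.Prime 11) := ⟨by norm_num⟩
  obtain ⟨k, hk1, -, hk3⟩ := supp_prime (by norm_num) hx
  have hle := Finset.card_le_univ x.support
  have hk : k = 0 := by omega
  have hc := hk3 hk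
  have h11 : x.support.card = 11 := by omega
  have h1 : x ^ (r ^ orderOf g) = x ^ 1 := by
    rw [← conj_pow_iter hg, pow_orderOf_eq_one]; simp
  rw [pow_eq_pow_iff_modEq, hx] at h1
  have h2 : ((r : ZMod 11)) ^ orderOf g = 1 := by
    have := (ZMod.natCast_eq_natCast_iff _ _ _).2 h1
    simpa using this
  have h0 : (r : ZMod 11) ≠ 0 := by
    intro e
    rw [e, zero_pow (orderOf_pos g).ne'] at h2
    exact zero_ne_one h2
  have h3 := ZMod.pow_card_sub_one_eq_one h0
  have h4 : (r : ZMod 11) ^ 2 = 1 := by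
    have := pow_gcd_eq_one.2 ⟨h2, h3⟩
    have h6 : Nat.gcd (orderOf g) (11 - 1) ∣ 2 := by
      have h7 : Nat.gcd (orderOf g) (11 - 1) ∣ 2 * 5 := Nat.gcd_dvd_right _ _
      refine Nat.Coprime.dvd_of_dvd_mul_right ?_ h7
      exact ((Nat.Prime.coprime_iff_not_dvd (by norm_num)).2
        (fun e => h5 (e.trans (Nat.gcd_dvd_left _ _)))).symm
    obtain ⟨m, hm⟩ := h6
    rw [hm, pow_mul, this, one_pow]
  rcases sq_eq_one_iff.1 h4 with e | e
  · rw [hg]
    have : r ≡ 1 [MOD 11] := (ZMod.natCast_eq_natCast_iff _ _ _).1 (by simpa using e)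
    rw [← hx, ← pow_eq_pow_iff_modEq, pow_one] at this
    exact this
  exfalso
  have hinv : g * x * g⁻¹ = x ^ 10 := by
    rw [hg, pow_eq_pow_iff_modEq, hx]
    exact (ZMod.natCast_eq_natCast_iff _ _ _).1 (by rw [e]; exact neg_one_zmod11)
  have hx11 : x ^ 11 = 1 := by rw [← hx, pow_orderOf_eq_one]
  have hfx : ∀ z, x z = z → x (g z) = g z := by
    intro z hz
    refine fix_of_pow hx (k := 10) (by norm_num) ?_
    rw [← hinv]; simp [hz]
  have hfx' : ∀ z, x (g z) = g z → x z = z := by
    intro z hz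
    have := Perm.pow_apply_eq_self_of_apply_eq_self hz 10
    rw [← hinv] at this
    simpa using this
  have hgb : ∀ z, x z = z → g z = z := by
    intro z hz
    by_contra hne
    have hza : z ≠ a := fun e => hne (e ▸ hga)
    have hga' : g z ≠ a := fun e => hza (g.injective (e.trans hga.symm))
    have : ({a, z, g z} : Finset β) ⊆ x.supportᶜ := by
      intro w hw
      simp only [Finset.mem_insert, Finset.mem_singleton] at hw
      rcases hw with rfl | rfl | rfl <;> simp [hxa, hz, hfx]
    have := Finset.card_le_card this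
    rw [Finset.card_compl, Finset.card_eq_three.2 ⟨a, z, g z, hza.symm, hga'.symm, Ne.symm hne, rfl⟩]
      at this
    omega
  have hc2 : g ^ 2 * x * (g ^ 2)⁻¹ = x := by
    rw [conj_pow_iter hinv, ← pow_mod_orderOf, hx]; norm_num
  have hcom : Commute (g ^ 2) x := mul_inv_eq_iff_eq_mul.1 hc2
  obtain ⟨z0, hz0⟩ : x.support.Nonempty := Finset.card_pos.1 (by omega)
  rw [mem_support] at hz0
  have hz1 : x ((g ^ 2) z0) ≠ (g ^ 2) z0 := fun e => hz0 (hfx' _ (hfx' _ e))
  obtain ⟨i, hi⟩ := hc.exists_pow_eq hz0 hz1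
  have hg2 : g ^ 2 = x ^ i := by
    ext w
    by_cases hw : x w = w
    · rw [Perm.pow_apply_eq_self_of_apply_eq_self hw,
        Perm.pow_apply_eq_self_of_apply_eq_self (hgb w hw)]
    · obtain ⟨j, hj⟩ := hc.exists_pow_eq hz0 hw
      rw [← hj, ← Perm.mul_apply, (hcom.pow_right j).eq, Perm.mul_apply, ← hi, ← Perm.mul_apply,
        ← Perm.mul_apply, ← pow_add, ← pow_add, add_comm]
  set t := g ^ 11 with ht
  have ht2 : t ^ 2 = 1 := by
    rw [ht, ← pow_mul, mul_comm, pow_mul, hg2, ← pow_mul, mul_comm, pow_mul, hx11, one_pow]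
  have htx : t * x * t⁻¹ = x ^ 10 := by
    rw [ht, conj_pow_iter hinv, ← pow_mod_orderOf, hx]; norm_num
  have ht1 : t ≠ 1 := by
    intro e
    rw [e, one_mul, inv_one, mul_one] at htx
    have : x ^ 1 = x ^ 10 := by rw [pow_one]; exact htx
    rw [pow_eq_pow_iff_modEq, hx] at this
    exact absurd this (by decide)
  obtain ⟨m, hm1, hm2, -⟩ := supp_prime Nat.prime_two (orderOf_eq_prime ht2 ht1)
  have hsub : t.support ⊆ x.support := by
    intro w hw
    rw [mem_support] at hw ⊢
    exact fun e => hw (Perm.pow_apply_eq_self_of_apply_eq_self (hgb w e) 11)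
  have hone : (x.support \ t.support).card ≤ 1 := by
    rw [Finset.card_le_one]
    intro z hz w hw
    simp only [Finset.mem_sdiff, mem_support, not_not] at hz hw
    obtain ⟨j, hj⟩ := hc.exists_pow_eq hz.1 hw.1
    have h6 : (x ^ (10 * j)) z = (x ^ j) z := by
      rw [pow_mul, ← htx, conj_pow, hj, Perm.mul_apply, Perm.mul_apply, inv_eq_iff_eq.2 hz.2.symm,
        hj, hw.2]
    have h7 : (x ^ (9 * j)) z = z := by
      apply (x ^ j).injective
      rw [← Perm.mul_apply, ← pow_add, show j + 9 * j = 10 * j by ring, h6]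
    have h8 := (hc.pow_eq_one_iff' hz.1).2 h7
    rw [← orderOf_dvd_iff_pow_eq_one, hx] at h8
    have h9 : x ^ j = 1 := by
      rw [← orderOf_dvd_iff_pow_eq_one, hx]; omega
    rw [← hj, h9]; rfl
  rw [Finset.card_sdiff_of_subset hsub] at hone
  have := Finset.card_le_card hsub
  have hm : m = 4 := by omega
  rw [hm, ht, map_pow, hsg] at hm2
  exact absurd hm2 (by decide)

theorem deg13 {G : Subgroup (Perm β)} (pr : IsPreprimitive G β) (hE : G ≤ alternatingGroup β)
    {x : Perm β} (hxG : x ∈ G) (hx : orderOf x = 11) (hd : Fintype.card β = 13) :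
    alternatingGroup β ≤ G := by
  by_contra hA
  haveI : Fact (Nat.Prime 11) := ⟨by norm_num⟩
  haveI : Fact (Nat.Prime 3) := ⟨by norm_num⟩
  obtain ⟨k, hk1, -, hk3⟩ := supp_prime (by norm_num) hx
  have hle := Finset.card_le_univ x.support
  have hk : k = 0 := by omega
  have hc := hk3 hk
  have h11 : x.support.card = 11 := by omega
  have h3 := three_trans pr hxG hc (by rw [h11]; norm_num) (by omega)
  have h5 := d13_five h3 hd (fun g hg gc gp gl => hA
    (CF.Perm.alternatingGroup_le_of_prime_cycle G pr gp (by omega) gc rfl hg))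
  obtain ⟨a, -, ha⟩ := Finset.exists_mem_notMem_of_card_lt_card (s := x.support)
    (t := Finset.univ) (by rw [Finset.card_univ]; omega)
  rw [notMem_support] at ha
  let L := stabilizer G a
  have hL : 13 * Nat.card L = Nat.card G := by
    rw [← (stabilizer G a).index_mul_card, index_stabilizer_of_transitive,
      Nat.card_eq_fintype_card (α := β), hd]
  have h3G : 3 ∣ Nat.card G := by
    obtain ⟨s0, -, hs0⟩ := Finset.exists_subset_card_eq (s := (Finset.univ : Finset β)) (n := 3)
      (by simp [hd])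
    obtain ⟨a, b, c, hab, hac, hbc, -⟩ := Finset.card_eq_three.1 hs0
    obtain ⟨h, hG, e1, e2, e3⟩ := exists_three h3 hab hac hbc
    refine (three_dvd hab hac e1 e2 e3).trans ?_
    have := orderOf_dvd_natCard (⟨h, hG⟩ : G)
    rwa [orderOf_mk] at this
  have h3L : 3 ∣ Nat.card L := by omega
  have hLd : Nat.card L ∣ (13 : ℕ).factorial := by
    have := card_subgroup_dvd_card G
    rw [Nat.card_perm, Nat.card_eq_fintype_card (α := β), hd] at this
    exact (card_subgroup_dvd_card L).trans this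
  let x' : L := ⟨⟨x, hxG⟩, ha⟩
  have hx' : orderOf x' = 11 := by rw [← orderOf_coe, ← orderOf_coe]; exact hx
  have hP0 : IsPGroup 11 (zpowers x') :=
    IsPGroup.of_card (n := 1) (by rw [Nat.card_zpowers, hx', pow_one])
  obtain ⟨P, hP⟩ := hP0.exists_le_sylow
  have hPc : Nat.card P = 11 := by
    obtain ⟨n, hn⟩ := P.isPGroup'.exists_card_eq
    have h1 : 11 ∣ Nat.card P := by
      have := card_dvd_of_le hP
      rwa [Nat.card_zpowers, hx'] at this
    have h2 : ¬ 11 ^ 2 ∣ Nat.card P := fun e =>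
      absurd ((e.trans (card_subgroup_dvd_card _)).trans hLd) (by decide)
    rw [hn] at h1 h2 ⊢
    have : n ≠ 0 := by rintro rfl; omega
    have : n < 2 := by
      by_contra hlt
      exact h2 (pow_dvd_pow _ (by omega))
    have : n = 1 := by omega
    rw [this, pow_one]
  have hPe : (P : Subgroup L) = zpowers x' :=
    (eq_of_le_of_card_ge hP (by rw [Nat.card_zpowers, hx', hPc])).symm
  have hNC : normalizer ((P : Subgroup L) : Set L) ≤ centralizer ((P : Subgroup L) : Set L) := by
    intro g hg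
    have h1 : g * x' * g⁻¹ ∈ zpowers x' := by
      rw [← hPe]; exact (mem_normalizer_iff.1 hg x').1 (hPe ▸ mem_zpowers x')
    obtain ⟨r, hr⟩ := mem_powers_iff_mem_zpowers.2 h1
    have h2 : ((g : G) : Perm β) * x * ((g : G) : Perm β)⁻¹ = x ^ r := by
      have := congrArg (fun t : L => ((t : G) : Perm β)) hr
      simpa [x'] using this.symm
    have h4 := d13_norm hd hx ha (g := ((g : G) : Perm β)) g.2 (mem_alternatingGroup.1 (hE (g : G).2))
      (fun e => h5 (e.trans (by rw [orderOf_coe]; exact orderOf_dvd_natCard _))) h2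
    have h6 : Commute g x' := by
      apply Subtype.ext; apply Subtype.ext
      exact mul_inv_eq_iff_eq_mul.1 h4
    rw [hPe, mem_centralizer_iff]
    rintro _ ⟨n, rfl⟩
    exact (h6.zpow_right n).symm.eq
  have hcomp := MonoidHom.ker_transferSylow_isComplement' P hNC
  set K := (MonoidHom.transferSylow P hNC).ker with hK
  have hKc : Nat.card K * 11 = Nat.card L := by rw [← hPc]; exact hcomp.card_mul_card
  have h11K : ¬ 11 ∣ Nat.card K := fun e =>
    absurd ((show 11 * 11 ∣ Nat.card L by rw [← hKc]; exact Nat.mul_dvd_mul_right e 11).trans hLd)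
      (by decide)
  obtain ⟨Q0⟩ := (inferInstance : Nonempty (Sylow 3 K))
  have hfr := Q0.normalizer_sup_eq_top
  set N := normalizer (((Q0 : Subgroup K).map K.subtype : Subgroup L) : Set L) with hN
  have h11N : 11 ∣ Nat.card N := by
    have h1 : K.relIndex N = K.index := by
      rw [← relIndex_sup_right N K, hfr, relIndex_top_right]
    have h2 : K.index = 11 := by
      have := K.card_mul_index
      rw [← hKc] at this
      exact Nat.eq_of_mul_eq_mul_left Nat.card_pos this
    rw [← h2, ← h1]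
    exact index_dvd_card _
  obtain ⟨y, hy⟩ := exists_prime_orderOf_dvd_card' (G := N) 11 h11N
  let φ : L →* Perm β := G.subtype.comp L.subtype
  have hφ : Function.Injective φ := G.subtype_injective.comp L.subtype_injective
  have hQ := d13_Q (Q := ((Q0 : Subgroup K).map K.subtype).map φ) hd
    ((Q0.isPGroup'.map _).map _) (a := a) (by rintro _ ⟨g, -, rfl⟩; exact g.2) (x := φ y)
    (by rw [orderOf_injective φ hφ, orderOf_coe, hy]) (y : L).2
    (le_normalizer_map φ (mem_map_of_mem φ y.2))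
  rw [map_eq_bot_iff_of_injective _ hφ, map_eq_bot_iff_of_injective _ K.subtype_injective] at hQ
  have := Q0.not_dvd_index
  rw [hQ, index_bot] at this
  omega

theorem core {x y : Perm β} {p q : ℕ} (hp : p.Prime) (hq : q.Prime) (hx : orderOf x = p)
    (hy : orderOf y = q) (hpq : p < q) (hd : Fintype.card β ≤ 2 * p) (hs : ∀ b, x b ≠ b ∨ y b ≠ b)
    (sx : sign x = 1) (sy : sign y = 1)
    (good : (p = 3 ∧ q = 5) ∨ (p = 5 ∧ q = 7) ∨ (p = 11 ∧ q = 13) ∨
      (p + 3 ≤ q ∧ (Fintype.card β < 2 * p ∨ q + 3 ≤ 2 * p))) :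
    5 ≤ Fintype.card β ∧ (closure ({x, y} : Set (Perm β)) = alternatingGroup β ∨
      Nonempty (closure ({x, y} : Set (Perm β)) ≃* alternatingGroup (Fin 5))) := by
  set G := closure ({x, y} : Set (Perm β)) with hG
  have hxG : x ∈ G := subset_closure (by simp)
  have hyG : y ∈ G := subset_closure (by simp)
  have hE : G ≤ alternatingGroup β := by
    rw [hG, closure_le]
    rintro _ (rfl | rfl)
    · exact mem_alternatingGroup.2 sx
    · exact mem_alternatingGroup.2 sy
  obtain ⟨k, hk1, -, hk3⟩ := supp_prime hq hy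
  have hle := Finset.card_le_univ y.support
  have hk : k = 0 := by
    by_contra hne
    have : 2 * q ≤ (k + 1) * q := Nat.mul_le_mul_right _ (by omega)
    omega
  have hyc := hk3 hk
  have hyq : y.support.card = q := by rw [hk1, hk]; simp
  obtain ⟨l, hl1, -, hl3⟩ := supp_prime hp hx
  have hle' := Finset.card_le_univ x.support
  have h2p := hp.two_le
  refine ⟨by omega, ?_⟩
  haveI := trans_of hp hx hyc (by omega) hs
  have pr := prim_of_cycle hyG hyc (hyq ▸ hq) (by omega)
  suffices alternatingGroup β ≤ G ∨ Nonempty (G ≃* alternatingGroup (Fin 5)) from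
    this.imp (le_antisymm hE) id
  by_cases h1 : q + 3 ≤ Fintype.card β
  · exact Or.inl (CF.Perm.alternatingGroup_le_of_prime_cycle G pr hq h1 hyc hyq hyG)
  by_cases hl : l = 0
  · have hxp : x.support.card = p := by rw [hl1, hl]; simp
    by_cases h2 : p + 3 ≤ Fintype.card β
    · exact Or.inl (CF.Perm.alternatingGroup_le_of_prime_cycle G pr hp h2 (hl3 hl) hxp hxG)
    left
    rcases good with ⟨rfl, rfl⟩ | ⟨rfl, rfl⟩ | ⟨rfl, rfl⟩ | h
    · exact alternatingGroup_le_of_isPreprimitive_of_isThreeCycle_mem pr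
        (card_support_eq_three_iff.1 hxp) hxG
    · exact deg7 pr hE hxG (hl3 hl) hxp (by omega)
    · exact deg13 pr hE hxG hx (by omega)
    · omega
  · have : 2 * p ≤ (l + 1) * p := Nat.mul_le_mul_right _ (by omega)
    have h3 : p = 3 ∧ q = 5 := by omega
    obtain ⟨rfl, rfl⟩ := h3
    refine deg6 hE ?_ (by omega)
    have := orderOf_dvd_natCard (⟨y, hyG⟩ : G)
    rwa [orderOf_mk, hy] at this

theorem gen_alt {m p q : ℕ} (hp : p.Prime) (hq : q.Prime) (hpq : p < q) (hd : m ≤ 2 * p)
    (good : (p = 3 ∧ q = 5) ∨ (p = 5 ∧ q = 7) ∨ (p = 11 ∧ q = 13) ∨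
      (p + 3 ≤ q ∧ (m < 2 * p ∨ q + 3 ≤ 2 * p)))
    (x y : alternatingGroup (Fin m)) (hx : orderOf x = p) (hy : orderOf y = q) :
    ∃ d : ℕ, 5 ≤ d ∧ Nonempty (closure ({x, y} : Set (alternatingGroup (Fin m))) ≃*
      alternatingGroup (Fin d)) := by
  let s : Finset (Fin m) := (x : Perm (Fin m)).support ∪ (y : Perm (Fin m)).support
  have mk : ∀ z : Perm (Fin m), z ∈ closure ({(x : Perm (Fin m)), (y : Perm (Fin m))} : Set _) →
      z.support ⊆ s → ∃ z' : Perm s, ofSubtype z' = z := by
    intro z _ hz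
    refine ⟨z.subtypePerm (p := fun a => a ∈ s) fun a => ?_, ofSubtype_subtypePerm _ ?_⟩
    · by_cases ha : z a = a
      · rw [ha]
      · exact iff_of_true (hz (apply_mem_support.2 (mem_support.2 ha))) (hz (mem_support.2 ha))
    · exact fun a ha => hz (mem_support.2 ha)
  obtain ⟨x', hx'⟩ := mk x (subset_closure (by simp)) Finset.subset_union_left
  obtain ⟨y', hy'⟩ := mk y (subset_closure (by simp)) Finset.subset_union_right
  have hinj : Function.Injective (ofSubtype : Perm s →* Perm (Fin m)) := ofSubtype_injective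
  have hcs : Fintype.card s ≤ m := by simpa using Finset.card_le_univ s
  obtain ⟨h5, h⟩ := core (x := x') (y := y') hp hq
    (by rw [← orderOf_injective _ hinj, hx', orderOf_coe, hx])
    (by rw [← orderOf_injective _ hinj, hy', orderOf_coe, hy]) hpq (by omega)
    (by
      rintro ⟨b, hb⟩
      rcases Finset.mem_union.1 hb with h | h
      · left
        intro e
        rw [mem_support, ← hx', ofSubtype_apply_of_mem _ hb, e] at h
        exact h rfl
      · right
        intro e
        rw [mem_support, ← hy', ofSubtype_apply_of_mem _ hb, e] at h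
        exact h rfl)
    (by rw [← sign_ofSubtype, hx']; exact mem_alternatingGroup.1 x.2)
    (by rw [← sign_ofSubtype, hy']; exact mem_alternatingGroup.1 y.2) (by omega)
  have e1 : (closure ({x, y} : Set (alternatingGroup (Fin m)))).map (alternatingGroup _).subtype =
      (closure ({x', y'} : Set (Perm s))).map ofSubtype := by
    rw [MonoidHom.map_closure, MonoidHom.map_closure, Set.image_pair, Set.image_pair, hx', hy']
    rfl
  let e : closure ({x, y} : Set (alternatingGroup (Fin m))) ≃* closure ({x', y'} : Set (Perm s)) :=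
    ((equivMapOfInjective _ _ (alternatingGroup _).subtype_injective).trans
      (MulEquiv.subgroupCongr e1)).trans (equivMapOfInjective _ _ hinj).symm
  rcases h with h | ⟨⟨f⟩⟩
  · exact ⟨_, h5, ⟨(e.trans (MulEquiv.subgroupCongr h)).trans (Fintype.equivFin s).altCongrHom⟩⟩
  · exact ⟨5, le_rfl, ⟨e.trans f⟩⟩

end CF.XT.Bt
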