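import Cfsg.Agent.Perm.Deg7
import Cfsg.Agent.Classical.SmallRecog

set_option autoImplicit false
set_option linter.unusedSectionVars false
set_option linter.style.haveILetI false

namespace CF.XT.Bt

open MulAction Equiv Equiv.Perm Subgroup

variable {β : Type*} [Fintype β] [DecidableEq β]

theorem supp_prime {x : Perm β} {p : ℕ} (hp : p.Prime) (hx : orderOf x = p) :
    ∃ k, x.support.card = (k + 1) * p ∧ sign x = (-1) ^ ((k + 1) * p + (k + 1)) ∧
      (k = 0 → x.IsCycle) := by
  obtain ⟨k, hk⟩ := cycleType_prime_order (σ := x) (hx ▸ hp)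
  rw [hx] at hk
  refine ⟨k, ?_, ?_, ?_⟩
  · rw [← sum_cycleType, hk, Multiset.sum_replicate, smul_eq_mul]
  · rw [sign_of_cycleType, hk, Multiset.sum_replicate, smul_eq_mul, Multiset.card_replicate]
  · rintro rfl
    rw [← card_cycleType_eq_one, hk]; simp

theorem prim_fix {G : Subgroup (Perm β)} {y : Perm β} (hy : y ∈ G) (hc : y.IsCycle)
    (hq : y.support.card.Prime) :
    IsPreprimitive (fixingSubgroup G ((y.support : Set β)ᶜ))
      (SubMulAction.ofFixingSubgroup G ((y.support : Set β)ᶜ)) := by
  classical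
  have := isPretransitive_of_isCycle_mem hc hy
  apply IsPreprimitive.of_prime_card
  convert! hq
  rw [Nat.card_eq_fintype_card, Fintype.card_subtype]
  apply congr_arg
  ext x
  simp [SubMulAction.mem_ofFixingSubgroup_iff]

theorem prim_of_cycle {G : Subgroup (Perm β)} [IsPretransitive G β] {y : Perm β} (hy : y ∈ G)
    (hc : y.IsCycle) (hq : y.support.card.Prime) (hd : Fintype.card β < 2 * y.support.card) :
    IsPreprimitive G β := by
  have := prim_fix hy hc hq
  refine IsPreprimitive.of_card_lt
    (f := SubMulAction.ofFixingSubgroup_equivariantMap G ((y.support : Set β)ᶜ)) ?_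
  have : Set.range (SubMulAction.ofFixingSubgroup_equivariantMap G ((y.support : Set β)ᶜ)) =
      (y.support : Set β) := by
    ext z
    constructor
    · rintro ⟨⟨w, hw⟩, rfl⟩
      show w ∈ (y.support : Set β)
      simpa [SubMulAction.mem_ofFixingSubgroup_iff] using hw
    · intro hz
      exact ⟨⟨z, by simpa [SubMulAction.mem_ofFixingSubgroup_iff] using hz⟩, rfl⟩
  rw [this, Set.ncard_coe_finset, Nat.card_eq_fintype_card]
  exact hd

theorem three_trans {G : Subgroup (Perm β)} (pr : IsPreprimitive G β) {x : Perm β} (hx : x ∈ G)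
    (hc : x.IsCycle) (hq : x.support.card.Prime) (hd : Fintype.card β = x.support.card + 2) :
    IsMultiplyPretransitive G β 3 := by
  have h := pr.isMultiplyPreprimitive (s := ((x.support : Set β)ᶜ)) (n := 1) (by
    have := Set.ncard_add_ncard_compl (x.support : Set β)
    rw [Set.ncard_coe_finset, Nat.card_eq_fintype_card] at this
    omega) (by rw [Nat.card_eq_fintype_card]; have := hq.two_le; omega) (prim_fix hx hc hq)
  exact IsMultiplyPreprimitive.isMultiplyPretransitive ..

theorem fix_of_pow {f : Perm β} {p k : ℕ} (hf : orderOf f = p) (hk : k.Coprime p) {z : β}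
    (hz : (f ^ k) z = z) : f z = z := by
  obtain ⟨m, hm⟩ := exists_pow_eq_self_of_coprime (x := f) (n := k) (hf ▸ hk)
  rw [← hm]
  exact Perm.pow_apply_eq_self_of_apply_eq_self hz m

theorem exists_pow_fix (f : Perm β) (z : β) : ∃ j, 1 ≤ j ∧ j ≤ Fintype.card β ∧ (f ^ j) z = z := by
  obtain ⟨a, b, hab, h⟩ := Fintype.exists_ne_map_eq_of_card_lt
    (fun i : Fin (Fintype.card β + 1) => (f ^ (i : ℕ)) z) (by simp)
  wlog hlt : (a : ℕ) < b generalizing a b
  · exact this b a hab.symm h.symm (by have := Fin.val_ne_of_ne hab; omega)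
  refine ⟨b - a, by omega, by omega, ?_⟩
  apply (f ^ (a : ℕ)).injective
  rw [← Perm.mul_apply, ← pow_add, show (a : ℕ) + (b - a) = b by omega]
  exact h.symm

theorem trans_of {x y : Perm β} {p : ℕ} (hp : p.Prime) (hx : orderOf x = p) (hy : y.IsCycle)
    (hd : Fintype.card β < p + y.support.card) (hs : ∀ b, x b ≠ b ∨ y b ≠ b) :
    IsPretransitive (closure ({x, y} : Set (Perm β))) β := by
  have hxG : x ∈ closure ({x, y} : Set (Perm β)) := subset_closure (by simp)
  have hyG : y ∈ closure ({x, y} : Set (Perm β)) := subset_closure (by simp)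
  obtain ⟨a, ha, hac⟩ := hy
  have key : ∀ b, ∃ g : closure ({x, y} : Set (Perm β)), g • a = b := by
    have k1 : ∀ b, y b ≠ b → ∃ g : closure ({x, y} : Set (Perm β)), g • a = b := by
      intro b hb
      obtain ⟨i, hi⟩ := hac hb
      exact ⟨⟨y ^ i, zpow_mem hyG i⟩, hi⟩
    intro b
    rcases hs b with hb | hb
    · by_contra hc
      have hinj : Function.Injective (fun i : Fin p => (x ^ (i : ℕ)) b) := by
        intro i j hij
        by_contra hne
        wlog hlt : (i : ℕ) < j generalizing i j
        · exact this hij.symm (Ne.symm hne) (by have := Fin.val_ne_of_ne hne; omega)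
        apply hb
        refine fix_of_pow hx (k := j - i) ?_ ?_
        · exact Nat.Coprime.symm ((Nat.Prime.coprime_iff_not_dvd hp).2
            (Nat.not_dvd_of_pos_of_lt (by omega) (by omega)))
        · apply (x ^ (i : ℕ)).injective
          rw [← Perm.mul_apply, ← pow_add, show (i : ℕ) + (j - i) = j by omega]
          exact hij.symm
      have hdis : Disjoint (Finset.univ.image (fun i : Fin p => (x ^ (i : ℕ)) b)) y.support := by
        rw [Finset.disjoint_left]
        intro z hz hz'
        obtain ⟨i, -, rfl⟩ := Finset.mem_image.1 hz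
        obtain ⟨g, hg⟩ := k1 _ (mem_support.1 hz')
        apply hc
        refine ⟨(⟨x ^ (i : ℕ), pow_mem hxG _⟩ : closure ({x, y} : Set (Perm β)))⁻¹ * g, ?_⟩
        rw [mul_smul, hg, inv_smul_eq_iff]
        rfl
      have := Finset.card_le_univ (Finset.univ.image (fun i : Fin p => (x ^ (i : ℕ)) b) ∪ y.support)
      rw [Finset.card_union_of_disjoint hdis, Finset.card_image_of_injective _ hinj] at this
      simp at this
      omega
    · exact k1 b hb
  refine ⟨fun b c => ?_⟩
  obtain ⟨g, hg⟩ := key b
  obtain ⟨h, hh⟩ := key c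
  exact ⟨h * g⁻¹, by rw [← hg, ← hh, mul_smul, inv_smul_smul]⟩

theorem exists_ord {G : Subgroup (Perm β)} {p : ℕ} (hp : p.Prime) (h : p ∣ Nat.card G) :
    ∃ t ∈ G, orderOf t = p := by
  haveI := Fact.mk hp
  obtain ⟨t, ht⟩ := exists_prime_orderOf_dvd_card' (G := G) p h
  exact ⟨t, t.2, by rw [← ht, orderOf_coe]⟩

/-- degree seven -/
theorem deg7 {G : Subgroup (Perm β)} (pr : IsPreprimitive G β) (hE : G ≤ alternatingGroup β)
    {x : Perm β} (hx : x ∈ G) (hc : x.IsCycle) (h5 : x.support.card = 5)
    (hd : Fintype.card β = 7) : alternatingGroup β ≤ G := by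
  by_contra hA
  have h3 := three_trans pr hx hc (by rw [h5]; norm_num) (by omega)
  have hb := CF.Perm.bochert G pr hA
  rw [hd] at hb
  norm_num [Nat.factorial] at hb
  have hidx : ∀ s : Set β, s.ncard = 3 → (fixingSubgroup G s).index = 210 := by
    intro s hs
    have := h3.index_of_fixingSubgroup_mul hs
    rw [Nat.card_eq_fintype_card, hd] at this
    norm_num [Nat.factorial] at this
    omega
  have h1 := Set.ncard_add_ncard_compl (x.support : Set β)
  obtain ⟨s0, -, hs0⟩ := Finset.exists_subset_card_eq (s := (Finset.univ : Finset β)) (n := 3)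
    (by simp [hd])
  have h210 : 210 ∣ Nat.card G := by
    rw [← hidx s0 (by simpa using hs0)]; exact index_dvd_card _
  obtain ⟨t, htG, ht⟩ := exists_ord Nat.prime_two (Dvd.dvd.trans (by norm_num) h210)
  obtain ⟨k, hk1, hk2, -⟩ := supp_prime Nat.prime_two ht
  have hle := Finset.card_le_univ t.support
  have hsg : sign t = 1 := mem_alternatingGroup.1 (hE htG)
  have hk : k = 1 := by
    have : k ≤ 2 := by omega
    interval_cases k
    · rw [hsg] at hk2; exact absurd hk2 (by decide)
    · rfl
    · rw [hsg] at hk2; exact absurd hk2 (by decide)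
  subst hk
  have h2 := Set.ncard_add_ncard_compl (t.support : Set β)
  rw [Set.ncard_coe_finset, Nat.card_eq_fintype_card] at h2
  have h4 := hidx ((t.support : Set β)ᶜ) (by omega)
  have h6 := (fixingSubgroup G ((t.support : Set β)ᶜ)).index_mul_card
  have hm : (⟨t, htG⟩ : G) ∈ fixingSubgroup G ((t.support : Set β)ᶜ) := by
    rw [mem_fixingSubgroup_iff]
    intro y hy
    simpa using hy
  have h7 : 2 ∣ Nat.card (fixingSubgroup G ((t.support : Set β)ᶜ)) := by
    have := orderOf_dvd_natCard (⟨_, hm⟩ : fixingSubgroup G ((t.support : Set β)ᶜ))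
    rwa [orderOf_mk, orderOf_mk, ht] at this
  have h8 := Nat.le_of_dvd Nat.card_pos h7
  rw [h4] at h6
  omega

theorem stab_embed0 {A X : Type*} [Group A] [MulAction A X] [Finite X] [FaithfulSMul A X] (b0 : X)
    {n : ℕ} (hi : Nat.card X = n + 1) :
    ∃ f : stabilizer A b0 →* Perm (Fin n), Function.Injective f := by
  haveI : FaithfulSMul (stabilizer A b0) (SubMulAction.ofStabilizer A b0) := by
    refine ⟨fun {g h} hgh => ?_⟩
    apply Subtype.ext
    apply eq_of_smul_eq_smul (α := X)
    intro z
    by_cases hz : z = b0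
    · rw [hz, mem_stabilizer_iff.1 g.2, mem_stabilizer_iff.1 h.2]
    · exact congrArg Subtype.val (hgh ⟨z, hz⟩)
  have hc5 : Nat.card (SubMulAction.ofStabilizer A b0) = n := by
    have := SubMulAction.nat_card_ofStabilizer_add_one_eq A b0
    omega
  exact CF.Classical.exists_injective_perm_of_faithful (G := stabilizer A b0)
    (SubMulAction.ofStabilizer A b0) hc5

theorem stab_embed {A : Type*} [Group A] [Finite A] (H : Subgroup A) (hcore : H.normalCore = ⊥)
    {n : ℕ} (hi : H.index = n + 1) : ∃ f : H →* Perm (Fin n), Function.Injective f := by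
  let b0 : A ⧸ H := ((1 : A) : A ⧸ H)
  have hstab : stabilizer A b0 = H := MulAction.stabilizer_quotient H
  haveI : FaithfulSMul A (A ⧸ H) := by
    refine ⟨fun {g h} hgh => ?_⟩
    have : g⁻¹ * h ∈ H.normalCore := by
      rw [normalCore_eq_ker, MonoidHom.mem_ker]
      ext z
      show (g⁻¹ * h) • z = z
      rw [mul_smul, ← hgh, inv_smul_smul]
    rw [hcore, mem_bot] at this
    exact (inv_mul_eq_one.1 this)
  obtain ⟨f, hf⟩ := stab_embed0 (A := A) b0 (n := n) (by rw [← index_eq_card, hi])
  exact ⟨f.comp (MulEquiv.subgroupCongr hstab.symm).toMonoidHom,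
    hf.comp (MulEquiv.subgroupCongr hstab.symm).injective⟩

/-- degree six -/
theorem deg6 {G : Subgroup (Perm β)} [IsPretransitive G β] (hE : G ≤ alternatingGroup β)
    (h5 : 5 ∣ Nat.card G) (hd : Fintype.card β = 6) :
    alternatingGroup β ≤ G ∨ Nonempty (G ≃* alternatingGroup (Fin 5)) := by
  haveI : Nonempty β := Fintype.card_pos_iff.1 (by omega)
  haveI : Nontrivial β := Fintype.one_lt_card_iff_nontrivial.1 (by omega)
  have hst : ∀ a : β, 6 * Nat.card (stabilizer G a) = Nat.card G := by
    intro a
    rw [← (stabilizer G a).index_mul_card, index_stabilizer_of_transitive,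
      Nat.card_eq_fintype_card (α := β), hd]
  have hA : Nat.card (alternatingGroup β) = 360 := by
    have := two_mul_nat_card_alternatingGroup (α := β)
    rw [Nat.card_perm, Nat.card_eq_fintype_card (α := β), hd] at this
    have h6 : (6 : ℕ).factorial = 720 := by decide
    omega
  haveI := alternatingGroup.isSimpleGroup (α := β) (by rw [Nat.card_eq_fintype_card]; omega)
  set H := G.subgroupOf (alternatingGroup β) with hH
  have hHc : Nat.card H = Nat.card G := Nat.card_congr (subgroupOfEquivOfLe hE).toEquiv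
  by_cases ht : H = ⊤
  · exact Or.inl (subgroupOf_eq_top.1 ht)
  right
  have hcore : H.normalCore = ⊥ := by
    rcases (inferInstance : H.normalCore.Normal).eq_bot_or_eq_top with h | h
    · exact h
    · exact absurd (top_le_iff.1 (h ▸ H.normalCore_le)) ht
  have hi := H.index_mul_card
  rw [hA, hHc] at hi
  obtain ⟨a⟩ := (inferInstance : Nonempty β)
  have h30 : 30 ∣ Nat.card G :=
    Nat.Coprime.mul_dvd_of_dvd_of_dvd (by norm_num : Nat.Coprime 5 6) h5 ⟨_, (hst a).symm⟩
  obtain ⟨k, hk⟩ := h30
  obtain ⟨f, hf⟩ := CF.Classical.exists_injective_perm_of_normalCore H hcore rfl (by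
    intro h; rw [h] at hi; omega)
  have hdv := CF.Classical.card_dvd_factorial_of_injective f hf
  rw [hA] at hdv
  have hik : H.index * k = 12 := by rw [hk] at hi; nlinarith
  have hi6 : 6 ≤ H.index := by
    by_contra hlt
    have := Nat.le_of_dvd (Nat.factorial_pos _) hdv
    have h2 : H.index.factorial ≤ (5 : ℕ).factorial := Nat.factorial_le (by omega)
    norm_num [Nat.factorial] at h2
    omega
  have hk2 : k = 1 ∨ k = 2 := by
    have : k ≤ 2 := by nlinarith
    have : k ≠ 0 := by rintro rfl; omega
    omega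
  rcases hk2 with rfl | rfl
  · exfalso
    obtain ⟨t, htG, ht⟩ := exists_ord (G := G) Nat.prime_two (by rw [hk]; norm_num)
    obtain ⟨k, hk1, hk2, -⟩ := supp_prime Nat.prime_two ht
    have hle := Finset.card_le_univ t.support
    have hsg : sign t = 1 := mem_alternatingGroup.1 (hE htG)
    have hk' : k ≠ 2 := by
      rintro rfl
      rw [hsg] at hk2; exact absurd hk2 (by decide)
    obtain ⟨b, -, hb⟩ := Finset.exists_mem_notMem_of_card_lt_card (s := t.support)
      (t := Finset.univ) (by rw [Finset.card_univ]; omega)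
    have hm : (⟨t, htG⟩ : G) ∈ stabilizer G b := by
      rw [mem_stabilizer_iff]; simpa using hb
    have h7 : 2 ∣ Nat.card (stabilizer G b) := by
      have := orderOf_dvd_natCard (⟨_, hm⟩ : stabilizer G b)
      rwa [orderOf_mk, orderOf_mk, ht] at this
    have := hst b
    omega
  · have hi6 : H.index = 6 := by omega
    obtain ⟨f, hf⟩ := stab_embed H hcore hi6
    obtain ⟨e⟩ := CF.Classical.equiv_alt_of_injective f hf (by
      rw [hHc, hk]; norm_num [Nat.factorial])
    exact ⟨(subgroupOfEquivOfLe hE).symm.trans e⟩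

end CF.XT.Bt
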