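import Cfsg.Agent.Comp.Defs

set_option autoImplicit false
set_option maxRecDepth 1000000
set_option maxHeartbeats 0
set_option Elab.async false

namespace CF.XT.Co
open CF.Comp

noncomputable def kQ : List (List Nat × List (List Nat)) := [([], [[(nat_lit 1)],
  [(nat_lit 3)],
  [(nat_lit 5)],
  [(nat_lit 7)],
  [(nat_lit 9)],
  [(nat_lit 11)],
  [(nat_lit 13), (nat_lit 15)],
  [(nat_lit 15)]]),
  ([(nat_lit 13)], [[(nat_lit 1), (nat_lit 13)],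
  [(nat_lit 3), (nat_lit 13)],
  [(nat_lit 5), (nat_lit 13)],
  [(nat_lit 7), (nat_lit 13)],
  [(nat_lit 9), (nat_lit 13)],
  [(nat_lit 11)],
  [(nat_lit 13)]]),
  ([(nat_lit 11)], [[(nat_lit 1)],
  [(nat_lit 3), (nat_lit 11)],
  [(nat_lit 5)],
  [(nat_lit 7), (nat_lit 11)],
  [(nat_lit 9)],
  [(nat_lit 11)]]),
  ([(nat_lit 9)], [[(nat_lit 1)],
  [(nat_lit 3), (nat_lit 9)],
  [(nat_lit 5)],
  [(nat_lit 7)],
  [(nat_lit 9)]]),
  ([(nat_lit 7)], [[(nat_lit 1)],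
  [(nat_lit 3), (nat_lit 7)],
  [(nat_lit 5)],
  [(nat_lit 7)]]),
  ([(nat_lit 5)], [[(nat_lit 1)],
  [(nat_lit 3)],
  [(nat_lit 5)]]),
  ([(nat_lit 3)], [[(nat_lit 1)],
  [(nat_lit 3)]]),
  ([], [[(nat_lit 1)]]),
  ([], [])]
noncomputable def kP : List (List Nat × List (List Nat)) := [([(nat_lit 11)], [[(nat_lit 1), (nat_lit 11)],
  [(nat_lit 3), (nat_lit 11)],
  [(nat_lit 5), (nat_lit 11)],
  [(nat_lit 7), (nat_lit 11)],
  [(nat_lit 9), (nat_lit 11)],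
  [(nat_lit 11)],
  [(nat_lit 13)]]),
  ([(nat_lit 9)], [[(nat_lit 1)],
  [(nat_lit 3), (nat_lit 9)],
  [(nat_lit 5)],
  [(nat_lit 7), (nat_lit 9)],
  [(nat_lit 9)],
  [(nat_lit 11)]]),
  ([(nat_lit 7)], [[(nat_lit 1)],
  [(nat_lit 3), (nat_lit 7)],
  [(nat_lit 5)],
  [(nat_lit 7)],
  [(nat_lit 9)]]),
  ([(nat_lit 5)], [[(nat_lit 1)],
  [(nat_lit 3), (nat_lit 5)],
  [(nat_lit 5)],
  [(nat_lit 7)]]),
  ([(nat_lit 3)], [[(nat_lit 1)],
  [(nat_lit 3)],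
  [(nat_lit 5)]]),
  ([(nat_lit 1)], [[(nat_lit 1)],
  [(nat_lit 3)]]),
  ([], [[(nat_lit 1)]]),
  ([], [])]
noncomputable def kE : List (List Nat × List (List Nat)) := [([(nat_lit 11)], [[(nat_lit 1), (nat_lit 11)],
  [(nat_lit 3), (nat_lit 11)],
  [(nat_lit 5), (nat_lit 11)],
  [(nat_lit 7), (nat_lit 11)],
  [(nat_lit 9), (nat_lit 11)],
  [(nat_lit 11)]]),
  ([(nat_lit 9)], [[(nat_lit 1)],
  [(nat_lit 3), (nat_lit 9)],
  [(nat_lit 5)],
  [(nat_lit 7), (nat_lit 9)],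
  [(nat_lit 9)]]),
  ([(nat_lit 7)], [[(nat_lit 1)],
  [(nat_lit 3), (nat_lit 7)],
  [(nat_lit 5)],
  [(nat_lit 7)]]),
  ([(nat_lit 5)], [[(nat_lit 1)],
  [(nat_lit 3), (nat_lit 5)],
  [(nat_lit 5)]]),
  ([(nat_lit 3)], [[(nat_lit 1)],
  [(nat_lit 3)]]),
  ([(nat_lit 1)], [[(nat_lit 1)]]),
  ([], [])]
noncomputable def nQ : List (List (List Nat)) := [[[(nat_lit 1)],
  [(nat_lit 5)],
  [(nat_lit 3), (nat_lit 5), (nat_lit 17)],
  [(nat_lit 3), (nat_lit 7), (nat_lit 17)],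
  [(nat_lit 5), (nat_lit 9), (nat_lit 17)],
  [(nat_lit 3), (nat_lit 11), (nat_lit 17)],
  [(nat_lit 5), (nat_lit 13), (nat_lit 17)],
  [(nat_lit 15)],
  [(nat_lit 17)]],
  [[(nat_lit 1)],
  [(nat_lit 3), (nat_lit 5)],
  [(nat_lit 3), (nat_lit 5), (nat_lit 7), (nat_lit 17)],
  [(nat_lit 3)],
  [(nat_lit 5), (nat_lit 9), (nat_lit 17)],
  [(nat_lit 11)],
  [(nat_lit 5), (nat_lit 13), (nat_lit 17)],
  [(nat_lit 15)],
  [(nat_lit 17)]],
  [[(nat_lit 1)],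
  [(nat_lit 3)],
  [(nat_lit 3), (nat_lit 7), (nat_lit 17)],
  [(nat_lit 3), (nat_lit 9)],
  [(nat_lit 5)],
  [(nat_lit 11)],
  [(nat_lit 13)],
  [(nat_lit 15)],
  [(nat_lit 17)]],
  [[(nat_lit 1)],
  [(nat_lit 3)],
  [(nat_lit 5)],
  [(nat_lit 3), (nat_lit 9)],
  [(nat_lit 3), (nat_lit 11), (nat_lit 17)],
  [(nat_lit 7)],
  [(nat_lit 13)],
  [(nat_lit 15)],
  [(nat_lit 17)]],
  [[(nat_lit 7), (nat_lit 9), (nat_lit 11), (nat_lit 13), (nat_lit 15), (nat_lit 17)],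
  [(nat_lit 3)],
  [(nat_lit 1), (nat_lit 3), (nat_lit 9), (nat_lit 11), (nat_lit 13), (nat_lit 15)],
  [(nat_lit 3), (nat_lit 5)],
  [(nat_lit 1), (nat_lit 7), (nat_lit 11), (nat_lit 13), (nat_lit 15)],
  [(nat_lit 1), (nat_lit 7), (nat_lit 9), (nat_lit 13), (nat_lit 15), (nat_lit 17)],
  [(nat_lit 1), (nat_lit 7), (nat_lit 9), (nat_lit 11), (nat_lit 15), (nat_lit 17)],
  [(nat_lit 1), (nat_lit 7), (nat_lit 9), (nat_lit 11), (nat_lit 13)],
  [(nat_lit 17)]],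
  [[(nat_lit 1)],
  [(nat_lit 3)],
  [(nat_lit 5)],
  [(nat_lit 7)],
  [(nat_lit 3), (nat_lit 11), (nat_lit 17)],
  [(nat_lit 3), (nat_lit 13)],
  [(nat_lit 9)],
  [(nat_lit 15)],
  [(nat_lit 17)]],
  [[(nat_lit 1), (nat_lit 5), (nat_lit 7), (nat_lit 9), (nat_lit 13), (nat_lit 15), (nat_lit 17)],
  [(nat_lit 3)],
  [(nat_lit 5)],
  [(nat_lit 7)],
  [(nat_lit 9)],
  [(nat_lit 3), (nat_lit 13), (nat_lit 17)],
  [(nat_lit 3), (nat_lit 5), (nat_lit 7), (nat_lit 9), (nat_lit 11), (nat_lit 13), (nat_lit 15), (nat_lit 17)],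
  [(nat_lit 15)],
  [(nat_lit 17)]]]
noncomputable def nE : List (List (List Nat)) := [[[(nat_lit 3)],
  [(nat_lit 1), (nat_lit 3)],
  [(nat_lit 1), (nat_lit 5)],
  [(nat_lit 3), (nat_lit 7)],
  [(nat_lit 1), (nat_lit 9)],
  [(nat_lit 3), (nat_lit 11)],
  [(nat_lit 13)]],
  [[(nat_lit 1), (nat_lit 3), (nat_lit 13)],
  [(nat_lit 1), (nat_lit 3), (nat_lit 5), (nat_lit 13)],
  [(nat_lit 1)],
  [(nat_lit 3), (nat_lit 7)],
  [(nat_lit 9)],
  [(nat_lit 3), (nat_lit 11)],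
  [(nat_lit 13)]],
  [[(nat_lit 1)],
  [(nat_lit 1), (nat_lit 5)],
  [(nat_lit 1), (nat_lit 7), (nat_lit 13)],
  [(nat_lit 3)],
  [(nat_lit 9)],
  [(nat_lit 11)],
  [(nat_lit 13)]],
  [[(nat_lit 1)],
  [(nat_lit 3)],
  [(nat_lit 1), (nat_lit 7), (nat_lit 13)],
  [(nat_lit 1), (nat_lit 9)],
  [(nat_lit 5)],
  [(nat_lit 11)],
  [(nat_lit 13)]],
  [[(nat_lit 1)],
  [(nat_lit 3)],
  [(nat_lit 5)],
  [(nat_lit 1), (nat_lit 9)],
  [(nat_lit 1), (nat_lit 11), (nat_lit 13)],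
  [(nat_lit 7)],
  [(nat_lit 13)]],
  [[(nat_lit 1)],
  [(nat_lit 3)],
  [(nat_lit 5)],
  [(nat_lit 7)],
  [(nat_lit 1), (nat_lit 11), (nat_lit 13)],
  [(nat_lit 1), (nat_lit 3), (nat_lit 5), (nat_lit 7), (nat_lit 9), (nat_lit 11)],
  [(nat_lit 13)]]]
noncomputable def nA : List (List (List Nat)) := [[[(nat_lit 1), (nat_lit 3), (nat_lit 7), (nat_lit 9), (nat_lit 13), (nat_lit 17), (nat_lit 19)],
  [(nat_lit 1), (nat_lit 3), (nat_lit 5), (nat_lit 7), (nat_lit 9), (nat_lit 11), (nat_lit 19)],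
  [(nat_lit 3), (nat_lit 5), (nat_lit 7), (nat_lit 11), (nat_lit 15), (nat_lit 17), (nat_lit 19), (nat_lit 21)],
  [(nat_lit 3), (nat_lit 11), (nat_lit 15), (nat_lit 17), (nat_lit 21)],
  [(nat_lit 3), (nat_lit 5), (nat_lit 9), (nat_lit 11), (nat_lit 15), (nat_lit 17)],
  [(nat_lit 3), (nat_lit 5), (nat_lit 7), (nat_lit 9), (nat_lit 13), (nat_lit 15)],
  [(nat_lit 1), (nat_lit 7), (nat_lit 11), (nat_lit 17), (nat_lit 21)],
  [(nat_lit 1), (nat_lit 5), (nat_lit 7), (nat_lit 9), (nat_lit 11), (nat_lit 15)],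
  [(nat_lit 3), (nat_lit 9), (nat_lit 11), (nat_lit 21)],
  [(nat_lit 3), (nat_lit 19)],
  [(nat_lit 3), (nat_lit 19), (nat_lit 21)]]]
noncomputable def us : List (List Nat) := [[(nat_lit 11)],
  [(nat_lit 14)],
  [(nat_lit 16), (nat_lit 11)],
  [(nat_lit 18), (nat_lit 14)],
  [(nat_lit 22), (nat_lit 16), (nat_lit 11)]]
noncomputable def aR : List Nat := [(nat_lit 8), (nat_lit 14), (nat_lit 12), (nat_lit 8), (nat_lit 14), (nat_lit 12), (nat_lit 8), (nat_lit 14), (nat_lit 12), (nat_lit 8), (nat_lit 14), (nat_lit 12)]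
noncomputable def aT : List Nat := [(nat_lit 12), (nat_lit 12)]
noncomputable def wB : List Nat := [(nat_lit 9), (nat_lit 11), (nat_lit 13)]
noncomputable def aw2 : List Nat := [(nat_lit 2), (nat_lit 3), (nat_lit 1), (nat_lit 4), (nat_lit 2), (nat_lit 3), (nat_lit 1), (nat_lit 4)]
noncomputable def aw3 : List Nat := [(nat_lit 4), (nat_lit 4)]
noncomputable def lkUR : List (List Nat) := [[(nat_lit 12), (nat_lit 14), (nat_lit 16), (nat_lit 18), (nat_lit 19), (nat_lit 17), (nat_lit 13), (nat_lit 22), (nat_lit 16), (nat_lit 19), (nat_lit 12), (nat_lit 18), (nat_lit 14), (nat_lit 24), (nat_lit 18), (nat_lit 19)],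
  [(nat_lit 12), (nat_lit 14), (nat_lit 16), (nat_lit 18), (nat_lit 19), (nat_lit 17), (nat_lit 13), (nat_lit 22), (nat_lit 16), (nat_lit 19), (nat_lit 12), (nat_lit 18), (nat_lit 14), (nat_lit 24), (nat_lit 18)],
  [(nat_lit 12), (nat_lit 14), (nat_lit 16), (nat_lit 18), (nat_lit 19), (nat_lit 17), (nat_lit 13), (nat_lit 22), (nat_lit 16), (nat_lit 19), (nat_lit 18), (nat_lit 24), (nat_lit 18), (nat_lit 14)],
  [(nat_lit 12), (nat_lit 14), (nat_lit 16), (nat_lit 18), (nat_lit 19), (nat_lit 17), (nat_lit 13), (nat_lit 22), (nat_lit 17), (nat_lit 20), (nat_lit 24), (nat_lit 18), (nat_lit 14)],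
  [(nat_lit 12), (nat_lit 14), (nat_lit 16), (nat_lit 19), (nat_lit 18), (nat_lit 14), (nat_lit 21), (nat_lit 18), (nat_lit 20), (nat_lit 24), (nat_lit 18), (nat_lit 14)],
  [(nat_lit 12), (nat_lit 14), (nat_lit 16), (nat_lit 18), (nat_lit 20), (nat_lit 14), (nat_lit 22), (nat_lit 16), (nat_lit 19), (nat_lit 24), (nat_lit 18), (nat_lit 14)],
  [(nat_lit 12), (nat_lit 14), (nat_lit 16), (nat_lit 18), (nat_lit 19), (nat_lit 17), (nat_lit 13), (nat_lit 22), (nat_lit 16), (nat_lit 19), (nat_lit 12), (nat_lit 18), (nat_lit 14), (nat_lit 24), (nat_lit 18), (nat_lit 19), (nat_lit 12)],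
  [(nat_lit 12), (nat_lit 14), (nat_lit 16), (nat_lit 18), (nat_lit 19), (nat_lit 12), (nat_lit 16), (nat_lit 18), (nat_lit 13), (nat_lit 22), (nat_lit 16), (nat_lit 24), (nat_lit 18), (nat_lit 13)],
  [(nat_lit 12), (nat_lit 14), (nat_lit 16), (nat_lit 18), (nat_lit 19), (nat_lit 12), (nat_lit 16), (nat_lit 18), (nat_lit 22), (nat_lit 16), (nat_lit 24), (nat_lit 18), (nat_lit 13)],
  [(nat_lit 12), (nat_lit 14), (nat_lit 16), (nat_lit 18), (nat_lit 19), (nat_lit 12), (nat_lit 17), (nat_lit 22), (nat_lit 16), (nat_lit 24), (nat_lit 18), (nat_lit 13)],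
  [(nat_lit 12), (nat_lit 14), (nat_lit 16), (nat_lit 18), (nat_lit 19), (nat_lit 12), (nat_lit 22), (nat_lit 16), (nat_lit 24), (nat_lit 18), (nat_lit 13)],
  [(nat_lit 12), (nat_lit 14), (nat_lit 16), (nat_lit 18), (nat_lit 19), (nat_lit 12), (nat_lit 16), (nat_lit 18), (nat_lit 19), (nat_lit 22), (nat_lit 16), (nat_lit 24), (nat_lit 18), (nat_lit 19)],
  [(nat_lit 12), (nat_lit 14), (nat_lit 16), (nat_lit 18), (nat_lit 19), (nat_lit 12), (nat_lit 16), (nat_lit 18), (nat_lit 22), (nat_lit 16), (nat_lit 24), (nat_lit 18), (nat_lit 19)],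
  [(nat_lit 12), (nat_lit 14), (nat_lit 16), (nat_lit 18), (nat_lit 19), (nat_lit 12), (nat_lit 17), (nat_lit 22), (nat_lit 16), (nat_lit 24), (nat_lit 18), (nat_lit 19)],
  [(nat_lit 12), (nat_lit 14), (nat_lit 16), (nat_lit 18), (nat_lit 19), (nat_lit 12), (nat_lit 22), (nat_lit 16), (nat_lit 24), (nat_lit 18), (nat_lit 19)],
  [(nat_lit 12), (nat_lit 14), (nat_lit 16), (nat_lit 18), (nat_lit 19), (nat_lit 12), (nat_lit 16), (nat_lit 21), (nat_lit 18), (nat_lit 14), (nat_lit 19), (nat_lit 18), (nat_lit 24)],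
  [(nat_lit 12), (nat_lit 14), (nat_lit 16), (nat_lit 19), (nat_lit 18), (nat_lit 14), (nat_lit 21), (nat_lit 18), (nat_lit 20), (nat_lit 11), (nat_lit 24), (nat_lit 18)],
  [(nat_lit 12), (nat_lit 14), (nat_lit 16), (nat_lit 18), (nat_lit 20), (nat_lit 14), (nat_lit 22), (nat_lit 16), (nat_lit 11), (nat_lit 20), (nat_lit 24), (nat_lit 18)],
  [(nat_lit 12), (nat_lit 14), (nat_lit 16), (nat_lit 18), (nat_lit 19), (nat_lit 12), (nat_lit 17), (nat_lit 22), (nat_lit 24), (nat_lit 17), (nat_lit 14), (nat_lit 19)],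
  [(nat_lit 12), (nat_lit 14), (nat_lit 16), (nat_lit 18), (nat_lit 19), (nat_lit 12), (nat_lit 22), (nat_lit 24), (nat_lit 17), (nat_lit 14), (nat_lit 19)],
  [(nat_lit 12), (nat_lit 14), (nat_lit 16), (nat_lit 18), (nat_lit 20), (nat_lit 14), (nat_lit 22), (nat_lit 16), (nat_lit 11), (nat_lit 20), (nat_lit 15), (nat_lit 21)]]
noncomputable def lkQR : List (List Nat) := [[(nat_lit 3), (nat_lit 5), (nat_lit 7), (nat_lit 9), (nat_lit 11), (nat_lit 13), (nat_lit 15), (nat_lit 17)],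
  [(nat_lit 3), (nat_lit 5), (nat_lit 7), (nat_lit 9), (nat_lit 11), (nat_lit 13), (nat_lit 15), (nat_lit 17)],
  [(nat_lit 3), (nat_lit 5), (nat_lit 7), (nat_lit 9), (nat_lit 11), (nat_lit 13), (nat_lit 15), (nat_lit 17)],
  [(nat_lit 5), (nat_lit 7), (nat_lit 9), (nat_lit 11), (nat_lit 13), (nat_lit 17)],
  [(nat_lit 5), (nat_lit 7), (nat_lit 9), (nat_lit 11), (nat_lit 13), (nat_lit 15)],
  [(nat_lit 1), (nat_lit 5), (nat_lit 7), (nat_lit 17)],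
  [(nat_lit 3), (nat_lit 5), (nat_lit 7), (nat_lit 9), (nat_lit 11), (nat_lit 13), (nat_lit 15), (nat_lit 17)],
  [],
  [(nat_lit 1), (nat_lit 3), (nat_lit 5), (nat_lit 11), (nat_lit 13), (nat_lit 15)],
  [(nat_lit 1), (nat_lit 5), (nat_lit 11), (nat_lit 13), (nat_lit 15)],
  [(nat_lit 3), (nat_lit 5), (nat_lit 9)],
  [(nat_lit 5), (nat_lit 7), (nat_lit 9), (nat_lit 11), (nat_lit 13), (nat_lit 15), (nat_lit 17)],
  [(nat_lit 5), (nat_lit 7), (nat_lit 9), (nat_lit 11), (nat_lit 13), (nat_lit 15)],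
  [(nat_lit 3), (nat_lit 5), (nat_lit 7), (nat_lit 9), (nat_lit 11), (nat_lit 13), (nat_lit 15), (nat_lit 17)],
  [(nat_lit 1), (nat_lit 5), (nat_lit 7), (nat_lit 17)],
  [(nat_lit 3), (nat_lit 5), (nat_lit 7), (nat_lit 9), (nat_lit 11), (nat_lit 13), (nat_lit 15), (nat_lit 17)],
  [(nat_lit 5), (nat_lit 7), (nat_lit 9), (nat_lit 11), (nat_lit 13), (nat_lit 15)],
  [(nat_lit 1), (nat_lit 3), (nat_lit 5), (nat_lit 7), (nat_lit 15), (nat_lit 17)],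
  [(nat_lit 3), (nat_lit 5), (nat_lit 7), (nat_lit 9), (nat_lit 11), (nat_lit 13), (nat_lit 15)],
  [(nat_lit 1), (nat_lit 5), (nat_lit 7)],
  [(nat_lit 3), (nat_lit 15), (nat_lit 17)]]
noncomputable def lkUS : List (List Nat) := [[(nat_lit 12), (nat_lit 14), (nat_lit 16), (nat_lit 18), (nat_lit 19), (nat_lit 17), (nat_lit 13), (nat_lit 22), (nat_lit 16), (nat_lit 19), (nat_lit 12), (nat_lit 18), (nat_lit 14), (nat_lit 24), (nat_lit 18), (nat_lit 19)],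
  [(nat_lit 12), (nat_lit 14), (nat_lit 16), (nat_lit 18), (nat_lit 19), (nat_lit 17), (nat_lit 13), (nat_lit 22), (nat_lit 16), (nat_lit 19), (nat_lit 12), (nat_lit 18), (nat_lit 14), (nat_lit 24), (nat_lit 18)],
  [(nat_lit 12), (nat_lit 14), (nat_lit 16), (nat_lit 18), (nat_lit 19), (nat_lit 17), (nat_lit 13), (nat_lit 22), (nat_lit 16), (nat_lit 19), (nat_lit 18), (nat_lit 24), (nat_lit 18), (nat_lit 14)],
  [(nat_lit 12), (nat_lit 14), (nat_lit 16), (nat_lit 18), (nat_lit 19), (nat_lit 17), (nat_lit 13), (nat_lit 22), (nat_lit 17), (nat_lit 20), (nat_lit 24), (nat_lit 18), (nat_lit 14)],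
  [(nat_lit 12), (nat_lit 14), (nat_lit 16), (nat_lit 19), (nat_lit 18), (nat_lit 14), (nat_lit 21), (nat_lit 18), (nat_lit 20), (nat_lit 24), (nat_lit 18), (nat_lit 14)],
  [(nat_lit 12), (nat_lit 14), (nat_lit 16), (nat_lit 18), (nat_lit 20), (nat_lit 14), (nat_lit 22), (nat_lit 16), (nat_lit 19), (nat_lit 24), (nat_lit 18), (nat_lit 14)],
  [(nat_lit 12), (nat_lit 14), (nat_lit 16), (nat_lit 18), (nat_lit 20), (nat_lit 14), (nat_lit 16), (nat_lit 18), (nat_lit 19), (nat_lit 22), (nat_lit 16), (nat_lit 12), (nat_lit 20), (nat_lit 14), (nat_lit 24), (nat_lit 18), (nat_lit 14)],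
  [(nat_lit 12), (nat_lit 14), (nat_lit 16), (nat_lit 18), (nat_lit 19), (nat_lit 12), (nat_lit 16), (nat_lit 18), (nat_lit 13), (nat_lit 22), (nat_lit 16), (nat_lit 24), (nat_lit 18), (nat_lit 13)],
  [(nat_lit 12), (nat_lit 14), (nat_lit 16), (nat_lit 18), (nat_lit 19), (nat_lit 12), (nat_lit 16), (nat_lit 18), (nat_lit 22), (nat_lit 16), (nat_lit 24), (nat_lit 18), (nat_lit 13)],
  [(nat_lit 12), (nat_lit 14), (nat_lit 16), (nat_lit 18), (nat_lit 19), (nat_lit 12), (nat_lit 17), (nat_lit 22), (nat_lit 16), (nat_lit 24), (nat_lit 18), (nat_lit 13)],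
  [(nat_lit 12), (nat_lit 14), (nat_lit 16), (nat_lit 18), (nat_lit 19), (nat_lit 12), (nat_lit 22), (nat_lit 16), (nat_lit 24), (nat_lit 18), (nat_lit 13)],
  [(nat_lit 12), (nat_lit 14), (nat_lit 16), (nat_lit 18), (nat_lit 20), (nat_lit 14), (nat_lit 16), (nat_lit 18), (nat_lit 19), (nat_lit 22), (nat_lit 16), (nat_lit 24), (nat_lit 18), (nat_lit 19)],
  [(nat_lit 12), (nat_lit 14), (nat_lit 16), (nat_lit 18), (nat_lit 20), (nat_lit 14), (nat_lit 16), (nat_lit 18), (nat_lit 22), (nat_lit 16), (nat_lit 24), (nat_lit 18), (nat_lit 19)],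
  [(nat_lit 12), (nat_lit 14), (nat_lit 16), (nat_lit 18), (nat_lit 20), (nat_lit 14), (nat_lit 17), (nat_lit 22), (nat_lit 16), (nat_lit 24), (nat_lit 18), (nat_lit 19)],
  [(nat_lit 12), (nat_lit 14), (nat_lit 16), (nat_lit 18), (nat_lit 20), (nat_lit 14), (nat_lit 22), (nat_lit 16), (nat_lit 24), (nat_lit 18), (nat_lit 19)],
  [(nat_lit 12), (nat_lit 14), (nat_lit 16), (nat_lit 18), (nat_lit 19), (nat_lit 12), (nat_lit 16), (nat_lit 21), (nat_lit 18), (nat_lit 14), (nat_lit 19), (nat_lit 18), (nat_lit 24)],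
  [(nat_lit 12), (nat_lit 14), (nat_lit 16), (nat_lit 19), (nat_lit 18), (nat_lit 14), (nat_lit 21), (nat_lit 18), (nat_lit 20), (nat_lit 11), (nat_lit 24), (nat_lit 18)],
  [(nat_lit 12), (nat_lit 14), (nat_lit 16), (nat_lit 18), (nat_lit 20), (nat_lit 14), (nat_lit 22), (nat_lit 16), (nat_lit 11), (nat_lit 20), (nat_lit 24), (nat_lit 18)],
  [(nat_lit 12), (nat_lit 14), (nat_lit 16), (nat_lit 18), (nat_lit 19), (nat_lit 12), (nat_lit 17), (nat_lit 22), (nat_lit 24), (nat_lit 17), (nat_lit 14), (nat_lit 19)],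
  [(nat_lit 12), (nat_lit 14), (nat_lit 16), (nat_lit 18), (nat_lit 19), (nat_lit 12), (nat_lit 22), (nat_lit 24), (nat_lit 17), (nat_lit 14), (nat_lit 19)],
  [(nat_lit 12), (nat_lit 14), (nat_lit 16), (nat_lit 18), (nat_lit 20), (nat_lit 14), (nat_lit 22), (nat_lit 16), (nat_lit 11), (nat_lit 20), (nat_lit 15), (nat_lit 21)]]
noncomputable def lkQS : List (List Nat) := [[(nat_lit 5), (nat_lit 7), (nat_lit 9), (nat_lit 11), (nat_lit 13), (nat_lit 15)],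
  [(nat_lit 5), (nat_lit 7), (nat_lit 9), (nat_lit 11), (nat_lit 13), (nat_lit 15)],
  [(nat_lit 5), (nat_lit 7), (nat_lit 9), (nat_lit 11), (nat_lit 13)],
  [(nat_lit 3), (nat_lit 5), (nat_lit 7), (nat_lit 9), (nat_lit 11), (nat_lit 13), (nat_lit 15)],
  [(nat_lit 3), (nat_lit 5), (nat_lit 7), (nat_lit 9), (nat_lit 11), (nat_lit 13)],
  [(nat_lit 1), (nat_lit 3), (nat_lit 5), (nat_lit 7), (nat_lit 15)],
  [(nat_lit 5), (nat_lit 7), (nat_lit 9), (nat_lit 11), (nat_lit 13)],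
  [],
  [(nat_lit 1), (nat_lit 3), (nat_lit 5), (nat_lit 11), (nat_lit 13), (nat_lit 15)],
  [(nat_lit 1), (nat_lit 5), (nat_lit 11), (nat_lit 13), (nat_lit 15)],
  [(nat_lit 3), (nat_lit 5), (nat_lit 9)],
  [(nat_lit 3), (nat_lit 5), (nat_lit 7), (nat_lit 9), (nat_lit 11), (nat_lit 13)],
  [(nat_lit 3), (nat_lit 5), (nat_lit 7), (nat_lit 9), (nat_lit 11), (nat_lit 13), (nat_lit 17)],
  [(nat_lit 5), (nat_lit 7), (nat_lit 9), (nat_lit 11), (nat_lit 13), (nat_lit 17)],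
  [(nat_lit 1), (nat_lit 3), (nat_lit 5), (nat_lit 7), (nat_lit 15)],
  [(nat_lit 3), (nat_lit 5), (nat_lit 7), (nat_lit 9), (nat_lit 11), (nat_lit 13), (nat_lit 15), (nat_lit 17)],
  [(nat_lit 5), (nat_lit 7), (nat_lit 9), (nat_lit 11), (nat_lit 13), (nat_lit 15)],
  [(nat_lit 1), (nat_lit 3), (nat_lit 5), (nat_lit 7), (nat_lit 15), (nat_lit 17)],
  [(nat_lit 3), (nat_lit 5), (nat_lit 7), (nat_lit 9), (nat_lit 11), (nat_lit 13), (nat_lit 15)],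
  [(nat_lit 1), (nat_lit 5), (nat_lit 7)],
  [(nat_lit 3), (nat_lit 15), (nat_lit 17)]]
noncomputable def sig : List (List Nat) := [[(nat_lit 5)],
  [(nat_lit 7)],
  [(nat_lit 7), (nat_lit 31)],
  [(nat_lit 7), (nat_lit 33)],
  [(nat_lit 7), (nat_lit 35)],
  [(nat_lit 7), (nat_lit 37)],
  [(nat_lit 7), (nat_lit 39)],
  [(nat_lit 3)],
  [(nat_lit 1)]]
noncomputable def tp : List (List Nat) := [[(nat_lit 19), (nat_lit 31), (nat_lit 2)],
  [(nat_lit 19), (nat_lit 31), (nat_lit 2), (nat_lit 3)],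
  [(nat_lit 5)],
  [(nat_lit 7)],
  [(nat_lit 9)],
  [(nat_lit 11)],
  [(nat_lit 13)]]
noncomputable def r8 : List (List Nat) := [[(nat_lit 15), (nat_lit 15), (nat_lit 14)],
  [(nat_lit 15), (nat_lit 1), (nat_lit 15), (nat_lit 2), (nat_lit 2), (nat_lit 15), (nat_lit 1)],
  [(nat_lit 5), (nat_lit 15), (nat_lit 6), (nat_lit 16)],
  [(nat_lit 7), (nat_lit 15), (nat_lit 8), (nat_lit 16)],
  [(nat_lit 9), (nat_lit 15), (nat_lit 10), (nat_lit 16)],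
  [(nat_lit 11), (nat_lit 15), (nat_lit 12), (nat_lit 16)]]
noncomputable def gw : List (List Nat) := [[(nat_lit 77), (nat_lit 76), (nat_lit 77), (nat_lit 74), (nat_lit 74)],
  [(nat_lit 77), (nat_lit 73), (nat_lit 77), (nat_lit 76), (nat_lit 77), (nat_lit 76), (nat_lit 76)]]
noncomputable def Sa : List (List Nat) := [[(nat_lit 55)],
  [(nat_lit 57)],
  [(nat_lit 59)],
  [(nat_lit 61)],
  [(nat_lit 65)],
  [(nat_lit 67)],
  [(nat_lit 69)]]
noncomputable def Ta : List (List Nat) := [[(nat_lit 55)],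
  [(nat_lit 57)],
  [(nat_lit 59)],
  [(nat_lit 65)]]
noncomputable def ua : List (List Nat) := [[(nat_lit 1)],
  [(nat_lit 3)],
  [(nat_lit 5)],
  [(nat_lit 7)],
  [(nat_lit 1), (nat_lit 3), (nat_lit 7), (nat_lit 15), (nat_lit 17), (nat_lit 21)],
  [(nat_lit 9)],
  [(nat_lit 11)],
  [(nat_lit 13)],
  [(nat_lit 1), (nat_lit 5), (nat_lit 11), (nat_lit 13), (nat_lit 15), (nat_lit 17), (nat_lit 19), (nat_lit 21)],
  [(nat_lit 1), (nat_lit 3), (nat_lit 11), (nat_lit 15), (nat_lit 21)],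
  [(nat_lit 1), (nat_lit 3), (nat_lit 7), (nat_lit 9), (nat_lit 11), (nat_lit 21)]]
noncomputable def Ja : List (List Nat × List Nat) := [([(nat_lit 87)], [(nat_lit 1)]),
  ([(nat_lit 89)], [(nat_lit 55)]),
  ([(nat_lit 91)], [(nat_lit 55)]),
  ([(nat_lit 93)], [(nat_lit 55)]),
  ([(nat_lit 95)], [(nat_lit 55)]),
  ([(nat_lit 97)], [(nat_lit 55)]),
  ([(nat_lit 99)], [(nat_lit 55)]),
  ([(nat_lit 101)], [(nat_lit 55)])]
noncomputable def Sb : List (List Nat) := [[(nat_lit 55)],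
  [(nat_lit 57)],
  [(nat_lit 59)],
  [(nat_lit 61)],
  [(nat_lit 63)],
  [(nat_lit 65)]]
noncomputable def Tb : List (List Nat) := [[(nat_lit 57)],
  [(nat_lit 59)],
  [(nat_lit 61)],
  [(nat_lit 63)],
  [(nat_lit 65)]]
noncomputable def ub : List (List Nat) := [[(nat_lit 1)],
  [(nat_lit 3)],
  [(nat_lit 5)],
  [(nat_lit 7)],
  [(nat_lit 9)],
  [(nat_lit 11)],
  [(nat_lit 1), (nat_lit 3), (nat_lit 7), (nat_lit 9), (nat_lit 11), (nat_lit 13), (nat_lit 15), (nat_lit 17), (nat_lit 19)],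
  [(nat_lit 7), (nat_lit 9), (nat_lit 11), (nat_lit 15), (nat_lit 17), (nat_lit 19), (nat_lit 21)],
  [(nat_lit 3), (nat_lit 5), (nat_lit 11), (nat_lit 13), (nat_lit 15), (nat_lit 17), (nat_lit 21)],
  [(nat_lit 1), (nat_lit 3), (nat_lit 5), (nat_lit 9), (nat_lit 13), (nat_lit 15), (nat_lit 17), (nat_lit 19), (nat_lit 21)],
  [(nat_lit 1), (nat_lit 3), (nat_lit 5), (nat_lit 9), (nat_lit 17), (nat_lit 21)]]
noncomputable def Jb : List (List Nat × List Nat) := [([(nat_lit 103)], [(nat_lit 55)]),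
  ([], [(nat_lit 55), (nat_lit 81), (nat_lit 80), (nat_lit 82), (nat_lit 79), (nat_lit 79), (nat_lit 81), (nat_lit 80), (nat_lit 82), (nat_lit 79), (nat_lit 79)])]
noncomputable def Ns : List (List Nat × List Nat) := [([(nat_lit 11)], [(nat_lit 11)]),
  ([(nat_lit 12)], [(nat_lit 12)]),
  ([(nat_lit 13)], [(nat_lit 13)]),
  ([(nat_lit 14)], [(nat_lit 14)]),
  ([(nat_lit 15)], [(nat_lit 15)]),
  ([(nat_lit 16)], [(nat_lit 16)]),
  ([(nat_lit 17)], [(nat_lit 17)]),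
  ([(nat_lit 18)], [(nat_lit 18)]),
  ([(nat_lit 21)], [(nat_lit 21)]),
  ([(nat_lit 22)], [(nat_lit 22)]),
  ([(nat_lit 25)], [(nat_lit 25)]),
  ([(nat_lit 26)], [(nat_lit 26)]),
  ([(nat_lit 9)], [(nat_lit 9)]),
  ([(nat_lit 41)], [(nat_lit 41)]),
  ([(nat_lit 43)], [(nat_lit 43)]),
  ([(nat_lit 45)], [(nat_lit 45)]),
  ([(nat_lit 47)], [(nat_lit 47)]),
  ([(nat_lit 49)], [(nat_lit 49)]),
  ([(nat_lit 7)], [(nat_lit 9), (nat_lit 1), (nat_lit 7)]),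
  ([(nat_lit 31)], [(nat_lit 41), (nat_lit 1), (nat_lit 31)]),
  ([(nat_lit 33)], [(nat_lit 43), (nat_lit 1), (nat_lit 33)]),
  ([(nat_lit 35)], [(nat_lit 45), (nat_lit 1), (nat_lit 35)]),
  ([(nat_lit 37)], [(nat_lit 47), (nat_lit 1), (nat_lit 37)]),
  ([(nat_lit 39)], [(nat_lit 49), (nat_lit 1), (nat_lit 39)]),
  ([(nat_lit 3)], [(nat_lit 3)]),
  ([(nat_lit 1)], [(nat_lit 1), (nat_lit 3)])]

end CF.XT.Co
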