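import Cfsg.Agent.XT.CoD
import Cfsg.Agent.XT.CoP
import Cfsg.Agent.XT.CoW
import Cfsg.Agent.XT.CoH
import Cfsg.Agent.XT.CoL
import Cfsg.Agent.XT.E8
import Cfsg.Agent.Schur.Co1M

set_option autoImplicit false
set_option maxRecDepth 1000000
set_option maxHeartbeats 0

namespace CF.XT.Co

open CF.Comp CF.Bt CF.Schur.Pc CF.Schur.Co1 CF.Leech CF.Known.Mon

noncomputable def MS : List ℕ := lapp MH ME
noncomputable def eH : List ℕ → List ℕ → Bool := bsame 24 MH
noncomputable def nH : List ℕ → List ℕ → Bool := bne 24 MH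
noncomputable def eS : List ℕ → List ℕ → Bool := bsame 24 MS
noncomputable def nS : List ℕ → List ℕ → Bool := bne 24 MS
def s1 : List (List ℕ) := [[7], [31], [33], [35], [37], [39], [3], [1]]
def sQ : List (List ℕ) := [5] :: s1
def sE : List (List ℕ) := [[9], [41], [43], [45], [47], [49], [3]]
def sP : List (List ℕ) := [[9], [41], [43], [45], [47], [49], [3], [1]]
def sA : List (List ℕ) := [[55], [57], [59], [61], [63], [65], [67], [69], [71], [3], [1]]
def sB : List (List ℕ) := [[57], [3], [1]]
def ps : List (List ℕ) := [[9], [41], [43], [45], [47], [49]]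
def wsR : List (List ℕ) := [[11], [13], [15], [17], [19], [21], [23]]
def wsS : List (List ℕ) := [[51], [53], [15], [17], [19], [21], [23]]
def wsT : List (List ℕ) := [[11], [13], [17], [25], [9], [7]]
def w35 : List (List ℕ) := [[11], [13], [17], [25]]
def wY : List (List ℕ) := [[11], [13], [15], [17], [21], [25]]
def w7 : List (List ℕ) := [[15], [17], [21], [25]]
def wV : List (List ℕ) := [[], [1], [3], [1, 3]]
noncomputable def gA : List (List ℕ) := lmap (fun i => [2 * i + 1]) (List.range 38)
def cA' : List ℕ := [1244041, 1256224, 10558, 18147, 36294, 133817, 262637, 2101096, 4196943]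
noncomputable def pa : List ℕ := subst [[79], [81]] M.e2a
noncomputable def pb : List ℕ := subst [[79], [81]] M.e2b
noncomputable def wC : List (List ℕ) := lapp wY (lapp sP (lapp s1 (lapp us (lapp sA (lmap Prod.fst Ns)))))

/-- the second word is the image of the first one under the outer automorphism -/
noncomputable def sgW (u w : List ℕ) : Bool :=
  bor (Bool.rec false (eH w u) (eH (lapp u [7]) (7 :: u))) (Bool.rec false (eH w (7 :: u)) (nH (lapp u [7]) (7 :: u)))

noncomputable def lkOK (ws U Q : List (List ℕ)) : Bool := allFrom (fun j =>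
  eH (cjW (nth [] U j) (subst ws (nth [] E8.PW j))) (lapp (subst sQ (nth [] Q j)) [9])) 0 21

noncomputable def csOK (p : List ℕ) (S : List (List ℕ)) (J : List (List ℕ × List ℕ)) : Bool :=
  pcAll 2 (fun w => bor (nS (wpow (lapp w p) 2) []) (lany (fun c => eS (cjW c.1 (lapp w p)) c.2) J)) S

theorem k1 : allCo YH AH = true ∧ pairsB 24 MH (llen YH) = true ∧ colsOK AH MH (llen YH) = true := by decide +kernel
theorem k2 : allCo YE AE = true ∧ pairsB 24 ME (llen YE) = true ∧ colsOK AE ME (llen YE) = true := by decide +kernel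
theorem k3 : comAll eH (gensW 38) [[1]] = true := by decide +kernel
theorem k4 : sgnIs 5279 (nth [] YH 0) = true ∧ sgnIs 1009728 (nth [] YH 1) = true ∧
    allFrom (fun i => sgnIs (nth 0 cA' i) (nth [] YH (27 + i))) 0 9 = true := by decide +kernel
theorem k5 : permIs [1] (nth [] YE 1) = true ∧ permIs [3] (nth [] YE 2) = true ∧ funOK (nth [] YH 27) = true := by
  decide +kernel
theorem k6 : cvOK 24 MH [] PV VV 270 = true := by decide +kernel
theorem k7 : cinj 24 VV = true := by decide +kernel
theorem k8 : allFrom (cact 24 MH VV NH 270 gA) 0 19 = true := by decide +kernel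
theorem k9 : allFrom (cact 24 MH VV NH 270 gA) 19 19 = true := by decide +kernel
theorem k10 : wfAll NH 270 = true ∧ lall (wordIn sQ) PV = true ∧ nth [] PV 0 = [3] ∧
    orb NH wsR 6 (Nat.shiftLeft (nat_lit 1) 0) = full 270 ∧ lall (fixW NH 0) wsT = true := by decide +kernel
theorem k11 : geW NH 270 9 wsR hM 44590694400 = true := by decide +kernel
theorem k12 : geW NH 270 9 wsT hT 165150720 = true := by decide +kernel
theorem k13 : geW NH 270 9 sQ hQ 256 = true ∧ geW NH 270 9 sP hP 128 = true ∧ geW NH 270 9 sA hA 1024 = true ∧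
    geW NH 270 9 sB hB 4 = true := by decide +kernel
theorem k14 : pcOK eH 2 sQ kQ = true ∧ pcOK eH 2 sP kP = true ∧ pcOK eH 2 sE kE = true := by decide +kernel
theorem k15 : nrmAll eH sQ wsR nQ = true ∧ nrmAll eH sE wY nE = true ∧ nrmAll eS sA [[27, 77]] nA = true := by
  decide +kernel
theorem k16 : cvOK 24 MH [[1], [3], [1, 3]] P35 V35 35 = true ∧ cinj 24 V35 = true ∧ wfAll N35 35 = true ∧
    allFrom (cact 24 MH V35 N35 35 w35) 0 4 = true ∧ lall (wordIn s1) P35 = true ∧
    geW N35 35 6 [[1], [3], [5], [7]] h35 20160 = true := by decide +kernel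
theorem k17 : pcAll 2 (fun w => bor (eH (lapp w w) [1]) (Bool.rec false (bor (inL eH [[], [1]] w) (cfind 24 MH VV w))
    (eH (lapp w w) []))) sQ = true := by decide +kernel
theorem k18 : lall (fun x => lall (fun r => inL eH wV (cmW r x)) s1) ps = true := by decide +kernel
theorem k19 : pcAll 2 (fun w => bor (inL eH wV w) (bor (nH (lapp w w) [])
    (lany (fun y => nH (lapp w (cjW y w)) (lapp (cjW y w) w)) wY))) s1 = true := by decide +kernel
theorem k20 : pcAll 2 (fun w => bor (inL eH wV w) (lany (fun p => outL nH [[], [1]] (cmW p w)) ps)) s1 = true := by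
  decide +kernel
theorem k21 : pcAll 2 (fun w => bor (lany (fun y => outL nH wV (cmW y (9 :: w))) w7)
    (bor (inL eH wV w) (lall (fun m => inL eH [[], [3]] (cmW m (9 :: w))) s1))) s1 = true := by decide +kernel
theorem k22 : lall (fun y => inL eH wV (cmW y [9])) w7 = true := by decide +kernel
theorem k23 : pcAll 2 (fun w => bor (eH w [9, 1])
    (lany (fun r => nH (subst (lapp wY [[1, 3], lapp w [7]]) r) []) r8)) sP = true := by decide +kernel
theorem k24 : rls eH (lapp wY [[1], [7]]) r8 = true := by decide +kernel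
theorem k25 : lkOK wsR lkUR lkQR = true ∧ lkOK wsS lkUS lkQS = true := by decide +kernel
theorem k26 : allFrom (fun j => Bool.rec false (allFrom (fun i => sgW (cjW (nth [] wsR i) (nth [] sQ j))
    (cjW (nth [] wsS i) (nth [] sig j))) 0 7) (sgW (nth [] sQ j) (nth [] sig j))) 0 9 = true := by decide +kernel
theorem k27 : lall (fun w => eH (wpow w 3) []) (lapp wsR (lapp wsS wY)) = true := by decide +kernel
theorem k28 : memAll eH (lapp wsS sQ) wsR tp = true ∧ comAll eH [[3]] wC = true ∧
    pcAll 2 (fun w => nH w [1]) sE = true := by decide +kernel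
theorem k29 : eqs eH [([9, 9], [3]), ([7, 7], [1]), ([5, 3, 6], [1, 3]), ([1, 1], []), ([3, 3], []),
    ([1], subst wsR aR), ([1], subst wsT aT), ([57], subst sQ wB), (subst wsR (wpow E8.cox 15), []),
    (subst wsS (wpow E8.cox 15), [1])] = true := by decide +kernel
theorem k30 : allFrom (fun i => eH (cjW (nth [] us i) [9]) (nth [] ps (i + 1))) 0 5 = true := by decide +kernel
theorem k31 : lall (fun p : List ℕ × List ℕ => nH p.1 p.2) [([1], []), ([3], []), ([3], [1]), ([5], []),
    ([5], [1])] = true := by decide +kernel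
theorem k32 : lall (fun p : List ℕ × List ℕ => Bool.rec false (eS (cjW [77] p.1) p.2) (lettersLe 38 [p.1, p.2]))
    Ns = true := by decide +kernel
theorem k33 : eqs eS [([77, 77], []), (wpow [5, 77] 3, []), (cjW [5, 77] [1], [3]), (wpow [27, 77] 4, []),
    ([29, 27, 3], [3, 29, 27]), ([27, 77, 29, 27, 78, 27, 3], [3, 27, 77, 29, 27, 78, 27]),
    (wpow [27, 77, 27, 77, 29, 27, 78, 27, 78] 3, []), (wpow [83] 11, []), (wpow [85] 13, []),
    ([83, 55], [55, 83]), (85 :: 55 :: pb, 55 :: lapp pb [85]), (wpow (55 :: pb) 2, []),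
    (cmW (lapp (nth [] gw 0) [79]) [1], []), (cmW (lapp (nth [] gw 1) [81]) [1], []), (cjW [78, 6] [3], [1])] = true := by
  decide +kernel
theorem k34 : lall (fun p : List ℕ × List ℕ => nS p.1 p.2) [([83], []), ([85], []), (55 :: pb, []),
    (cjW [5, 77] [1], [1]), (cjW [5, 77] [3], [3]), (cjW [5, 77] [1, 3], [1, 3])] = true := by decide +kernel
theorem k35 : memAll eS (lapp Sa (lmap (fun s => cmW s pa) Ta)) sA ua = true ∧
    memAll eS (lapp Sb (lmap (fun s => cmW s pb) Tb)) sA ub = true ∧ csOK pa Sa Ja = true ∧ csOK pb Sb Jb = true := by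
  decide +kernel
theorem k36 : pcAll 2 (fun w => bor (nS (cjW [27, 77] w) w) (bor (eS w []) (nS (wpow (29 :: w) 3) []))) sA = true := by
  decide +kernel

end CF.XT.Co
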