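import Cfsg.Agent.XT.CoX
import Cfsg.Agent.XT.CoK
import Cfsg.Agent.XT.Dis
import Cfsg.Agent.Bt.Out.Co1
import Cfsg.Agent.Comp.Suz.Rels
import Cfsg.Agent.J23.RBig
import Cfsg.Agent.Known.Mon.C3BD

set_option autoImplicit false
set_option maxRecDepth 1000000
set_option maxHeartbeats 0

namespace CF.XT.CoO

open CF.Comp CF.Bt CF.Schur.Pc CF.Schur.Co1 CF.Known.Mon CF.XT.Co

noncomputable def MX : List ℕ := lapp (lapp MO3 MO10) MN
noncomputable def eX : List ℕ → List ℕ → Bool := bsame 24 MX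
noncomputable def nX : List ℕ → List ℕ → Bool := bne 24 MX
def sq : List (List ℕ) := [[29], [31], [33], [35], [37], [39], [41], [43], [27]]
def s3 : List (List ℕ) := [[61], [63], [65], [67], [69]]
def s5 : List (List ℕ) := [[87], [89]]
def g3 : List (List ℕ) := [[47], [49], [51], [53], [55], [57], [59]]
def g5 : List (List ℕ) := [[73], [75], [77], [79], [81], [83], [85]]
def y3 : List (List ℕ) := [[93], [95], [97]]
def y5 : List (List ℕ) := [[93], [95], [97], [99], [101]]
def y7 : List (List ℕ) := [[107], [109], [111], [113], [115], [117], [119]]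
def w3 : List (List ℕ) := [[], [45], [45, 45]]
noncomputable def lnk (u w : List ℕ) : Bool := Nat.beq (bev 24 MS u) (bev 24 MX w)
noncomputable def oX (w : List ℕ) (p : ℕ) : Bool := Bool.rec false (nX w []) (eX (wpow w p) [])

theorem y1 : pairsB 24 MO3 (llen OutCo1.Y) = true ∧ colsOK OutCo1.A MO3 (llen OutCo1.Y) = true ∧
    pairsB 24 (lapp MO3 MO10) (3 + 10) = true ∧ allFrom (slpB 24 (lapp MO3 MO10) OutCo1.W 3) 0 10 = true := by
  decide +kernel
theorem y2 : pairsB 24 MN 49 = true ∧ allFrom (newB 24 (lapp MO3 MO10) MN WX) 0 49 = true := by decide +kernel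
theorem y4 : allFrom (fun i => lnk (nth [] sQ i) (nth [] sq i)) 0 9 = true ∧
    lnk (subst [[79], [81]] C3B.w) [121, 123] = true ∧ eX (cjW [103] [91]) [105] = true := by decide +kernel
theorem y6 : pcOK eX 3 s3 kP3 = true ∧ pcOK eX 5 s5 kP5 = true ∧ comAll eX s3 [[27]] = true ∧
    comAll eX s5 [[27]] = true ∧ comAll eX sq [[27]] = true ∧ lall (wordIn s3) u3 = true ∧
    lall (wordIn s5) u5 = true ∧ lall (wordIn sq) q3 = true ∧ lall (wordIn sq) q5 = true ∧
    Nat.ble (3 ^ s3.length) (disK 24 MX u3 []) = true ∧ Nat.ble (5 ^ s5.length) (disK 24 MX u5 []) = true := by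
  decide +kernel
theorem y8 : sylOK 24 MX 3 9 s3 q3 c3 [45] = true := by decide +kernel
theorem y9 : sylOK 24 MX 5 17 s5 q5 c5 [71] = true := by decide +kernel
theorem y10 : comAll eX g3 [[45]] = true ∧ lall (fun r => inL eX w3 (subst g3 r)) Suz.rels = true ∧
    outL nX w3 [47] = true ∧ lall (fun w => eX (lapp w w) []) g3 = true ∧
    eX (subst g3 (wpow [3, 11, 13] 10)) [45] = true := by decide +kernel
theorem y11 : oX [45] 3 = true ∧ oX [71] 5 = true ∧ oX [91] 7 = true ∧ oX [121] 2 = true ∧ oX [123] 2 = true ∧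
    oX [121, 123] 3 = true := by decide +kernel
theorem y12 : comAll eX g5 [[71]] = true ∧ rls eX g5 J23.U2 = true ∧ nX [73] [] = true ∧ wordIn g5 wv = true ∧
    eX wv [91] = true ∧ comAll eX y3 g5 = true ∧ carm eX y3 3 = true ∧ nX [93] [] = true ∧
    comAll eX ([91] :: y5) [[91]] = true ∧ lall (wordIn ([91] :: y5)) r7 = true ∧ carm eX y5 5 = true := by
  decide +kernel
theorem y13 : Nat.ble 294 (disK 24 MX (lmap (fun q => cjW q [85]) r7) []) = true := by decide +kernel
theorem y14 : comAll eX y7 [[121], [123]] = true ∧ carm eX y7 7 = true ∧ nX [107] [] = true := by decide +kernel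
theorem y15 : stdT (lapp OutCo1.X OutCo1.X1) 98280 17 OutCo1.ap (OutCo1.M :: OutCo1.t) [aw7] [] T7F T7K T7 17640 =
    true := by decide +kernel

end CF.XT.CoO
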