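import Cfsg.Agent.Loc.Syl

/-! Elements of order three acting on elementary abelian `2`-groups. -/

set_option autoImplicit false

namespace CF.XT.Jf

variable {X V : Type*} [Group X] [AddCommGroup V] [DistribMulAction X V]

variable (V) in
/-- the fixed vectors -/
def Fx (g : X) : AddSubgroup V where
  carrier := {v | g • v = v}
  add_mem' {a b} ha hb := by
    show g • (a + b) = a + b
    rw [smul_add, show g • a = a from ha, show g • b = b from hb]
  zero_mem' := smul_zero g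
  neg_mem' {a} ha := by
    show g • (-a) = -a
    rw [smul_neg, show g • a = a from ha]

theorem mem_Fx {g : X} {v : V} : v ∈ Fx V g ↔ g • v = v := Iff.rfl

/-- the norm of an element of order three -/
def nm (g : X) (v : V) : V := v + g • v + g • g • v

theorem nm_add (g : X) (v w : V) : nm g (v + w) = nm g v + nm g w := by
  simp only [nm, smul_add]; abel

theorem smul3 {g : X} (h : g ^ 3 = 1) (v : V) : g • g • g • v = v := by
  rw [← mul_smul, ← mul_smul, ← pow_two, ← pow_succ, h, one_smul]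

theorem nm_mem {g : X} (h : g ^ 3 = 1) (v : V) : nm g v ∈ Fx V g := by
  simp only [mem_Fx, nm, smul_add, smul3 h]; abel

theorem smul_cm {g h : X} (c : Commute h g) (v : V) : h • g • v = g • h • v := by
  rw [← mul_smul, c.eq, mul_smul]

theorem nm_smul {g h : X} (c : Commute h g) (v : V) : h • nm g v = nm g (h • v) := by
  simp only [nm, smul_add, smul_cm c]

theorem nm_mul {g u : X} (c : Commute g u) {v : V} (h : g • v = v) : nm (u * g) v = nm u v := by
  simp only [nm, mul_smul, h, smul_cm c]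

theorem nm_inv {g : X} (h : g ^ 3 = 1) (v : V) : nm g⁻¹ v = nm g v := by
  have : ∀ w : V, g⁻¹ • w = g • g • w := fun w => by rw [inv_smul_eq_iff, smul3 h]
  simp only [nm, this, smul3 h]; abel

theorem nm_in {g : X} {W : AddSubgroup V} (h : ∀ w ∈ W, g • w ∈ W) {v : V} (hv : v ∈ W) : nm g v ∈ W :=
  add_mem (add_mem hv (h _ hv)) (h _ (h _ hv))

theorem card_cj {W : AddSubgroup V} {k : X} (h : ∀ w ∈ W, k • w ∈ W) (h' : ∀ w ∈ W, k⁻¹ • w ∈ W) (g : X) :
    Nat.card ↥(W ⊓ Fx V (k * g * k⁻¹)) = Nat.card ↥(W ⊓ Fx V g) :=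
  Nat.card_congr ⟨fun v => ⟨k⁻¹ • v.1, h' _ v.2.1, by
      have := mem_Fx.1 v.2.2
      rw [mul_smul, mul_smul, smul_eq_iff_eq_inv_smul] at this
      exact this⟩,
    fun v => ⟨k • v.1, h _ v.2.1, mem_Fx.2 (by rw [mul_smul, mul_smul, inv_smul_smul, mem_Fx.1 v.2.2])⟩,
    fun v => Subtype.ext (smul_inv_smul _ _), fun v => Subtype.ext (inv_smul_smul _ _)⟩

theorem card_cj' (k g : X) : Nat.card (Fx V (k * g * k⁻¹)) = Nat.card (Fx V g) := by
  have := card_cj (V := V) (W := ⊤) (k := k) (fun _ _ => trivial) (fun _ _ => trivial) g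
  rwa [top_inf_eq, top_inf_eq] at this

variable (V) in
/-- a fixed point free element of order three and a commuting one -/
structure Tri (x y : X) : Prop where
  two : ∀ v : V, v + v = 0
  x3 : x ^ 3 = 1
  y3 : y ^ 3 = 1
  c : Commute x y
  fpf : ∀ v : V, x • v = v → v = 0

namespace Tri

variable {x y : X} (h : Tri V x y)
include h

theorem nx (v : V) : nm x v = 0 := h.fpf _ (nm_mem h.x3 v)

theorem fix {g : X} {v : V} (e : g • v = v) : nm g v = v := by
  rw [nm, e, e, h.two, zero_add]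

theorem sub (v w : V) : v - w = v + w := by rw [sub_eq_add_neg, neg_eq_of_add_eq_zero_right (h.two w)]

theorem eq_of {v w : V} (e : v + w = 0) : v = w := by rw [← sub_eq_zero, h.sub, e]

theorem mul : Tri V x (x * y) :=
  ⟨h.two, h.x3, by rw [h.c.mul_pow, h.x3, h.y3, mul_one], (Commute.refl x).mul_right h.c, h.fpf⟩

theorem inv : Tri V x⁻¹ y :=
  ⟨h.two, by rw [inv_pow, h.x3, inv_one], h.y3, h.c.inv_left, fun v e => h.fpf v (by rwa [inv_smul_eq_iff, eq_comm] at e)⟩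

theorem z1 {v : V} (e : y • v = v) : nm (x * y) v = 0 := by rw [nm_mul h.c.symm e, h.nx]

theorem z2 {v : V} (e : y • v = v) : nm (x⁻¹ * y) v = 0 := h.inv.z1 e

theorem xx : x * x = x⁻¹ := eq_inv_of_mul_eq_one_left (by rw [← pow_two, ← pow_succ, h.x3])

theorem z3 {v : V} (e : (x * y) • v = v) : nm y v = 0 := by simpa using h.mul.z2 e

theorem z4 {v : V} (e : (x * y) • v = v) : nm (x⁻¹ * y) v = 0 := by
  have := h.mul.z1 e
  rwa [← mul_assoc, h.xx] at this

theorem z5 {v : V} (e : (x⁻¹ * y) • v = v) : nm y v = 0 := h.inv.z3 e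

theorem z6 {v : V} (e : (x⁻¹ * y) • v = v) : nm (x * y) v = 0 := by simpa using h.inv.z4 e

theorem dec (v : V) : nm y v + nm (x * y) v + nm (x⁻¹ * y) v = v := by
  have a := h.nx (y • v)
  have b := h.nx (y • y • v)
  simp only [nm, ← h.xx, mul_smul, smul_cm h.c.symm, smul3 h.x3] at a b ⊢
  linear_combination (norm := abel) a + b + h.two v

theorem a1 : (x * y) ^ 3 = 1 := h.mul.y3

theorem a2 : (x⁻¹ * y) ^ 3 = 1 := h.inv.a1

theorem card {W : AddSubgroup V} (hx : ∀ w ∈ W, x • w ∈ W) (hy : ∀ w ∈ W, y • w ∈ W) :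
    Nat.card W = Nat.card ↥(W ⊓ Fx V y) * Nat.card ↥(W ⊓ Fx V (x * y)) * Nat.card ↥(W ⊓ Fx V (x⁻¹ * y)) := by
  have b1 : ∀ w ∈ W, (x * y) • w ∈ W := fun w hw => mul_smul x y w ▸ hx _ (hy _ hw)
  have b2 : ∀ w ∈ W, (x⁻¹ * y) • w ∈ W := fun w hw => by
    rw [← h.xx, mul_smul, mul_smul]; exact hx _ (hx _ (hy _ hw))
  rw [← Nat.card_prod, ← Nat.card_prod]
  refine Nat.card_congr ⟨fun v => ((⟨_, nm_in hy v.2, nm_mem h.y3 v.1⟩, ⟨_, nm_in b1 v.2, nm_mem h.a1 v.1⟩),
    ⟨_, nm_in b2 v.2, nm_mem h.a2 v.1⟩), fun p => ⟨p.1.1 + p.1.2 + p.2, add_mem (add_mem p.1.1.2.1 p.1.2.2.1) p.2.2.1⟩,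
    fun v => Subtype.ext (h.dec v.1), fun ⟨⟨a, b⟩, c⟩ => ?_⟩
  simp only [nm_add, h.fix a.2.2, h.fix b.2.2, h.fix c.2.2, h.z1 a.2.2, h.z2 a.2.2, h.z3 b.2.2, h.z4 b.2.2, h.z5 c.2.2,
    h.z6 c.2.2, add_zero, zero_add]

theorem nm_sub {g : X} {W : AddSubgroup V} (hg : ∀ w ∈ W, g • w ∈ W) {v : V} (e : g • v + v ∈ W) : nm g v + v ∈ W := by
  have : nm g v + v = g • (g • v + v) := by
    rw [nm, smul_add]; linear_combination (norm := abel) h.two v
  exact this ▸ hg _ e

end Tri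

/-- a matrix over the field with two elements -/
abbrev Mt : Type := ℕ × ℕ × ℕ × ℕ

/-- a matrix applied to a vector -/
def ap (m : Mt) (n : ℕ) : ℕ :=
  Nat.xor (Nat.xor (Nat.xor (Nat.mul m.1 (Nat.land 1 n)) (Nat.mul m.2.1 (Nat.land 1 (Nat.shiftRight n 1))))
    (Nat.mul m.2.2.1 (Nat.land 1 (Nat.shiftRight n 2)))) (Nat.mul m.2.2.2 (Nat.land 1 (Nat.shiftRight n 3)))

theorem mul_bit (a n i : ℕ) : Nat.mul a (Nat.land 1 (Nat.shiftRight n i)) = bif n.testBit i then a else 0 := by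
  show a * (1 &&& n >>> i) = _
  rw [Nat.testBit, Nat.one_and_eq_mod_two]
  rcases Nat.mod_two_eq_zero_or_one (n >>> i) with e | e <;> simp [e]

theorem ap_eq (m : Mt) (n : ℕ) : ap m n =
    (bif n.testBit 0 then m.1 else 0) ^^^ (bif n.testBit 1 then m.2.1 else 0) ^^^
      (bif n.testBit 2 then m.2.2.1 else 0) ^^^ (bif n.testBit 3 then m.2.2.2 else 0) := by
  simp only [← mul_bit]; rfl

/-- the product of matrices -/
def cmp (m k : Mt) : Mt := (ap m k.1, ap m k.2.1, ap m k.2.2.1, ap m k.2.2.2)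

/-- the vector with given coordinates -/
def vec (b : V × V × V × V) (n : ℕ) : V :=
  (bif n.testBit 0 then b.1 else 0) + (bif n.testBit 1 then b.2.1 else 0) +
    (bif n.testBit 2 then b.2.2.1 else 0) + (bif n.testBit 3 then b.2.2.2 else 0)

theorem bif_xor (two : ∀ v : V, v + v = 0) (a b : Bool) (v : V) :
    (bif a ^^ b then v else 0) = (bif a then v else 0) + (bif b then v else 0) := by
  cases a <;> cases b <;> simp [two]

theorem vec_xor (two : ∀ v : V, v + v = 0) (b : V × V × V × V) (m n : ℕ) : vec b (m ^^^ n) = vec b m + vec b n := by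
  simp only [vec, Nat.testBit_xor, bif_xor two]; abel

theorem vec_bif (b : V × V × V × V) (c : Bool) (n : ℕ) : vec b (bif c then n else 0) = bif c then vec b n else 0 := by
  cases c <;> simp [vec]

theorem smul_bif (g : X) (c : Bool) (v : V) : g • (bif c then v else 0) = bif c then g • v else 0 := by
  cases c <;> simp

/-- the matrix describes the element -/
def Rp (b : V × V × V × V) (g : X) (m : Mt) : Prop := ∀ n, g • vec b n = vec b (ap m n)

theorem rp_of (two : ∀ v : V, v + v = 0) {b : V × V × V × V} {g : X} {m : Mt} (h1 : g • b.1 = vec b m.1)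
    (h2 : g • b.2.1 = vec b m.2.1) (h3 : g • b.2.2.1 = vec b m.2.2.1) (h4 : g • b.2.2.2 = vec b m.2.2.2) : Rp b g m :=
  fun n => by simp only [ap_eq, vec_xor two, vec_bif, ← h1, ← h2, ← h3, ← h4, ← smul_bif, ← smul_add]; rfl

theorem vec1 (b : V × V × V × V) : vec b 1 = b.1 := by simp [vec, Nat.testBit]
theorem vec2 (b : V × V × V × V) : vec b 2 = b.2.1 := by simp [vec, Nat.testBit]
theorem vec4 (b : V × V × V × V) : vec b 4 = b.2.2.1 := by simp [vec, Nat.testBit]
theorem vec8 (b : V × V × V × V) : vec b 8 = b.2.2.2 := by simp [vec, Nat.testBit]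

theorem ap1 (m : Mt) : ap m 1 = m.1 := by simp [ap_eq, Nat.testBit]
theorem ap2 (m : Mt) : ap m 2 = m.2.1 := by simp [ap_eq, Nat.testBit]
theorem ap4 (m : Mt) : ap m 4 = m.2.2.1 := by simp [ap_eq, Nat.testBit]
theorem ap8 (m : Mt) : ap m 8 = m.2.2.2 := by simp [ap_eq, Nat.testBit]

theorem Rp.mul (two : ∀ v : V, v + v = 0) {b : V × V × V × V} {g h : X} {m k : Mt} (a : Rp b g m) (c : Rp b h k) :
    Rp b (g * h) (cmp m k) :=
  rp_of two (by rw [mul_smul, ← vec1, c, a, ap1]; rfl) (by rw [mul_smul, ← vec2, c, a, ap2]; rfl)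
    (by rw [mul_smul, ← vec4, c, a, ap4]; rfl) (by rw [mul_smul, ← vec8, c, a, ap8]; rfl)

/-- the standard element of order three -/
def mX : Mt := (2, 3, 8, 12)

/-- equality with the standard matrix -/
def beqM (m k : Mt) : Bool :=
  Nat.beq m.1 k.1 && Nat.beq m.2.1 k.2.1 && Nat.beq m.2.2.1 k.2.2.1 && Nat.beq m.2.2.2 k.2.2.2

theorem beqM_eq {m k : Mt} (h : beqM m k = true) : m = k := by
  simp only [beqM, Bool.and_eq_true, Nat.beq_eq] at h
  exact Prod.ext h.1.1.1 (Prod.ext h.1.1.2 (Prod.ext h.1.2 h.2))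

/-- the conclusion for a matrix -/
def fin (m : Mt) : Bool :=
  beqM (cmp m mX) (cmp mX m) || beqM (cmp (cmp (cmp m m) (cmp (cmp mX m) (cmp mX mX))) (cmp (cmp mX m) (cmp mX mX))) mX ||
    beqM (cmp (cmp (cmp (cmp (cmp (cmp (cmp m m) (cmp (cmp mX m) (cmp mX mX))) (cmp (cmp (cmp mX mX) m) mX))
      (cmp (cmp mX m) (cmp mX mX))) (cmp (cmp mX m) (cmp mX mX))) (cmp (cmp (cmp mX mX) m) mX)) m) mX

/-- the check on a matrix -/
noncomputable def chk (m : Mt) : Bool :=
  Bool.rec true (Bool.rec true (Bool.rec true (Bool.rec true (fin m) (Nat.beq (Nat.xor (ap m m.2.2.2) m.2.2.2) 8))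
    (Nat.beq (Nat.xor (ap m m.2.2.1) m.2.2.1) 4)) (Nat.beq (Nat.xor (ap m m.2.1) m.2.1) 2))
    (Nat.beq (Nat.xor (ap m m.1) m.1) 1)

/-- a bounded quantifier -/
noncomputable def al (p : ℕ → Bool) (n : ℕ) : Bool := Nat.rec true (fun k ih => Bool.rec false ih (p k)) n

theorem al_spec {p : ℕ → Bool} {n : ℕ} (h : al p n = true) {k : ℕ} (hk : k < n) : p k = true := by
  induction n with
  | zero => omega
  | succ n ih =>
    have : (Bool.rec false (al p n) (p n) : Bool) = true := h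
    cases e : p n <;> rw [e] at this
    · exact absurd this (by simp)
    · rcases Nat.lt_succ_iff_lt_or_eq.1 hk with c | rfl
      exacts [ih this c, e]

theorem chk_all : al (fun a => al (fun b => al (fun c => al (fun d => chk (a, b, c, d)) 16) 16) 16) 16 = true := by
  decide +kernel

theorem ap_lt {m : Mt} (h : m.1 < 16 ∧ m.2.1 < 16 ∧ m.2.2.1 < 16 ∧ m.2.2.2 < 16) (n : ℕ) : ap m n < 16 := by
  have : ∀ (c : Bool) (a : ℕ), a < 2 ^ 4 → (bif c then a else 0) < 2 ^ 4 := fun c a e => by cases c <;> simp_all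
  exact ap_eq m n ▸ Nat.xor_lt_two_pow (n := 4) (Nat.xor_lt_two_pow (Nat.xor_lt_two_pow (this _ _ h.1) (this _ _ h.2.1))
    (this _ _ h.2.2.1)) (this _ _ h.2.2.2)

/-- two fixed point free elements of order three on a four dimensional space -/
theorem four (two : ∀ v : V, v + v = 0) {b : V × V × V × V} (inj : ∀ n < 16, vec b n = 0 → n = 0) {x y : X}
    (hx : Rp b x mX) (hy : ∀ n, ∃ k < 16, y • vec b n = vec b k) (e : ∀ n, nm y (vec b n) = 0) {B : Subgroup X}
    (h1 : y ∈ B) (h2 : x * y * (x * x) ∈ B) (h3 : x * x * y * x ∈ B) :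
    (∀ n, (y * x) • vec b n = (x * y) • vec b n) ∨ ∃ g ∈ B, ∀ n, g • vec b n = x • vec b n := by
  obtain ⟨m1, l1, e1⟩ := hy 1
  obtain ⟨m2, l2, e2⟩ := hy 2
  obtain ⟨m3, l3, e3⟩ := hy 4
  obtain ⟨m4, l4, e4⟩ := hy 8
  have r : Rp b y (m1, m2, m3, m4) := rp_of two (vec1 b ▸ e1) (vec2 b ▸ e2) (vec4 b ▸ e3) (vec8 b ▸ e4)
  have k : ∀ n < 16, ap (m1, m2, m3, m4) (ap (m1, m2, m3, m4) n) ^^^ ap (m1, m2, m3, m4) n = n := fun n hn => by
    have l := ap_lt (m := (m1, m2, m3, m4)) ⟨l1, l2, l3, l4⟩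
    refine Nat.xor_eq_zero_iff.1 (inj _ (Nat.xor_lt_two_pow (n := 4) (Nat.xor_lt_two_pow (l _) (l _)) hn) ?_)
    rw [vec_xor two, vec_xor two, ← r, ← r, ← e n, nm]; abel
  have k1 := k 1 (by decide)
  have k2 := k 2 (by decide)
  have k3 := k 4 (by decide)
  have k4 := k 8 (by decide)
  simp only [ap1, ap2, ap4, ap8] at k1 k2 k3 k4
  have c := al_spec (al_spec (al_spec (al_spec chk_all l1) l2) l3) l4
  have t : ∀ {a b : ℕ}, a ^^^ b = 1 ∨ a ^^^ b = 2 ∨ a ^^^ b = 4 ∨ a ^^^ b = 8 → Nat.xor a b = a ^^^ b := fun _ => rfl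
  simp only [chk, t (.inl k1), t (.inr (.inl k2)), t (.inr (.inr (.inl k3))), t (.inr (.inr (.inr k4))), k1, k2, k3, k4,
    Nat.beq_refl, fin, Bool.or_eq_true] at c
  have rb := (hx.mul two r).mul two (hx.mul two hx)
  have rc := ((hx.mul two hx).mul two r).mul two hx
  have rd := (r.mul two r).mul two rb
  have hd := mul_mem (mul_mem h1 h1) h2
  rcases c with (c | c) | c
  · exact .inl fun n => by rw [r.mul two hx, hx.mul two r, beqM_eq c]
  · exact .inr ⟨_, mul_mem hd h2, fun n => by rw [rd.mul two rb, beqM_eq c, hx]⟩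
  · exact .inr ⟨_, mul_mem (mul_mem (mul_mem (mul_mem (mul_mem hd h3) h2) h2) h3) h1, fun n => by
      rw [((((rd.mul two rc).mul two rb).mul two rb).mul two rc).mul two r, beqM_eq c, hx]⟩

end CF.XT.Jf
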