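import Cfsg.Agent.XT.Jf1
import Cfsg.Agent.Coprime.Abelian

/-! The centraliser of an involution normalises a fixed point free element of order three. -/

set_option autoImplicit false
set_option linter.unusedSectionVars false

namespace CF.XT.Jf

open Subgroup CF.Loc

variable {X V : Type*} [Group X] [AddCommGroup V] [DistribMulAction X V]

theorem cases3 {a x : X} (h : a ^ 3 = 1) (hx : x ∈ zpowers a) : x = 1 ∨ x = a ∨ x = a⁻¹ := by
  obtain ⟨k, rfl⟩ := hx
  have e : a ^ k = a ^ (k % 3) := by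
    conv_lhs => rw [← Int.mul_ediv_add_emod k 3, zpow_add, zpow_mul, zpow_ofNat, h, one_zpow, one_mul]
  have : k % 3 = 0 ∨ k % 3 = 1 ∨ k % 3 = 2 := by omega
  refine this.imp (fun b => by simp [e, b]) (.imp (fun b => by simp [e, b]) fun b => ?_)
  simp only [e, b, zpow_ofNat]
  exact eq_inv_of_mul_eq_one_left (by rw [← pow_succ, h])

theorem comm_of_cj {a b : X} (h : b * a * b⁻¹ = a) : Commute a b := (mul_inv_eq_iff_eq_mul.1 h).symm

theorem cj_of_comm {a b : X} (h : Commute a b) : b * a * b⁻¹ = a := by rw [← h.eq, mul_inv_cancel_right]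

theorem norm_cases {x g : X} (h : x ^ 3 = 1) (n : g ∈ 𝐍(zpowers x)) : Commute x g ∨ g * x * g⁻¹ = x⁻¹ := by
  rcases cases3 h (conj_mem_of_mem_normalizer n (mem_zpowers x)) with e | e | e
  · exact .inl (by rw [conj_eq_one_iff.1 e]; exact Commute.one_left g)
  · exact .inl (comm_of_cj e)
  · exact .inr e

theorem comm_of_odd {x g : X} (h : x ^ 3 = 1) (n : g ∈ 𝐍(zpowers x)) {m : ℕ} (o : Odd m) (e : g ^ m = 1) :
    Commute x g := by
  refine (norm_cases h n).elim id fun k => ?_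
  obtain ⟨j, rfl⟩ := o
  have : Commute x (g * g) := comm_of_cj (by
    calc _ = g * (g * x * g⁻¹) * g⁻¹ := by group
      _ = x := by rw [k, ← conj_inv, k, inv_inv])
  have := this.pow_right (j + 1)
  rwa [← pow_two, ← pow_mul, show 2 * (j + 1) = 2 * j + 1 + 1 by ring, pow_succ, e, one_mul] at this

theorem norm_of_comm {x g : X} (c : Commute x g) : g ∈ 𝐍(zpowers x) :=
  centralizer_le_normalizer _ (centralizer_zpowers x ▸ mem_centralizer_singleton_iff.2 c.symm)

variable (V) in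
/-- the commutator map of an involution -/
def tau (t : X) : V →+ V := DistribSMul.toAddMonoidHom V t + AddMonoidHom.id V

theorem tau_apply (t : X) (v : V) : tau V t v = t • v + v := rfl

theorem smul_tau {t g : X} (c : Commute t g) (v : V) : g • tau V t v = tau V t (g • v) := by
  simp only [tau_apply, smul_add, smul_cm c]

variable (V) in
/-- the configuration -/
structure Co (x y t s : X) : Prop extends Tri V x y where
  faith : ∀ g : X, (∀ v : V, g • v = v) → g = 1
  c16 : Nat.card (Fx V y) = 16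
  yx : y ∉ zpowers x
  sx : Commute x s
  st : Commute t s
  sy : s * y * s⁻¹ = y⁻¹
  t2 : t * t = 1
  t1 : t ≠ 1
  tx : Commute t x
  ty : Commute t y
  tf : ∀ v : V, y • v = v → t • v = v
  cy : ∀ c, Commute y c → c ∈ 𝐍(zpowers x)
  cl : ∀ r, Commute x r → r ^ 3 = 1 → r ∈ zpowers x ∨ ∃ c, Commute x c ∧ c * y * c⁻¹ = r
  s3 : ∀ r : X, r ^ 3 = 1 → ∃ g, Commute x (g * r * g⁻¹)

variable (V) in
/-- the elements acting trivially on the middle section -/
def D2 (t : X) : Subgroup X where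
  carrier := {d | Commute t d ∧ ∀ u : V, t • u = u → d • u - u ∈ (tau V t).range}
  one_mem' := ⟨Commute.one_right _, fun u _ => by simp⟩
  mul_mem' := fun {a b} ha hb => ⟨ha.1.mul_right hb.1, fun u hu => by
    have := add_mem (ha.2 (b • u) (by rw [smul_cm hb.1, hu])) (hb.2 u hu)
    rwa [sub_add_sub_cancel, ← mul_smul] at this⟩
  inv_mem' := fun {a} ha => ⟨ha.1.inv_right, fun u hu => by
    have := neg_mem (ha.2 (a⁻¹ • u) (by rw [smul_cm ha.1.inv_right, hu]))
    rwa [smul_inv_smul, neg_sub] at this⟩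

variable (V) in
/-- the elements acting trivially on the commutator space -/
def K1 (t : X) : Subgroup X where
  carrier := {d | Commute t d ∧ ∀ w ∈ (tau V t).range, d • w = w}
  one_mem' := ⟨Commute.one_right _, fun u _ => one_smul _ _⟩
  mul_mem' := fun {a b} ha hb => ⟨ha.1.mul_right hb.1, fun u hu => by rw [mul_smul, hb.2 u hu, ha.2 u hu]⟩
  inv_mem' := fun {a} ha => ⟨ha.1.inv_right, fun u hu => inv_smul_eq_iff.2 (ha.2 u hu).symm⟩

theorem smul_W {t g : X} (c : Commute t g) : ∀ w ∈ (tau V t).range, g • w ∈ (tau V t).range := by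
  rintro _ ⟨v, rfl⟩
  exact ⟨_, (smul_tau c v).symm⟩

theorem cj_D2 {t g d : X} (c : Commute t g) (h : d ∈ D2 V t) : g * d * g⁻¹ ∈ D2 V t :=
  ⟨(c.mul_right h.1).mul_right c.inv_right, fun u hu => by
    have := smul_W c _ (h.2 (g⁻¹ • u) (by rw [smul_cm c.inv_right, hu]))
    rwa [smul_sub, smul_inv_smul, ← mul_smul, ← mul_smul] at this⟩

theorem cj_K1 {t g d : X} (c : Commute t g) (h : d ∈ K1 V t) : g * d * g⁻¹ ∈ K1 V t :=
  ⟨(c.mul_right h.1).mul_right c.inv_right, fun u hu => by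
    rw [mul_smul, mul_smul, h.2 _ (smul_W c.inv_right u hu), smul_inv_smul]⟩

namespace Co

variable {x y t s : X} (h : Co V x y t s) [Finite X] [Finite V]
include h

theorem x1 : x ≠ 1 := fun e => by
  have : Subsingleton (Fx V y) := ⟨fun a b => Subtype.ext ((h.fpf _ (by simp [e])).trans (h.fpf _ (by simp [e])).symm)⟩
  have := h.c16 ▸ Finite.card_le_one_iff_subsingleton.2 this
  omega

theorem type {r : X} (e : r ^ 3 = 1) (n : r ≠ 1) : (∀ v : V, r • v = v → v = 0) ∨ Nat.card (Fx V r) = 16 := by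
  obtain ⟨g, c⟩ := h.s3 r e
  rcases h.cl _ c (by rw [conj_pow, e]; simp) with k | ⟨d, -, k⟩
  · refine .inl fun v hv => (smul_eq_zero_iff_eq g).1 ?_
    have : (g * r * g⁻¹) • g • v = g • v := by rw [mul_smul, mul_smul, inv_smul_smul, hv]
    rcases cases3 h.x3 k with k | k | k <;> rw [k] at this
    exacts [absurd (conj_eq_one_iff.1 k) n, h.fpf _ this, h.inv.fpf _ this]
  · exact .inr (by rw [← card_cj' g, ← k, card_cj', h.c16])

theorem le16 {r : X} (e : r ^ 3 = 1) (n : r ≠ 1) : Nat.card (Fx V r) ≤ 16 := by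
  refine (h.type e n).elim (fun a => le_trans (Finite.card_le_one_iff_subsingleton.2 ?_) (by decide)) Eq.le
  exact ⟨fun b c => Subtype.ext ((a _ b.2).trans (a _ c.2).symm)⟩

theorem cN {r g : X} (c : Commute x r) (e : r ^ 3 = 1) (n : r ≠ 1) (k : Commute r g) : g ∈ 𝐍(zpowers x) := by
  rcases h.cl r c e with a | ⟨d, a, rfl⟩
  · rcases cases3 h.x3 a with rfl | rfl | rfl
    exacts [absurd rfl n, norm_of_comm k, norm_of_comm (by simpa using k)]
  · have := h.cy (d⁻¹ * g * d) (by simpa [mul_assoc] using k.conj d⁻¹)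
    simpa [mul_assoc] using mul_mem (mul_mem (norm_of_comm a) this) (inv_mem (norm_of_comm a))

theorem c1 : Nat.card (Fx V (x * y)) = 16 := by
  obtain ⟨c, -, e⟩ := (h.cl _ h.mul.c h.a1).resolve_left fun a => h.yx ((mul_mem_cancel_left (mem_zpowers x)).1 a)
  rw [← e, card_cj', h.c16]

theorem c2 : Nat.card (Fx V (x⁻¹ * y)) = 16 := by
  obtain ⟨c, -, e⟩ := (h.cl _ ((Commute.refl x).inv_right.mul_right h.c) h.a2).resolve_left fun a =>
    h.yx ((mul_mem_cancel_left (inv_mem (mem_zpowers x))).1 a)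
  rw [← e, card_cj', h.c16]

theorem cV : Nat.card V = 4096 := by
  have := h.card (W := ⊤) (fun _ _ => trivial) fun _ _ => trivial
  rwa [top_inf_eq, top_inf_eq, top_inf_eq, h.c16, h.c1, h.c2, AddSubgroup.card_top] at this

theorem tt (v : V) : t • tau V t v = tau V t v := by
  rw [tau_apply, smul_add, ← mul_smul, h.t2, one_smul, add_comm]

theorem tau0 {v : V} : tau V t v = 0 ↔ t • v = v :=
  ⟨h.eq_of, fun e => by rw [tau_apply, e, h.two]⟩

theorem xx' (w : V) : x • x • w = w + x • w := h.eq_of (by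
  have := h.nx w
  rw [nm] at this
  linear_combination (norm := abel) this)

theorem ker4 {a : X} (ta : Commute t a) (xa : Commute x a) (c : Nat.card (Fx V a) = 16) {v : V} (hv : a • v = v)
    (n : tau V t v ≠ 0) {u : V} (h1 : a • u = u) (h2 : t • u = u) :
    u = 0 ∨ u = tau V t v ∨ u = x • tau V t v ∨ u = tau V t v + x • tau V t v := by
  by_contra k
  simp only [not_or] at k
  let f := (tau V t).comp (Fx V a).subtype
  have e : Nat.card (Fx V a) = Nat.card f.range * Nat.card f.ker := by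
    rw [AddSubgroup.card_eq_card_quotient_mul_card_addSubgroup f.ker,
      Nat.card_congr (QuotientAddGroup.quotientKerEquivRange f).toEquiv]
  set w := tau V t v
  have n1 : x • w ≠ 0 := (smul_ne_zero_iff_ne x).2 n
  have n2 : w ≠ x • w := fun e => n (h.fpf _ e.symm)
  have n3 : w + x • w ≠ 0 := fun e => n2 (h.eq_of e)
  have xv : a • x • v = x • v := by rw [← smul_cm xa, hv]
  have m1 : w ∈ f.range := ⟨⟨v, hv⟩, rfl⟩
  have m2 : x • w ∈ f.range := ⟨⟨_, xv⟩, (smul_tau h.tx v).symm⟩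
  have l : f.range ≤ f.ker.map (Fx V a).subtype := by
    rintro _ ⟨⟨p, hp⟩, rfl⟩
    exact ⟨⟨tau V t p, by rw [mem_Fx, smul_tau ta, mem_Fx.1 hp]⟩, h.tau0.2 (h.tt p), rfl⟩
  classical
  have a4 : 4 ≤ Nat.card f.range := by
    have := Set.ncard_le_ncard (s := (({0, w, x • w, w + x • w} : Finset V) : Set V)) (t := (f.range : Set V)) (by
      simp only [Finset.coe_insert, Finset.coe_singleton, Set.insert_subset_iff, Set.singleton_subset_iff]
      exact ⟨zero_mem _, m1, m2, add_mem m1 m2⟩)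
    rwa [Set.ncard_coe_finset, Finset.card_eq_four.2 ⟨_, _, _, _, n.symm, n1.symm, n3.symm, n2, by simpa using n1,
      by simpa using n, rfl⟩] at this
  have a5 : 5 ≤ Nat.card f.ker := by
    have := Set.ncard_le_ncard (s := ((insert u {0, w, x • w, w + x • w} : Finset V) : Set V))
      (t := (f.ker.map (Fx V a).subtype : Set V)) (by
      simp only [Finset.coe_insert, Finset.coe_singleton, Set.insert_subset_iff, Set.singleton_subset_iff]
      exact ⟨⟨⟨u, h1⟩, h.tau0.2 h2, rfl⟩, zero_mem _, l m1, l m2, l (add_mem m1 m2)⟩)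
    rw [Set.ncard_coe_finset, Finset.card_insert_of_notMem (by simpa using k), Finset.card_eq_four.2
      ⟨_, _, _, _, n.symm, n1.symm, n3.symm, n2, by simpa using n1, by simpa using n, rfl⟩] at this
    rwa [← AddSubgroup.card_map_of_injective (Fx V a).subtype_injective]
  nlinarith

theorem ex12 : (∃ v : V, (x * y) • v = v ∧ tau V t v ≠ 0) ∧ ∃ v : V, (x⁻¹ * y) • v = v ∧ tau V t v ≠ 0 := by
  have sy' : ∀ v : V, y • s • v = s • y⁻¹ • v := fun v => by
    rw [← mul_smul, ← mul_smul, eq_mul_inv_iff_mul_eq.2 (show y * s * y = s by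
      rw [mul_assoc, mul_inv_eq_iff_eq_mul.1 h.sy, mul_inv_cancel_left])]
  have k : ∀ {z : X}, Commute z s → Commute z y → (∃ v : V, (z * y) • v = v ∧ tau V t v ≠ 0) →
      ∃ v : V, (z⁻¹ * y) • v = v ∧ tau V t v ≠ 0 := fun {z} c d ⟨v, a, b⟩ => ⟨s • v, by
    rw [mul_smul, sy', smul_cm c.inv_left, ← mul_smul z⁻¹, ← mul_inv_rev, ← d.eq, inv_smul_eq_iff.2 a.symm], by
    rwa [← smul_tau h.st, smul_ne_zero_iff_ne]⟩
  have : (∃ v : V, (x * y) • v = v ∧ tau V t v ≠ 0) ∨ ∃ v : V, (x⁻¹ * y) • v = v ∧ tau V t v ≠ 0 := by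
    by_contra n
    simp only [not_or, not_exists, not_and, not_not] at n
    refine h.t1 (h.faith t fun v => h.tau0.1 ?_)
    rw [← h.dec v, map_add, map_add, n.1 _ (nm_mem h.a1 v), n.2 _ (nm_mem h.a2 v), h.tau0.2 (h.tf _ (nm_mem h.y3 v))]
    simp
  exact this.elim (fun a => ⟨a, k h.sx h.c a⟩) fun a => ⟨by simpa using k h.sx.inv_left h.c.inv_left a, a⟩

theorem nmW {w : V} (hw : w ∈ (tau V t).range) : nm y w = 0 := by
  obtain ⟨v, rfl⟩ := hw
  rw [tau_apply, nm_add, ← nm_smul h.ty, h.tf _ (nm_mem h.y3 v), h.two]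

theorem yW {w : V} (hw : w ∈ (tau V t).range) (e : y • w = w) : w = 0 := (h.fix e).symm.trans (h.nmW hw)

theorem basis : ∃ b : V × V × V × V, (x * y) • b.1 = b.1 ∧ b.1 ≠ 0 ∧ Rp b x mX ∧ (∀ n < 16, vec b n = 0 → n = 0) ∧
    (∀ n, vec b n ∈ (tau V t).range) ∧ (∀ u, t • u = u → ∃ n < 16, u = nm y u + vec b n) ∧
    ∀ u, (x * y) • u = u → t • u = u → u = 0 ∨ u = b.1 ∨ u = x • b.1 ∨ u = x⁻¹ • b.1 := by
  obtain ⟨⟨v, v1, v2⟩, w, w1, w2⟩ := h.ex12
  have c1 := h.tx.mul_right h.ty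
  have c2 := h.tx.inv_right.mul_right h.ty
  have d2 := (Commute.refl x).inv_right.mul_right h.c
  have p : (x * y) • tau V t v = tau V t v := by rw [smul_tau c1, v1]
  have q : (x⁻¹ * y) • tau V t w = tau V t w := by rw [smul_tau c2, w1]
  have p' : (x * y) • x • tau V t v = x • tau V t v := by rw [← smul_cm h.mul.c, p]
  have q' : (x⁻¹ * y) • x • tau V t w = x • tau V t w := by rw [← smul_cm d2, q]
  have K := fun {u} => h.ker4 c1 h.mul.c h.c1 v1 v2 (u := u)
  have K' := fun {u} => h.ker4 c2 d2 h.c2 w1 w2 (u := u)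
  have m : ∀ (c : Bool) {S : AddSubgroup V} {a : V}, a ∈ S → (bif c then a else 0) ∈ S := fun c S a e => by
    cases c
    exacts [zero_mem _, e]
  have z : ∀ {a : V} {c d : Bool}, a ≠ 0 → (bif c then a else 0) + (bif d then x • a else 0) = 0 →
      c = false ∧ d = false := fun {a c d} n e => by
    cases c <;> cases d <;> simp only [cond_true, cond_false, add_zero, zero_add] at e
    exacts [⟨rfl, rfl⟩, absurd e ((smul_ne_zero_iff_ne x).2 n), absurd e n, absurd (h.fpf _ (h.eq_of e).symm) n]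
  refine ⟨(tau V t v, x • tau V t v, tau V t w, x • tau V t w), p, v2, rp_of h.two ?_ ?_ ?_ ?_,
    fun n hn e => ?_, fun n => ?_, fun u hu => ?_, fun u a b => ?_⟩
  · simp [vec, mX, Nat.testBit]
  · simp [h.xx', vec, mX, Nat.testBit]
  · simp [vec, mX, Nat.testBit]
  · simp [h.xx', vec, mX, Nat.testBit]
  · rw [vec, add_assoc] at e
    have a := add_mem (m (n.testBit 0) (S := Fx V _) p) (m (n.testBit 1) p')
    have b := add_mem (m (n.testBit 2) (S := Fx V _) q) (m (n.testBit 3) q')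
    have e1 := congrArg (nm (x * y)) e
    rw [nm_add, h.fix a, h.z6 b, add_zero, h.fix (smul_zero _)] at e1
    rw [e1, zero_add] at e
    exact (by decide : ∀ n < 16, (n.testBit 0 = false ∧ n.testBit 1 = false) ∧ n.testBit 2 = false ∧
      n.testBit 3 = false → n = 0) n hn ⟨z v2 e1, z w2 e⟩
  · have a : tau V t v ∈ (tau V t).range := ⟨v, rfl⟩
    have b : tau V t w ∈ (tau V t).range := ⟨w, rfl⟩
    exact add_mem (add_mem (add_mem (m _ a) (m _ (smul_W h.tx _ a))) (m _ b)) (m _ (smul_W h.tx _ b))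
  · have a := K (nm_mem h.a1 u) (by rw [nm_smul c1, hu])
    have b := K' (nm_mem h.a2 u) (by rw [nm_smul c2, hu])
    have e := (h.dec u).symm
    rw [add_assoc] at e
    have : ∃ n < 16, nm (x * y) u + nm (x⁻¹ * y) u = vec (tau V t v, x • tau V t v, tau V t w, x • tau V t w) n := by
      rcases a with a | a | a | a <;> rcases b with b | b | b | b <;> rw [a, b]
      exacts [⟨0, by simp [vec]⟩, ⟨4, by simp [vec4]⟩, ⟨8, by simp [vec8]⟩, ⟨12, by simp [vec, Nat.testBit]⟩,
        ⟨1, by simp [vec1]⟩, ⟨5, by simp [vec, Nat.testBit]⟩, ⟨9, by simp [vec, Nat.testBit]⟩,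
        ⟨13, by simp [vec, Nat.testBit, add_assoc]⟩,
        ⟨2, by simp [vec2]⟩, ⟨6, by simp [vec, Nat.testBit]⟩, ⟨10, by simp [vec, Nat.testBit]⟩,
        ⟨14, by simp [vec, Nat.testBit, add_assoc]⟩,
        ⟨3, by simp [vec, Nat.testBit]⟩, ⟨7, by simp [vec, Nat.testBit]⟩, ⟨11, by simp [vec, Nat.testBit]⟩,
        ⟨15, by simp [vec, Nat.testBit, add_assoc]⟩]
    obtain ⟨n, a, b⟩ := this
    exact ⟨n, a, b ▸ e⟩
  · refine (K a b).imp_right (.imp_right (.imp_right fun e => ?_))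
    rw [e, ← h.xx, mul_smul, h.xx']

theorem memW {u : V} (hu : t • u = u) : u + nm y u ∈ (tau V t).range := by
  obtain ⟨b, -, -, -, -, a, c, -⟩ := h.basis
  obtain ⟨n, -, e⟩ := c u hu
  have : u + nm y u = vec b n := by linear_combination (norm := abel) e + h.two (nm y u)
  exact this ▸ a n

theorem y_D2 : y ∈ D2 V t := ⟨h.ty, fun u hu => by
  have := add_mem (smul_W h.ty _ (h.memW hu)) (h.memW hu)
  rw [smul_add, mem_Fx.1 (nm_mem h.y3 u)] at this
  convert this using 1
  linear_combination (norm := abel) - h.two u - h.two (nm y u)⟩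

theorem x_D2 : x ∉ D2 V t := fun k => by
  have : Subsingleton (Fx V y) := ⟨fun a b => by
    have : ∀ a : Fx V y, a.1 = 0 := fun a => h.fpf _ (sub_eq_zero.1 (h.yW (k.2 _ (h.tf _ a.2)) (by
      rw [smul_sub, smul_cm h.c.symm, mem_Fx.1 a.2])))
    exact Subtype.ext ((this a).trans (this b).symm)⟩
  have := h.c16 ▸ Finite.card_le_one_iff_subsingleton.2 this
  omega

theorem D2_fpf {r : X} (hr : r ∈ D2 V t) (e : r ^ 3 = 1) (n : r ≠ 1) {w : V} (hw : w ∈ (tau V t).range)
    (f : r • w = w) : w = 0 := by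
  by_contra w0
  have k : ∀ u : Fx V y, nm r u.1 + u ∈ (tau V t).range := fun u =>
    h.nm_sub (smul_W hr.1) (h.sub _ _ ▸ hr.2 _ (h.tf _ u.2))
  let φ : Fx V y × Bool → Fx V r := fun p => ⟨nm r p.1.1 + bif p.2 then w else 0,
    add_mem (nm_mem e _) (by cases p.2; exacts [zero_mem _, f])⟩
  have i : Function.Injective φ := fun ⟨a, c⟩ ⟨b, d⟩ g => by
    replace g : nm r a.1 + (bif c then w else 0) = nm r b.1 + bif d then w else 0 := congrArg Subtype.val g
    have m : ∀ c : Bool, (bif c then w else 0) ∈ (tau V t).range := fun c => by cases c; exacts [zero_mem _, hw]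
    have := add_mem (add_mem (k a) (k b)) (add_mem (m c) (m d))
    rw [show nm r a.1 + a + (nm r b.1 + b) + ((bif c then w else 0) + bif d then w else 0) = a + b by
      linear_combination (norm := abel) g + h.two (nm r b.1) + h.two (bif d then w else 0)] at this
    obtain rfl : a = b := Subtype.ext (h.eq_of (h.yW this (add_mem a.2 b.2)))
    cases c <;> cases d <;> simp_all
  have := Nat.card_le_card_of_injective φ i
  rw [Nat.card_prod, h.c16, Nat.card_eq_fintype_card, Fintype.card_bool] at this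
  have := h.le16 e n
  omega

theorem cW : 16 ≤ Nat.card (tau V t).range := by
  obtain ⟨b, -, -, -, a, c, -⟩ := h.basis
  have := Nat.card_le_card_of_injective (fun n : Fin 16 => (⟨_, c n⟩ : (tau V t).range)) fun m n e =>
    Fin.ext (Nat.xor_eq_zero_iff.1 (a _ (Nat.xor_lt_two_pow (n := 4) m.2 n.2) (by
      rw [vec_xor h.two, show vec b m = vec b n from congrArg Subtype.val e, h.two])))
  simpa using this

theorem K1_three {r : X} (hr : r ∈ K1 V t) (e : r ^ 3 = 1) : r = 1 := by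
  by_contra n
  have l : (tau V t).range = Fx V r := AddSubgroup.eq_of_le_of_card_ge hr.2 ((h.le16 e n).trans h.cW)
  refine h.t1 (h.faith t fun v => ?_)
  have a : nm r v + v ∈ Fx V t := h.nm_sub (fun w hw => by rw [mem_Fx, smul_cm hr.1, mem_Fx.1 hw]) (h.tau0.1 (by
    rw [map_add, ← smul_tau hr.1, hr.2 _ ⟨v, rfl⟩, h.two]))
  obtain ⟨u, hu⟩ := l.ge (nm_mem e v)
  exact (add_mem_cancel_left (H := Fx V t) (hu ▸ h.tt u)).1 a

theorem K1_pow {k : X} (hk : k ∈ K1 V t) : ¬ 3 ∣ orderOf k := fun d => by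
  have := orderOf_pow_orderOf_div (orderOf_pos k).ne' d
  rw [h.K1_three (pow_mem hk _) (orderOf_dvd_iff_pow_eq_one.1 this.dvd)] at this
  simp at this

theorem K1_x {k : X} (hk : k ∈ K1 V t) (c : Commute x k) (e : (x * k) ^ 3 = 1) : k = 1 :=
  h.K1_three hk (by rwa [c.mul_pow, h.x3, one_mul] at e)

theorem K1_le {k : X} (hk : k ∈ K1 V t) : Commute x k := by
  have : Fact (Nat.Prime 3) := ⟨Nat.prime_three⟩
  have l : zpowers x ⊔ zpowers y ≤ centralizer {x} ⊓ centralizer {y} := sup_le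
    (zpowers_le.2 ⟨mem_centralizer_singleton_iff.2 rfl, mem_centralizer_singleton_iff.2 h.c⟩)
    (zpowers_le.2 ⟨mem_centralizer_singleton_iff.2 h.c.symm, mem_centralizer_singleton_iff.2 rfl⟩)
  have cm : IsMulCommutative ↥(zpowers x ⊔ zpowers y) := le_centralizer_iff_isMulCommutative.1 (by
    rw [centralizer_sup, centralizer_zpowers, centralizer_zpowers]; exact l)
  have e3 : ∀ a ∈ zpowers x ⊔ zpowers y, a ^ 3 = 1 := fun a ha => by
    obtain ⟨_, ⟨i, rfl⟩, _, ⟨j, rfl⟩, rfl⟩ := (mem_sup_of_le_normalizer (zpowers_le.2 (norm_of_comm h.c))).1 ha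
    rw [(h.c.zpow_zpow i j).mul_pow, ← zpow_natCast, ← zpow_mul, mul_comm, zpow_mul, zpow_natCast, h.x3, ← zpow_natCast,
      ← zpow_mul, mul_comm j, zpow_mul, zpow_natCast, h.y3]
    simp
  have p : IsPGroup 3 ↥(zpowers x ⊔ zpowers y) := isPGroup_iff_forall.2 fun a ha => ⟨1, e3 a ha⟩
  have n := Coprime.le_of_forall_centralizer_le (zpowers x ⊔ zpowers y) (K1 V t) (fun c => by
      obtain ⟨⟨g, hg⟩, e⟩ := c.exists_generator
      have m : ∀ {a}, a ∈ zpowers x ⊔ zpowers y → a ∈ zpowers g := fun a => by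
        obtain ⟨i, e⟩ := e ⟨_, a⟩
        exact ⟨i, congrArg Subtype.val e⟩
      refine h.yx (zpowers_le.2 ?_ (m (mem_sup_right (mem_zpowers y))))
      rcases cases3 (e3 g hg) (m (mem_sup_left (mem_zpowers x))) with a | a | a
      exacts [absurd a h.x1, a ▸ mem_zpowers _, by simp [a]])
    (sup_le (zpowers_le.2 (mem_normalizer_of_conj_mem fun _ => cj_K1 h.tx))
      (zpowers_le.2 (mem_normalizer_of_conj_mem fun _ => cj_K1 h.ty)))
    (by
      obtain ⟨i, e⟩ := p.exists_card_eq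
      refine e ▸ ((Nat.Prime.coprime_iff_not_dvd Nat.prime_three).2 fun d => ?_).pow_left i
      obtain ⟨a, ha, o⟩ := exists_orderOf_eq_of_dvd_card d
      exact h.K1_pow ha (o ▸ dvd_rfl))
    𝐍(zpowers x) (fun a ha n c hc => h.cN (mem_centralizer_singleton_iff.1 (l ha).1).symm (e3 a ha) n
      (mem_centralizer_singleton_iff.1 hc.2).symm) hk
  refine (norm_cases h.x3 n).elim id fun e => absurd (h.K1_three (r := x) ?_ h.x3) h.x1
  have := mul_mem hk (cj_K1 h.tx (inv_mem hk))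
  rwa [← mul_assoc, ← mul_assoc, e, h.inv.xx, inv_inv] at this

theorem syl : IsSyl 3 (zpowers y) (D2 V t ⊓ centralizer {x}) := by
  have : Fact (Nat.Prime 3) := ⟨Nat.prime_three⟩
  refine ⟨zpowers_le.2 ⟨h.y_D2, mem_centralizer_singleton_iff.2 h.c.symm⟩, isPGroup_zpowers (k := 1) h.y3,
    fun R p l1 l2 => by_contra fun n => ?_⟩
  obtain ⟨r, ⟨r1, r2⟩, r3⟩ := SetLike.exists_of_lt (lt_inf_normalizer p (lt_of_le_of_ne l1 (Ne.symm n)))
  obtain ⟨b, b1, b2, -, -, b3, -, b4⟩ := h.basis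
  obtain ⟨i, e⟩ := isPGroup_iff_forall.1 p r r1
  have cy := comm_of_odd h.y3 r2 (Odd.pow (by decide)) e
  have cx : Commute x r := (mem_centralizer_singleton_iff.1 (l2 r1).2).symm
  have hb : b.1 ∈ (tau V t).range := vec1 b ▸ b3 1
  have k : ∀ g ∈ zpowers y, (g * r) • b.1 = b.1 → False := fun g hg f => by
    have m := mul_mem (l1 hg) r1
    by_cases o : g * r = 1
    · exact r3 (eq_inv_of_mul_eq_one_right o ▸ inv_mem hg)
    obtain ⟨c, hc, o⟩ := exists_orderOf_eq_of_isPGroup (Q := zpowers (g * r)) (p.to_le (zpowers_le.2 m)) (by simpa using o)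
    exact b2 (h.D2_fpf (l2 (zpowers_le.2 m hc)).1 (o ▸ pow_orderOf_eq_one c) (by rintro rfl; simp at o) hb
      (zpowers_le (H := MulAction.stabilizer X b.1).2 f hc))
  have y1 : y • b.1 = x⁻¹ • b.1 := by rw [eq_inv_smul_iff, ← mul_smul, b1]
  obtain ⟨v, hv⟩ := smul_W (l2 r1).1.1 _ hb
  rcases b4 (r • b.1) (by rw [smul_cm (cx.mul_left cy), b1]) (hv ▸ h.tt v) with a | a | a | a
  · exact b2 ((smul_eq_zero_iff_eq r).1 a)
  · exact k 1 (one_mem _) (by simpa using a)
  · exact k y (mem_zpowers y) (by rw [mul_smul, a, smul_cm h.c.symm, ← mul_smul, b1])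
  · exact k y⁻¹ (inv_mem (mem_zpowers y)) (by rw [mul_smul, a, ← y1, inv_smul_smul])

theorem weak {g : X} (c : Commute x (g * x * g⁻¹)) : g ∈ 𝐍(zpowers x) := by
  refine mem_normalizer_of_cj_le (cj_zpowers g x ▸ zpowers_le.2 ((h.cl _ c (by rw [conj_pow, h.x3]; simp)).resolve_right
    fun ⟨d, _, e⟩ => ?_))
  have a := card_cj' (V := V) d y
  rw [e, card_cj', h.c16] at a
  have : Subsingleton (Fx V x) := ⟨fun a b => Subtype.ext ((h.fpf _ a.2).trans (h.fpf _ b.2).symm)⟩
  have := a ▸ Finite.card_le_one_iff_subsingleton.2 this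
  omega

theorem normy {g : X} (n : g ∈ 𝐍(zpowers y)) : g ∈ 𝐍(zpowers x) := by
  refine h.weak (comm_of_odd h.x3 (h.cy _ ?_) (m := 3) (by decide) (by rw [conj_pow, h.x3]; simp))
  have : Commute (g⁻¹ * y * g) x := by
    obtain ⟨i, e⟩ := conj_mem_of_mem_normalizer' n (mem_zpowers y)
    exact e ▸ h.c.symm.zpow_left i
  simpa [mul_assoc] using this.conj g

theorem cent {d : X} (hd : Commute t d) : d ∈ 𝐍(zpowers x) := by
  have : Fact (Nat.Prime 3) := ⟨Nat.prime_three⟩
  obtain ⟨b, -, -, b1, b2, b3, b4, -⟩ := h.basis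
  have m := cj_D2 hd h.y_D2
  have e : (d * y * d⁻¹) ^ 3 = 1 := by rw [conj_pow, h.y3]; simp
  have n : d * y * d⁻¹ ≠ 1 := fun a => h.yx (conj_eq_one_iff.1 a ▸ one_mem _)
  have W : ∀ w ∈ (tau V t).range, ∃ k < 16, w = vec b k := fun w ⟨v, hv⟩ => by
    have := b4 w (hv ▸ h.tt v)
    rwa [h.nmW ⟨v, hv⟩, funext fun k => congrArg (k < 16 ∧ w = ·) (zero_add (vec b k))] at this
  have c : Commute x (d * y * d⁻¹) := by
    rcases four h.two b2 b1 (fun n => W _ (smul_W m.1 _ (b3 n)))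
      (fun k => h.D2_fpf m e n (nm_in (smul_W m.1) (b3 k)) (nm_mem e _)) m (h.xx ▸ cj_D2 h.tx m)
      (by simpa [h.xx] using cj_D2 h.tx.inv_right m) with a | ⟨g, hg, a⟩
    · generalize d * y * d⁻¹ = u at *
      have k : x⁻¹ * (u * x * u⁻¹) ∈ K1 V t :=
        ⟨h.tx.inv_right.mul_right ((m.1.mul_right h.tx).mul_right m.1.inv_right), fun w hw => by
          obtain ⟨j, -, f⟩ := W _ (smul_W m.1.inv_right w hw)
          rw [mul_smul, mul_smul, f, a, ← f, mul_smul, smul_inv_smul, inv_smul_smul]⟩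
      exact comm_of_cj (inv_mul_eq_one.1 (h.K1_x k (h.K1_le k) (by rw [mul_inv_cancel_left, conj_pow, h.x3]; simp))).symm
    · have k : x⁻¹ * g ∈ K1 V t := ⟨h.tx.inv_right.mul_right hg.1, fun w hw => by
        obtain ⟨j, -, rfl⟩ := W w hw
        rw [mul_smul, a, inv_smul_smul]⟩
      have f := pow_mem hg (orderOf (x⁻¹ * g))
      rw [← mul_inv_cancel_left x g, (h.K1_le k).mul_pow, mul_inv_cancel_left, pow_orderOf_eq_one, mul_one] at f
      refine absurd ?_ h.x_D2
      rcases cases3 h.x3 (npow_mem_zpowers x (orderOf (x⁻¹ * g))) with a | a | a <;> rw [a] at f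
      · exact absurd (orderOf_eq_prime h.x3 h.x1 ▸ orderOf_dvd_of_pow_eq_one a) (h.K1_pow k)
      exacts [f, inv_mem_iff.1 f]
  obtain ⟨g, hg, l⟩ := h.syl.exists_cj_le (isPGroup_zpowers (k := 1) e)
    (zpowers_le.2 ⟨m, mem_centralizer_singleton_iff.2 c.symm⟩)
  rw [← cj_zpowers, ← cj_mul] at l
  exact (mul_mem_cancel_left (norm_of_comm (mem_centralizer_singleton_iff.1 hg.2).symm)).1
    (h.normy (mem_normalizer_of_cj_le l))

end Co

end CF.XT.Jf
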