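import Cfsg.Agent.Bt.Blk.M22
import Cfsg.Agent.Bt.Loc.FusM22
import Cfsg.Agent.Bt.Out.M22
import Cfsg.Agent.Loc.Syl

/-! Facts on the Mathieu group of degree 22. -/

set_option autoImplicit false
set_option maxRecDepth 1000000

namespace CF.XT.Jf

open Subgroup CF.Loc CF.Comp CF.Comp.Mat CF.Bt CF.Bt.Blk22 Cfsg Cfsg.Spor

/-- the facts used -/
structure MF (M : Type*) [Group M] : Prop where
  simple : IsSimpleGroup M
  card : Nat.card M = 443520
  c2 : ∀ a b : M, orderOf a = 2 → orderOf b = 2 → IsConj a b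
  c3 : ∀ a b : M, orderOf a = 3 → orderOf b = 3 → IsConj a b
  cen : ∀ a : M, orderOf a = 2 → Nat.card (centralizer {a}) = 384
  syl : ∀ S : Subgroup M, Nat.card S = 128 → ∀ a ∈ 𝐍(S), a ^ 3 = 1 → a = 1
  e32 : ∀ U : Subgroup M, (∀ u ∈ U, u * u = 1) → Nat.card U ≠ 32
  four : ∃ a b : M, orderOf a = 2 ∧ orderOf b = 2 ∧ a ≠ b ∧ Commute a b
  out : Nat.card (Out M) = 2

/-- conjugating words -/
def cw : List (List ℕ) := [[1, 1, 1, 3, 2, 3, 1, 3, 1], [4, 2, 3, 1, 4, 1, 1, 1, 1], [], [4, 1, 4, 1, 1, 1, 4],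
  [1, 3, 1, 1, 1, 1, 4], [1, 3, 3, 2, 2, 2, 2], [2, 3, 2, 2, 4, 1, 1, 1, 3, 2, 3, 1], [3, 1, 1, 4, 2, 4, 1, 1, 1, 1, 4]]

theorem f3 : pcAll 3 (fun w => Bool.rec (lany (fun c => sameW (lapp X []) 24 5 (lapp c w) (lapp [2, 2, 4, 4] c)) cw) true
    (sameW (lapp X []) 24 5 w [])) S3.qs = true := by decide +kernel

theorem f4 : lall (fun t => t) [ordOK (lapp X []) 24 5 (nth [] Q4.qs 0) 2, difW (lapp X []) 24 5 (nth [] Q4.qs 0) e2,
    sameW (lapp X []) 24 5 (lapp (nth [] Q4.qs 0) e2) (lapp e2 (nth [] Q4.qs 0))] = true := by decide +kernel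

theorem no32 {M Ω : Type*} [Group M] [Finite M] [Finite Ω] [MulAction M Ω] (hΩ : Nat.card Ω = 24)
    (f : ∀ g : M, (∀ p : Ω, g • p = p) → g = 1) (c : ∀ a b : M, orderOf a = 2 → orderOf b = 2 → IsConj a b)
    (U : Subgroup M) (h : ∀ u ∈ U, u * u = 1) : Nat.card U ≠ 32 := fun e => by
  classical
  have : Fact (Nat.Prime 2) := ⟨Nat.prime_two⟩
  have := Fintype.ofFinite U
  have := Fintype.ofFinite Ω
  have := Fintype.ofFinite (MulAction.orbitRel.Quotient U Ω)
  have : Nontrivial U := Finite.one_lt_card_iff_nontrivial.1 (by omega)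
  obtain ⟨a, a1⟩ := exists_ne (1 : U)
  have o : ∀ u : U, u ≠ 1 → orderOf u.1 = 2 := fun u n =>
    orderOf_eq_prime (by rw [pow_two, h _ u.2]) fun e => n (Subtype.ext e)
  have k : ∀ u : U, u ≠ 1 → Fintype.card (MulAction.fixedBy Ω u) = Fintype.card (MulAction.fixedBy Ω a) := fun u n => by
    obtain ⟨g, hg⟩ := isConj_iff.1 (c _ _ (o u n) (o a a1))
    refine Fintype.card_congr ((MulAction.toPerm g).subtypeEquiv fun p => ?_)
    show u.1 • p = p ↔ a.1 • g • p = g • p
    rw [← hg, mul_smul, mul_smul, inv_smul_smul, smul_left_cancel_iff]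
  have b := MulAction.sum_card_fixedBy_eq_card_orbits_mul_card_group U Ω
  rw [← Finset.add_sum_erase _ _ (Finset.mem_univ 1), Finset.sum_congr rfl fun u hu => k u (Finset.ne_of_mem_erase hu),
    Finset.sum_const, Finset.card_erase_of_mem (Finset.mem_univ _), Finset.card_univ, ← Nat.card_eq_fintype_card (α := U),
    e, Fintype.card_congr (Equiv.subtypeUnivEquiv (p := fun p => p ∈ MulAction.fixedBy Ω (1 : U)) (by simp)),
    ← Nat.card_eq_fintype_card (α := Ω), hΩ, smul_eq_mul] at b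
  have l : Fintype.card (MulAction.fixedBy Ω a) < Fintype.card Ω := Fintype.card_subtype_lt (x := (not_forall.1
    fun k => a1 (Subtype.ext (f a.1 k))).choose) (not_forall.1 fun k => a1 (Subtype.ext (f a.1 k))).choose_spec
  rw [← Nat.card_eq_fintype_card (α := Ω), hΩ] at l
  omega

theorem mf : MF M22 := by
  have : Fact (Nat.Prime 2) := ⟨Nat.prime_two⟩
  obtain ⟨f, hE⟩ := exists_model
  have he := eqv_sameW hE.reps k5 hE.faithful
  have c : ∀ a : M22, orderOf a = 2 → IsConj a (ev f e2) := fun a o => by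
    obtain ⟨w, hw, x, e⟩ := clOK_spec hE k5 Nat.prime_two (m := 3465) card_M22 (by decide) pS2 fF2 o
    exact isConj_iff.2 ⟨x, List.mem_singleton.1 hw ▸ e⟩
  have c2 : ∀ a b : M22, orderOf a = 2 → orderOf b = 2 → IsConj a b := fun a b p q => (c a p).trans (c b q).symm
  have d : ∀ a : M22, orderOf a = 3 → IsConj a (ev f [2, 2, 4, 4]) := fun a o => by
    obtain ⟨p1, p2, -⟩ := pOK_spec hE k5 three_ne_zero (P := S3) (a := 2)
      (and_of_rec (b := comAll (sameW (lapp X []) 24 5) S3.qs S3.qs) pS3).1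
    obtain ⟨x, -, e⟩ := exists_conj_mem (P := clo f S3.qs) (H := ⊤) le_top Nat.prime_three (m := 49280)
      (by rw [card_top, card_M22, p2]; rfl) (by decide) (g := a) trivial (a := 1) (by rw [pow_one, ← o, pow_orderOf_eq_one])
    obtain ⟨w, e1, e2⟩ := p1.all three_ne_zero f3 _ e
    rcases or_of_rec e2 with k | k
    · rw [he _ _ k, ev_nil, eq_comm, conj_eq_one_iff] at e1
      simp [e1] at o
    · obtain ⟨u, -, k⟩ := lany_iff.1 k
      exact (isConj_iff.2 ⟨x, e1.symm⟩).trans (isConj_iff.2 ⟨_, he.conj k⟩)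
  refine ⟨isSimpleGroup_M22, card_M22, c2, fun a b p q => (d a p).trans (d b q).symm, fun a o => ?_, fun S e a n a3 => ?_,
    no32 (Ω := GolayPt) (by simp [GolayPt]) (fun g k => Subtype.ext (Equiv.ext k)) c2, ?_, OutM22.out⟩
  · obtain ⟨x, e⟩ := isConj_iff.1 (c a o)
    rw [← (ceqOK_spec hE k5 (by decide) card_M22 ke2).2, ← e, ← cj_centralizer_singleton, card_cj]
  · have p : IsPGroup 2 S := .of_card (n := 7) e
    have := (FusM22.main (.refl _) (Sylow.ofCard S (by rw [e, card_M22]; decide +kernel))).2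
    obtain ⟨k, q⟩ := isPGroup_iff_forall.1 p a (this.le n)
    exact orderOf_eq_one_iff.1 (Nat.Coprime.eq_one_of_dvd (((by decide : Nat.Coprime 3 2).pow_right k).coprime_dvd_left
      (orderOf_dvd_of_pow_eq_one a3)) (orderOf_dvd_of_pow_eq_one q))
  · have := f4
    simp only [lall_iff, List.forall_mem_cons] at this
    obtain ⟨a, b, c, -⟩ := this
    have c := he _ _ c
    rw [ev_lapp, ev_lapp] at c
    exact ⟨_, _, ordOK_spec hE k5 (by decide) Nat.prime_two a, ordOK_spec hE k5 (by decide) Nat.prime_two oe2,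
      nev_difW hE.reps (by decide) 5 _ _ b, c⟩

end CF.XT.Jf
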