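import Cfsg.Agent.Char.T3e
import Cfsg.Agent.GW.V4
import Cfsg.Agent.BG2.FrobAmb
import Cfsg.Agent.Even.Extra
import Cfsg.Agent.Fgs1.FPF6
import Cfsg.Agent.Transfer.Tate

/-! The 3-local characterization of McL: the Sylow 3-subgroup. -/

set_option autoImplicit false
set_option maxRecDepth 100000
set_option linter.unusedSectionVars false
set_option linter.unusedVariables false

namespace CF.XT.Mc

open Subgroup Cfsg CF.BG CF.GW CF.Char Equiv Equiv.Perm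
open scoped commutatorElement

theorem p3 : Nat.Prime 3 := Nat.prime_three
theorem p2 : Nat.Prime 2 := Nat.prime_two

abbrev SL5 := Matrix.SpecialLinearGroup (Fin 2) (ZMod 5)

theorem exists_p5 : ∃ p : SL5 →* Perm (Fin 5), (∀ g, p g = 1 ↔ g = 1 ∨ g = -1) ∧ (∀ g, sign (p g) = 1) ∧
    (∀ σ, sign σ = 1 → ∃ g, p g = σ) ∧ (∀ g : SL5, g * g = 1 → g = 1 ∨ g = -1) ∧ Nat.card SL5 = 120 := by
  obtain ⟨π, h⟩ := Fgs1.Fpf.exists_dc_SL25
  exact ⟨(alternatingGroup _).subtype.comp π, fun g => by rw [← h.ker]; simp, fun g => (π g).2,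
    fun σ e => (h.surj ⟨σ, e⟩).imp fun g q => congrArg Subtype.val q, h.uniq, h.card⟩

noncomputable def p5 : SL5 →* Perm (Fin 5) := exists_p5.choose
theorem p5k {g : SL5} : p5 g = 1 ↔ g = 1 ∨ g = -1 := exists_p5.choose_spec.1 g
theorem p5s (g : SL5) : sign (p5 g) = 1 := exists_p5.choose_spec.2.1 g
theorem p5o {σ : Perm (Fin 5)} (e : sign σ = 1) : ∃ g, p5 g = σ := exists_p5.choose_spec.2.2.1 σ e
theorem p5u {g : SL5} (e : g * g = 1) : g = 1 ∨ g = -1 := exists_p5.choose_spec.2.2.2.1 g e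
theorem card5 : Nat.card SL5 = 120 := exists_p5.choose_spec.2.2.2.2
theorem neg5 : (-1 : SL5) ≠ 1 := by decide
theorem p5e {a b : SL5} (e : p5 a = p5 b) : a = b ∨ a = -b := by
  rcases p5k.1 (by rw [map_mul, map_inv, e, mul_inv_cancel] : p5 (a * b⁻¹) = 1) with q | q
  exacts [.inl (mul_inv_eq_one.1 q), .inr (by rw [mul_inv_eq_iff_eq_mul.1 q]; simp)]
theorem cube5 {g : SL5} (p : PiElt {3} g) : g ^ 3 = 1 := by
  have d := orderOf_dvd_natCard g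
  obtain ⟨k, e⟩ := p.exists_pow (orderOf_pos g).ne'
  rw [card5, e] at d
  have : k ≤ 1 := by
    by_contra! l
    exact absurd ((pow_dvd_pow 3 l).trans d) (by decide)
  exact orderOf_dvd_iff_pow_eq_one.1 (e ▸ (pow_dvd_pow 3 this).trans (by simp))
theorem p5sq {g : SL5} (e : p5 g * p5 g = 1) (n : p5 g ≠ 1) : g * g = -1 :=
  (p5k.1 (map_mul p5 g g ▸ e)).resolve_left fun q => n (p5k.2 (p5u q))
theorem eq5 {a b : SL5} (e : p5 a = p5 b) (ha : a ^ 3 = 1) (hb : b ^ 3 = 1) : a = b :=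
  (p5e e).resolve_right fun q => neg5 (by
    rw [q, ← neg_one_mul, (Commute.neg_one_left b).mul_pow, hb, mul_one] at ha; exact Eq.trans (by decide) ha)

abbrev Iv5 (w : Perm (Fin 5)) : Prop := w * w = 1 ∧ w ≠ 1
theorem wd5 : ∀ a : Perm (Fin 5), a ^ 3 = 1 → a ≠ 1 → ∀ b : Perm (Fin 5), b ^ 3 = 1 → b = 1 ∨ b = a ∨ b = a⁻¹ ∨
    Iv5 (a * b) ∨ Iv5 (a * b⁻¹) ∨ Iv5 (b * (a * b * a⁻¹)) ∨ Iv5 (b * (a * b⁻¹ * a⁻¹)) := by decide +kernel
theorem c5 : ∀ a : Perm (Fin 5), a ^ 3 = 1 → a ≠ 1 → finRotate 5 * a * (finRotate 5)⁻¹ ≠ a ∧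
    finRotate 5 * a * (finRotate 5)⁻¹ ≠ a⁻¹ := by decide +kernel

universe u
variable {G : Type u} [Group G] [Finite G]

/-- a homomorphism defined on a subgroup -/
def Hm {X : Type} [Group X] (L : Subgroup G) (f : G → X) : Prop := ∀ a ∈ L, ∀ b ∈ L, f (a * b) = f a * f b

namespace Hm
variable {X : Type} [Group X] {L : Subgroup G} {f : G → X} (h : Hm L f) {a b : G}
include h
theorem one : f 1 = 1 := by simpa using h 1 (one_mem _) 1 (one_mem _)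
theorem inv (m : a ∈ L) : f a⁻¹ = (f a)⁻¹ :=
  eq_inv_of_mul_eq_one_left (by rw [← h _ (inv_mem m) _ m, inv_mul_cancel, h.one])
theorem pow (m : a ∈ L) (n : ℕ) : f (a ^ n) = f a ^ n := by
  induction n with
  | zero => simp [h.one]
  | succ n i => rw [pow_succ, h _ (pow_mem m n) _ m, i, pow_succ]
theorem conj (m : a ∈ L) (m' : b ∈ L) : f (a * b * a⁻¹) = f a * f b * (f a)⁻¹ := by
  rw [h _ (mul_mem m m') _ (inv_mem m), h _ m _ m', h.inv m]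
theorem div (m : a ∈ L) (m' : b ∈ L) : f (a * b⁻¹) = f a * (f b)⁻¹ := by rw [h _ m _ (inv_mem m'), h.inv m']
theorem pi {π : Set ℕ} (m : a ∈ L) (p : PiElt π a) : PiElt π (f a) :=
  p.dvd (orderOf_dvd_of_pow_eq_one (by rw [← h.pow m, pow_orderOf_eq_one, h.one]))
end Hm

noncomputable def mu (l : G → SL5) (g : G) : Perm (Fin 5) := p5 (l g)

theorem Hm.mu {L : Subgroup G} {l : G → SL5} (h : Hm L l) : Hm L (mu l) := fun a m b m' => by
  simp only [Mc.mu, h a m b m', map_mul]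

theorem mem_cm {Z : Subgroup G} {a u : G} (ha : a ∈ 𝐍 Z) :
    u ∈ centMod (zpowers a) Z ↔ u ∈ 𝐍 Z ∧ ⁅a, u⁆ ∈ Z :=
  ⟨fun m => ⟨m.1, commutatorElement_inv u a ▸ inv_mem ((mem_centMod.1 m).2 a (mem_zpowers a))⟩, fun ⟨hu, e⟩ =>
    zpowers_le.1 (le_centMod.2 ⟨zp_le_norm hu, (qt_cent_iff (zp_le_norm hu) (zp_le_norm ha)).1 (by
      rw [qt_zpowers ha, qt_zpowers hu, cent_zpowers]
      exact zpowers_le.2 (mem_cent1.2 (commutatorElement_eq_one_iff_mul_comm.1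
        (by rw [← qe_comm ha hu]; exact qe_of_mem e)).symm))⟩)⟩

theorem mem_cm' {Z U : Subgroup G} {a : G} (ha : a ∈ 𝐍 Z) (n : U ≤ 𝐍 Z) :
    a ∈ centMod U Z ↔ U ≤ centMod (zpowers a) Z :=
  ⟨fun m u hu => (mem_cm ha).2 ⟨n hu, (mem_centMod.1 m).2 u hu⟩,
    fun m => mem_centMod.2 ⟨ha, fun u hu => ((mem_cm ha).1 (m hu)).2⟩⟩

theorem exists_hm {X : Type} [Group X] {L : Subgroup G} (f : L →* X) :
    ∃ f' : G → X, Hm L f' ∧ ∀ a : L, f' a = f a := by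
  classical
  exact ⟨fun g => if h : g ∈ L then f ⟨g, h⟩ else 1, fun a m b m' => by
    simp only [m, m', mul_mem m m', dif_pos, ← map_mul]; rfl, fun a => by simp⟩

theorem braid {s t : G} (ss : s * s = 1) (tt : t * t = 1) (c : (s * t) ^ 3 = 1) : s * t * s = t * s * t := by
  have := congrArg (· * t * s * t) c
  simp only [pow_three', mul_assoc, tt, mul_one, one_mul] at this
  simp only [← mul_assoc s s, ss, one_mul, ← mul_assoc t t, tt, mul_one] at this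
  rw [mul_assoc, this, mul_assoc]

theorem adj {K : Subgroup G} {a t : G} (eK : ∀ a ∈ K, a ^ 3 = 1) (tt : t * t = 1) (q : a * t * a⁻¹ * t⁻¹ ∈ K) :
    ∃ k ∈ K, k * a * t = t * (k * a) := by
  refine ⟨_, q, ?_⟩
  have c := eK _ q
  have i : a * t * a⁻¹ * (a * t * a⁻¹) = 1 := by rw [conj_mul, tt]; simp
  rw [inv_eq_of_mul_eq_one_right tt] at c ⊢
  generalize e : a * t * a⁻¹ = s at c i
  rw [mul_assoc, mul_inv_eq_iff_eq_mul.1 e, ← mul_assoc, ← mul_assoc, braid i tt c, ← mul_assoc]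

/-- the hypotheses on the normalizer of the centre -/
structure H1 (S Q L J : Subgroup G) (z t : G) (l : G → SL5) : Prop where
  syl : Syl 3 S ⊤
  oz : orderOf z = 3
  ex : IsExtraspecial 3 Q
  cQ : ♯Q = 243
  eQ : ∀ a ∈ Q, a ^ 3 = 1
  cc : 𝐂 Q ≤ Q
  nQ : 𝐍 (zpowers z) ≤ 𝐍 Q
  nL : 𝐍 (zpowers z) ≤ 𝐍 L
  QL : Q ≤ L
  SL : S ≤ L
  Lz : L ≤ 𝐂₁ z
  lm : Hm L l
  lo : ∀ σ, ∃ a ∈ L, l a = σ
  lk : ∀ a ∈ L, l a = 1 ↔ a ∈ Q
  cL : ♯L = 243 * 120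
  JS : J ≤ S
  ab : Abel J
  eJ : ∀ a ∈ J, a ^ 3 = 1
  cJ : ♯J = 81
  tL : t ∈ L
  tt : t * t = 1
  lt : l t = -1

/-- the centralizer of `S` on `Q / Z` -/
abbrev WW (S Q : Subgroup G) (z : G) : Subgroup G := Q ⊓ centMod S (zpowers z)

namespace H1
variable {S Q L J : Subgroup G} {z t : G} {l : G → SL5} (h : H1 S Q L J z t l) {a b g : G} {U A : Subgroup G}
include h

theorem z3 : z ^ 3 = 1 := h.oz ▸ pow_orderOf_eq_one z
theorem zne : z ≠ 1 := fun e => by simpa [e] using h.oz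
theorem cZ : ♯(zpowers z) = 3 := (Nat.card_zpowers z).trans h.oz
theorem LN : L ≤ 𝐍 (zpowers z) := h.Lz.trans (cent1_le_norm_zp z)
theorem LQ : L ≤ 𝐍 Q := h.LN.trans h.nQ
theorem pQ : PiGrp {3} Q := piGrp_of_card (k := 5) p3 h.cQ
theorem pJ : PiGrp {3} J := piGrp_of_card (k := 4) p3 h.cJ
theorem sylL : Syl 3 S L := h.syl.of_le h.SL le_top
theorem QS : Q ≤ S := h.sylL.le_of_normal ⟨h.QL, h.LQ⟩ h.pQ
theorem zC : z ∈ 𝐂 Q := le_cent1_iff.1 (h.QL.trans h.Lz)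
theorem zQ : z ∈ Q := h.cc h.zC
theorem ZQ : zpowers z ≤ Q := zpowers_le.2 h.zQ
theorem cQZ : 𝐂 Q = zpowers z := by
  obtain ⟨-, c, -, -, -, -, e⟩ := BG2.extra_facts p3 h.ex
  refine (eq_of_card_eq (zpowers_le.2 h.zC) ?_).symm
  rw [h.cZ, ← c, ← e, inf_eq_right.2 h.cc]
theorem der : ⁅Q, Q⁆ ≤ zpowers z := h.cQZ ▸ (BG2.extra_facts p3 h.ex).2.2.1
theorem t1 : t ≠ 1 := fun e => neg5 (by rw [← h.lt, e, h.lm.one])
theorem it : Iv t := .mk' h.t1 h.tt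
theorem ti : t⁻¹ = t := h.it.inv_eq
theorem tz : t * z = z * t := mem_cent1.1 (h.Lz h.tL)
theorem tQ : t ∉ Q := fun m => neg5 (h.lt ▸ (h.lk t h.tL).2 m)
theorem lQ (m : a ∈ Q) : l a = 1 := (h.lk a (h.QL m)).2 m
theorem leq (m : a ∈ L) (m' : b ∈ L) (e : l a = l b) : a * b⁻¹ ∈ Q :=
  (h.lk _ (mul_mem m (inv_mem m'))).1 (by rw [h.lm.div m m', e, mul_inv_cancel])
theorem memq (m : a ∈ L) (m' : b ∈ U) (q : Q ≤ U) (m'' : b ∈ L) (e : l a = l b) : a ∈ U :=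
  inv_mul_cancel_right a b ▸ mul_mem (q (h.leq m m'' e)) m'
theorem l3 (m : a ∈ L) (p : PiElt {3} a) : l a ^ 3 = 1 := cube5 (h.lm.pi m p)

theorem cS : ♯S = 729 := by
  obtain ⟨k, e⟩ := h.syl.pi.card_pow
  have c := h.sylL.card_mul
  have n := h.sylL.not_dvd p3
  have d := h.sylL.dvd_card (n := 3 ^ 6) (by rw [h.cL]; decide) (piNat_pow_self p3 6)
  rw [h.cL, e] at c
  rw [e] at d ⊢
  have : k ≤ 6 := by
    by_contra! q
    exact absurd (((pow_dvd_pow 3 q).trans (Dvd.intro _ c))) (by decide)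
  rw [le_antisymm this ((Nat.pow_dvd_pow_iff_le_right (by decide)).1 d)]; rfl

theorem cop (p : PiGrp {3}ᶜ A) (c : A ≤ 𝐂₁ z) (e : ⁅Q, A⁆ ≤ zpowers z) : A = ⊥ :=
  (h.pQ.le (h.cQZ ▸ cent_of_stable (p.coprime' (h.pQ.le h.ZQ)) e (by rwa [cent_zpowers]) |>.trans h.ZQ)).eq_bot p

theorem irr (h1 : zpowers z ≤ U) (h2 : U ≤ Q) (n : L ≤ 𝐍 U) : U = zpowers z ∨ U = Q := by
  have : Fact (Nat.Prime 5) := ⟨by norm_num⟩
  obtain ⟨e, he, o⟩ := exists_mem_orderOf_eq (H := L) (p := 5) (by norm_num) (by rw [h.cL]; decide)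
  have pE : IsPGroup 5 (zpowers e) := IsPGroup.of_card (n := 1) (by rw [Nat.card_zpowers, o, pow_one])
  have k : ∀ V : Subgroup G, V ≤ Q → ♯V % 5 = 3 → ♯V = 3 ∨ V = Q := fun V hV c => by
    have d := card_dvd hV
    rw [h.cQ] at d
    obtain ⟨k, hk, e⟩ := (Nat.dvd_prime_pow p3 (m := 5)).1 d
    rw [e] at c
    interval_cases k <;> simp at c
    exacts [.inl e, .inr (eq_of_card_eq hV (e.trans h.cQ.symm))]
  have c1 := Transfer.card_modEq_card_inf_centralizer pE (zp_le_norm (h.LQ he))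
  have c2 := Transfer.card_modEq_card_inf_centralizer pE (zp_le_norm (n he))
  have zE : zpowers z ≤ 𝐂 (zpowers e) := cent_symm (by rw [cent_zpowers]; exact zpowers_le.2 (h.Lz he))
  rw [h.cQ] at c1
  rcases k _ inf_le_left c1.symm with c | c
  · have : U ⊓ 𝐂 (zpowers e) = zpowers z := (eq_of_card_le (le_inf h1 zE)
      ((card_le (inf_le_inf_right _ h2)).trans (by rw [c, h.cZ]))).symm
    rw [this, h.cZ] at c2
    exact (k U h2 c2).imp_left fun c => (eq_of_card_eq h1 (h.cZ.trans c.symm)).symm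
  · have := orderOf_dvd_card' (h.cQZ ▸ zpowers_le.1 (cent_symm (inf_eq_left.1 c)) : e ∈ zpowers z)
    rw [o, h.cZ] at this
    exact absurd this (by decide)

theorem tc (m : a ∈ L) : a * t * a⁻¹ * t⁻¹ ∈ Q := h.leq (mul_mem (mul_mem m h.tL) (inv_mem m)) h.tL (by
  rw [h.lm.conj m h.tL, h.lt]; simp)

theorem Qcm (m : a ∈ Q) : Q ≤ centMod (zpowers a) (zpowers z) := fun u hu =>
  (mem_cm (h.LN (h.QL m))).2 ⟨h.LN (h.QL hu), h.der (commutator_mem_commutator m hu)⟩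

theorem UZ (m : a ∈ Q) (e : t ∈ centMod (zpowers a) (zpowers z)) : a ∈ zpowers z := by
  have n : L ≤ 𝐍 (Q ⊔ zpowers t) := le_norm_of_cj_le fun g hg => by
    rw [cj_sup, cj_of_norm (h.LQ hg), cj_zpowers]
    exact sup_le le_sup_left (zpowers_le.2 (inv_mul_cancel_right (g * t * g⁻¹) t ▸
      mul_mem_sup (h.tc hg) (mem_zpowers t)))
  have n' := sup_le (h.QL.trans h.LN) (zp_le_norm (h.LN h.tL))
  rcases h.irr (U := Q ⊓ centMod (Q ⊔ zpowers t) (zpowers z)) (le_inf h.ZQ (le_centMod.2 ⟨le_norm_self _,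
    comm_le_left n'⟩)) inf_le_left (norm_inf h.LQ (norm_centMod n h.LN)) with q | q
  · exact q ▸ mem_inf.2 ⟨m, (mem_cm' (h.LN (h.QL m)) n').2 (sup_le (h.Qcm m) (zpowers_le.2 e))⟩
  · exact absurd (zpowers_eq_bot.1 (h.cop (h.it.piGrp.of_single_ne (by decide)) (zpowers_le.2 (h.Lz h.tL))
      ((commutator_mono le_rfl le_sup_right).trans (le_centMod.1 (inf_eq_left.1 q)).2))) h.t1

theorem Qt (m : a ∈ Q) (e : a ∈ 𝐂₁ t) : a ∈ zpowers z := h.UZ m ((mem_cm (h.LN (h.QL m))).2 ⟨h.LN h.tL, by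
  rw [commutatorElement_eq_one_iff_mul_comm.2 (mem_cent1.1 e)]; exact one_mem _⟩)

/-- two different Sylow subgroups generate `t` -/
theorem gen (q : Q ≤ U) (l1 : U ≤ L) (ha : a ∈ U) (hb : b ∈ U) (pa : PiElt {3} a) (pb : PiElt {3} b) (n : a ∉ Q) :
    t ∈ U ∨ b ∈ Q ∨ b * a⁻¹ ∈ Q ∨ b * a ∈ Q := by
  have m := h.lm.mu
  have a3 := h.l3 (l1 ha) pa
  have b3 := h.l3 (l1 hb) pb
  have k : ∀ w ∈ U, Iv5 (mu l w) → t ∈ U := fun w hw i => h.memq h.tL (mul_mem hw hw) q (l1 (mul_mem hw hw))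
    (by rw [h.lt, h.lm _ (l1 hw) _ (l1 hw), p5sq i.1 i.2])
  rcases wd5 (mu l a) (by rw [mu, ← map_pow, a3, map_one]) (fun e => n ((h.lk a (l1 ha)).1
    (eq5 (e.trans (map_one _).symm) a3 (one_pow _)))) (mu l b) (by rw [mu, ← map_pow, b3, map_one])
    with e | e | e | e | e | e | e
  · exact .inr (.inl ((h.lk b (l1 hb)).1 (eq5 (e.trans (map_one _).symm) b3 (one_pow _))))
  · exact .inr (.inr (.inl (h.leq (l1 hb) (l1 ha) (eq5 e b3 a3))))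
  · exact .inr (.inr (.inr (inv_inv a ▸ h.leq (l1 hb) (l1 (inv_mem ha)) (h.lm.inv (l1 ha) ▸
      eq5 (e.trans (map_inv _ _).symm) b3 (by rw [inv_pow, a3, inv_one])))))
  · exact .inl (k _ (mul_mem ha hb) (by rwa [m _ (l1 ha) _ (l1 hb)]))
  · exact .inl (k _ (mul_mem ha (inv_mem hb)) (by rwa [m.div (l1 ha) (l1 hb)]))
  · exact .inl (k _ (mul_mem hb (mul_mem (mul_mem ha hb) (inv_mem ha))) (by
      rwa [m _ (l1 hb) _ (l1 (mul_mem (mul_mem ha hb) (inv_mem ha))), m.conj (l1 ha) (l1 hb)]))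
  · exact .inl (k _ (mul_mem hb (mul_mem (mul_mem ha (inv_mem hb)) (inv_mem ha))) (by
      rwa [m _ (l1 hb) _ (l1 (mul_mem (mul_mem ha (inv_mem hb)) (inv_mem ha))), m.conj (l1 ha) (l1 (inv_mem hb)),
        m.inv (l1 hb)]))

theorem tS : t ∉ S := fun m => h.t1 ((h.syl.pi.elt m).eq_one (h.it.piElt.to_compl_single (by decide)))

theorem memS (ha : a ∈ S) (n : a ∉ Q) (hb : b ∈ S) : b ∈ Q ∨ b * a⁻¹ ∈ Q ∨ b * a ∈ Q :=
  (h.gen h.QS h.SL ha hb (h.syl.pi.elt ha) (h.syl.pi.elt hb) n).resolve_left h.tS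

theorem leS (ha : a ∈ S) (n : a ∉ Q) (q : Q ≤ U) (m : a ∈ U) : S ≤ U := fun b hb => by
  rcases h.memS ha n hb with e | e | e
  exacts [q e, (mul_mem_cancel_right (inv_mem m)).1 (q e), (mul_mem_cancel_right m).1 (q e)]

theorem exS : ∃ a ∈ S, a ∉ Q := by
  by_contra! k
  have := card_le (show S ≤ Q from k)
  rw [h.cS, h.cQ] at this
  omega

theorem SN : S ≤ 𝐍 (zpowers z) := h.SL.trans h.LN

theorem memW (m : a ∈ Q) (hb : b ∈ S) (n : b ∉ Q) (e : a * b = b * a) : a ∈ WW S Q z :=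
  mem_inf.2 ⟨m, (mem_cm' (h.LN (h.QL m)) h.SN).2 (h.leS hb n (h.Qcm m) ((mem_cm (h.LN (h.QL m))).2 ⟨h.SN hb, by
    rw [commutatorElement_eq_one_iff_mul_comm.2 e]; exact one_mem _⟩))⟩

theorem ZW : zpowers z ≤ WW S Q z := le_inf h.ZQ (le_centMod.2 ⟨le_norm_self _, comm_le_left h.SN⟩)

theorem WW2 (hg : g ∈ 𝐍 (zpowers z)) (m : a ∈ WW S Q z) (m' : a ∈ cj g (WW S Q z)) (n : a ∉ zpowers z) :
    g ∈ 𝐍 S := by
  rw [cj_inf, cj_centMod, cj_of_norm hg] at m'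
  have aN := h.LN (h.QL m.1)
  have l1 : cj g S ≤ L := cj_le_of_norm (h.nL hg) h.SL
  have c1 := (mem_cm' aN h.SN).1 m.2
  have c2 := (mem_cm' aN (l1.trans h.LN)).1 m'.2
  obtain ⟨s, hs, n'⟩ := h.exS
  refine mem_norm_of_cj_le fun b hb => ?_
  rcases h.gen (U := L ⊓ centMod (zpowers a) (zpowers z)) (le_inf h.QL (h.Qcm m.1)) inf_le_left ⟨h.SL hs, c1 hs⟩
    ⟨l1 hb, c2 hb⟩ (h.syl.pi.elt hs) ((h.syl.pi.cj g).elt hb) n' with e | e | e | e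
  exacts [absurd (h.UZ m.1 e.2) n, h.QS e, (mul_mem_cancel_right (inv_mem hs)).1 (h.QS e),
    (mul_mem_cancel_right hs).1 (h.QS e)]

theorem exL : ∃ g ∈ L, g ∉ 𝐍 S := by
  obtain ⟨σ, e⟩ := p5o (σ := finRotate 5) (by decide)
  obtain ⟨g, hg, rfl⟩ := h.lo σ
  obtain ⟨s, hs, n⟩ := h.exS
  have s3 := h.l3 (h.SL hs) (h.syl.pi.elt hs)
  have s1 : mu l s ≠ 1 := fun e => n ((h.lk s (h.SL hs)).1 (eq5 (e.trans (map_one _).symm) s3 (one_pow _)))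
  have c := c5 (mu l s) (by rw [mu, ← map_pow, s3, map_one]) s1
  have k : ∀ {a}, a ∈ Q → mu l a = 1 := fun m => by rw [mu, h.lQ m, map_one]
  have m := h.lm.mu
  refine ⟨g, hg, fun q => ?_⟩
  have hb := conj_mem_of_norm q hs
  rw [← e, ← mu, ← m.conj hg (h.SL hs)] at c
  rcases h.memS hs n hb with r | r | r
  · exact n (by simpa [mul_assoc] using conj_mem_of_norm' (h.LQ hg) r)
  · exact c.1 (mul_inv_eq_one.1 (m.div (h.SL hb) (h.SL hs) ▸ k r))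
  · exact c.2 (eq_inv_of_mul_eq_one_left (m _ (h.SL hb) _ (h.SL hs) ▸ k r))

theorem cW : ♯(WW S Q z) ≤ 27 := by
  obtain ⟨g, hg, n⟩ := h.exL
  have l1 : cj g (WW S Q z) ≤ Q := cj_le_of_norm (h.LQ hg) inf_le_left
  have c := card_sup_mul_card_inf (H := WW S Q z) (K := cj g (WW S Q z)) (.inl (inf_le_left.trans
    (norm_of_der_le l1 (h.der.trans (cj_of_norm (h.LN hg) ▸ cj_mono g h.ZW)))))
  have c1 := card_le (sup_le inf_le_left l1 : WW S Q z ⊔ _ ≤ Q)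
  have c2 := card_le (show WW S Q z ⊓ cj g (WW S Q z) ≤ zpowers z from fun a m =>
    by_contra fun k => n (h.WW2 (h.LN hg) m.1 m.2 k))
  rw [card_cj] at c
  rw [h.cQ] at c1
  rw [h.cZ] at c2
  have := Nat.mul_le_mul c1 c2
  rw [c] at this
  by_contra! k
  have := Nat.mul_le_mul k k
  omega

theorem cC (h1 : zpowers z ≤ U) (h2 : U ≤ Q) : ♯U * ♯(Q ⊓ 𝐂 U) = 729 :=
  haveI := Fact.mk p3
  (Even.card_mul_card_centralizer h.ex (inf_le_right.trans (h.cQZ.le.trans h1)) h2).trans (by rw [h.cQ])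

theorem abQ (e : Abel A) (h2 : A ≤ Q) : ♯A ≤ 27 := by
  have l1 := sup_le h2 h.ZQ
  have c := h.cC le_sup_right l1
  have c1 := card_le (le_inf l1 (e.sup (abel_zpowers z) (cent_symm (zpowers_le.2 (cent_anti h2 h.zC)))))
  have c2 := card_le (le_sup_left : A ≤ A ⊔ zpowers z)
  by_contra! k
  have := Nat.mul_le_mul (k.trans_le c2) ((k.trans_le c2).trans_le c1)
  omega

theorem cinf (hA : A ≤ S) : ♯A ≤ 3 * ♯(A ⊓ Q) := by
  have c := card_sup_mul_card_inf (H := A) (K := Q) (.inl (hA.trans (h.SL.trans h.LQ)))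
  have c1 := card_le (sup_le hA h.QS)
  rw [h.cS] at c1
  rw [h.cQ] at c
  have := Nat.mul_le_mul_right (♯(A ⊓ Q)) c1
  omega

theorem abW (e : Abel A) (hA : A ≤ S) (c : ♯A = 81) : A ⊓ Q = WW S Q z ∧ ♯(WW S Q z) = 27 := by
  obtain ⟨b, hb, n⟩ : ∃ b ∈ A, b ∉ Q := by
    by_contra! k
    have := h.abQ e k
    omega
  have l1 : A ⊓ Q ≤ WW S Q z := fun a m => h.memW m.2 (hA hb) n (e.mul_comm m.1 hb)
  have := h.cinf hA
  have := h.cW
  have := card_le l1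
  exact ⟨eq_of_card_le l1 (by omega), by omega⟩

theorem JQ : J ⊓ Q = WW S Q z := (h.abW h.ab h.JS h.cJ).1
theorem cR : ♯(J ⊓ Q) = 27 := h.JQ ▸ (h.abW h.ab h.JS h.cJ).2
theorem zJ : z ∈ J := (h.JQ.ge (h.ZW (mem_zpowers z))).1
theorem ZJ : zpowers z ≤ J := zpowers_le.2 h.zJ

theorem cCR : Q ⊓ 𝐂 (J ⊓ Q) = J ⊓ Q := by
  have c := h.cC (le_inf h.ZJ h.ZQ) inf_le_right
  rw [h.cR] at c
  exact (eq_of_card_eq (le_inf inf_le_right (h.ab.mono inf_le_left)) (by rw [h.cR]; omega)).symm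

theorem SC : S ⊓ 𝐂 (J ⊓ Q) = J := by
  have c := h.cinf (inf_le_left : S ⊓ 𝐂 (J ⊓ Q) ≤ S)
  rw [inf_right_comm, inf_eq_right.2 h.QS, h.cCR, h.cR] at c
  exact (eq_of_card_le (le_inf h.JS (h.ab.cent le_rfl inf_le_left)) (by rw [h.cJ]; omega)).symm

theorem uniq (e : Abel A) (hA : A ≤ S) (c : ♯A = 81) : A = J :=
  eq_of_card_eq (h.SC ▸ le_inf hA (by rw [h.JQ, ← (h.abW e hA c).1]; exact e.cent le_rfl inf_le_left))
    (c.trans h.cJ.symm)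

theorem NS : 𝐍 S ≤ 𝐍 J := fun g hg => cj_eq_self.1
  (h.uniq (abel_cj.2 h.ab) (cj_le_of_norm hg h.JS) ((card_cj g J).trans h.cJ))

theorem SJ : S ≤ 𝐍 J := (le_norm_self S).trans h.NS
theorem sylJ : Syl 3 S (𝐍 J) := h.syl.of_le h.SJ le_top

theorem NSZ : 𝐍 S ≤ 𝐍 (zpowers z) := by
  have : 𝐙 S = zpowers z := le_antisymm (inf_le_right.trans (h.cQZ ▸ cent_anti h.QS))
    (le_inf (h.ZQ.trans h.QS) (cent_symm (by rw [cent_zpowers]; exact h.SL.trans h.Lz)))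
  exact this ▸ norm_center S

/-- weak closure -/
theorem wc (e : cj g J ≤ 𝐍 J) : g ∈ 𝐍 J := by
  obtain ⟨k, hk, q⟩ := h.sylJ.syl_cj_le e (h.pJ.cj g)
  rw [cj_cj] at q
  exact (mul_mem_cancel_left hk).1 (cj_eq_self.1 (h.uniq (abel_cj.2 h.ab) q ((card_cj _ J).trans h.cJ)))

theorem cJ' : 𝐂 J ≤ J := by
  have p : PiGrp {3} (𝐂 J) := piGrp_of_forall_elt fun x hx => by
    obtain ⟨y, w, -, hw, py, pw, e⟩ := exists_piPart {3} x
    have m : zpowers w ≤ 𝐂 J := zpowers_le.2 (zpowers_le.2 hx hw)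
    have n := m.trans ((cent_le_cent1 h.zJ).trans ((cent1_le_norm_zp z).trans h.nQ))
    have := cent_of_self_cent n (norm_of_der_le inf_le_right (h.der.trans (le_inf h.ZJ h.ZQ)))
      (pw.zpowers.coprime' (h.pQ.le inf_le_right)) (m.trans (cent_anti inf_le_left)) h.cCR.le
    obtain rfl := (h.pQ.elt (h.cc (this (mem_zpowers w)))).eq_one pw
    rwa [← e, mul_one]
  exact (le_inf (h.sylJ.le_of_normal ⟨cent_le_norm J, norm_le_norm_cent J⟩ p) (cent_anti inf_le_left)).trans h.SC.le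

theorem F1 (ha : a ∈ J) (n : a ∉ zpowers z) : 𝐂₁ z ⊓ 𝐂₁ a ≤ 𝐍 J := fun g m => h.NS (by
  have hg := cent1_le_norm_zp z m.1
  have e : g * a * g⁻¹ = a := conj_eq_of_comm (mem_cent1.1 m.2)
  by_cases q : a ∈ Q
  · have w := h.JQ.le ⟨ha, q⟩
    exact h.WW2 hg w (e ▸ conj_mem_cj.2 w) n
  · have : Q ⊔ zpowers a = S := le_antisymm (sup_le h.QS (zpowers_le.2 (h.JS ha)))
      (h.leS (h.JS ha) q le_sup_left (mem_sup_right (mem_zpowers a)))
    exact this ▸ zpowers_le.1 (norm_sup (zp_le_norm (h.nQ hg)) (zp_le_norm (cent1_le_norm_zp a m.2))))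

theorem LJ : ¬ L ≤ 𝐍 J := fun k => by
  rcases h.irr (le_inf h.ZJ h.ZQ) inf_le_right (norm_inf k h.LQ) with e | e
  · have := h.cR; rw [e, h.cZ] at this; omega
  · have := h.cR; rw [e, h.cQ] at this; omega

theorem tN : t ∈ 𝐍 J := h.NS (mem_norm_of_cj_le fun _ ⟨s, hs, e⟩ => e ▸ h.memq
  (conj_mem_of_norm (le_norm_self L h.tL) (h.SL hs)) hs h.QS (h.SL hs) (by
    rw [MulEquiv.coe_toMonoidHom, MulAut.conj_apply, h.lm.conj h.tL (h.SL hs), h.lt]; simp))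

theorem F1' (hg : g ∈ 𝐍 J) (ha : a ∈ J) (n : a ∉ zpowers (g * z * g⁻¹)) : 𝐂₁ (g * z * g⁻¹) ⊓ 𝐂₁ a ≤ 𝐍 J := by
  have := cj_le_of_mem hg (h.F1 (conj_mem_of_norm' hg ha) fun m => n (cj_zpowers g z ▸ mem_cj.2 m))
  rwa [cj_inf, cj_cent1, cj_cent1, ← mul_assoc, ← mul_assoc, mul_inv_cancel, one_mul, mul_inv_cancel_right] at this

theorem inv3 (p : PiGrp {3}ᶜ A) (n : J ≤ 𝐍 A) (e : A ≤ 𝐍 J) : A = ⊥ :=
  (h.pJ.le ((cent_symm (h.pJ.cent_of_norm p n e)).trans h.cJ')).eq_bot p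

/-- the centralizer of `t` in `L` covers `L / Q` -/
theorem lot (σ : SL5) : ∃ a ∈ L, a * t = t * a ∧ l a = σ := by
  obtain ⟨a, m, rfl⟩ := h.lo σ
  obtain ⟨k, q, e⟩ := adj h.eQ h.tt (h.tc m)
  exact ⟨k * a, mul_mem (h.QL q) m, e, by rw [h.lm _ (h.QL q) _ m, h.lQ q, one_mul]⟩

end H1

end CF.XT.Mc
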