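import Cfsg.Agent.XT.Mc1

/-! The 3-local characterization of McL: coordinates on the elementary abelian group of order 81. -/

set_option autoImplicit false
set_option maxRecDepth 100000
set_option synthInstance.maxSize 100000
set_option linter.unusedSectionVars false
set_option linter.unusedVariables false

namespace CF.XT.Mc

open Subgroup Cfsg CF.BG CF.GW CF.Char CF.Char.T3

abbrev V := ZMod 3 × ZMod 3 × ZMod 3 × ZMod 3
abbrev Mt := V × V × V × V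

instance instDecV : DecidableEq V := inferInstance
instance instDecMt : DecidableEq Mt := inferInstance
instance (priority := 10000) decBAll (p : Mt → Prop) [DecidablePred p] (l : List Mt) : Decidable (∀ a ∈ l, p a) :=
  List.decidableBAll p l
instance (priority := 10000) decBEx (p : Mt → Prop) [DecidablePred p] (l : List Mt) : Decidable (∃ a ∈ l, p a) :=
  List.decidableBEx p l

def e0 : V := (1, 0, 0, 0)
def e1 : V := (0, 1, 0, 0)
def e2 : V := (0, 0, 1, 0)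
def e3 : V := (0, 0, 0, 1)
def act (m : Mt) (u : V) : V := u.1 • m.1 + u.2.1 • m.2.1 + u.2.2.1 • m.2.2.1 + u.2.2.2 • m.2.2.2
def cmp (m n : Mt) : Mt := (act m n.1, act m n.2.1, act m n.2.2.1, act m n.2.2.2)
def nv (n : ℕ) : V := (n, (n / 3 : ℕ), (n / 9 : ℕ), (n / 27 : ℕ))
def mx (a b c d : ℕ) : Mt := (nv a, nv b, nv c, nv d)
def mI : Mt := (e0, e1, e2, e3)
def mX : Mt := (e0, e2, e3, e1)
def mX' : Mt := (e0, e3, e1, e2)
def m1 : Mt := (e0, e1, -e2, -e3)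
def m2 : Mt := (e0, -e1, e2, -e3)
def m3 : Mt := (e0, -e1, -e2, e3)
def mT : Mt := (-e0, e1, e3, e2)
def mR : Mt := mx 36 3 47 46
def mR' : Mt := mx 72 3 46 47
def mD : Mt := (-e0, e1, e2, e3)
def mN : Mt := (-e0, -e1, -e2, -e3)
def mU : Mt := (e0, e1, e3, -e2)
def mU' : Mt := (e0, e1, -e3, e2)
def z0 : V := e0 + e1
def z1 : V := e0 - e1
abbrev Sg (u : V) : Prop := u ≠ 0 ∧ 2 * u.1 * u.1 + u.2.1 * u.2.1 + u.2.2.1 * u.2.2.1 + u.2.2.2 * u.2.2.2 = 0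
abbrev Pr (m : Mt) : Prop := ∀ u, Sg u → Sg (act m u)
abbrev pm (u v : V) : Prop := u = v ∨ u = -v
def gen : Fin 3 → Mt := ![mX, m1, mR]
def wd (w : List (Fin 3)) : Mt := w.foldr (fun a m => cmp (gen a) m) mI

theorem act_cmp (m n : Mt) (u : V) : act (cmp m n) u = act m (act n u) := by
  ext <;> simp [act, cmp] <;> ring
theorem act_add (m : Mt) (u v : V) : act m (u + v) = act m u + act m v := by
  ext <;> simp [act] <;> ring
theorem act_neg (m : Mt) (u : V) : act m (-u) = -act m u := by ext <;> simp [act] <;> ring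
theorem act_sub (m : Mt) (u v : V) : act m (u - v) = act m u - act m v := by
  rw [sub_eq_add_neg, act_add, act_neg, sub_eq_add_neg]
theorem act_smul (m : Mt) (c : ZMod 3) (u : V) : act m (c • u) = c • act m u := by ext <;> simp [act] <;> ring
theorem a0 (m : Mt) : act m e0 = m.1 := by simp [act, e0]
theorem a1 (m : Mt) : act m e1 = m.2.1 := by simp [act, e1]
theorem a2 (m : Mt) : act m e2 = m.2.2.1 := by simp [act, e2]
theorem a3 (m : Mt) : act m e3 = m.2.2.2 := by simp [act, e3]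
theorem aI (u : V) : act mI u = u := by simp [act, mI, e0, e1, e2, e3]
theorem mt_ext {m n : Mt} (h : ∀ u, act m u = act n u) : m = n :=
  Prod.ext (a0 m ▸ a0 n ▸ h e0) (Prod.ext (a1 m ▸ a1 n ▸ h e1) (Prod.ext (a2 m ▸ a2 n ▸ h e2) (a3 m ▸ a3 n ▸ h e3)))
theorem Pr.cmp {m n : Mt} (h : Pr m) (k : Pr n) : Pr (cmp m n) := fun u s => act_cmp m n u ▸ h _ (k u s)

theorem sg_neg : ∀ u, Sg u → Sg (-u) := by decide +kernel
theorem pr_gen : ∀ a, Pr (gen a) := by decide +kernel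

def tm (a b : ZMod 3) : Mt := (a • e0, b • e1, b • e3, b • e2)
abbrev sq (m : Mt) : Mt := cmp m m
abbrev cb (m : Mt) : Mt := cmp m (cmp m m)

theorem idT : ∀ t0, t0 = act m1 t0 → t0 = act m3 t0 → ∀ t1, t1 = act m1 t1 → -t1 = act m3 t1 →
    ∃ a b, (t0, t1, act mX' t1, act mX' (act mX' t1)) = tm a b := by decide +kernel

theorem idR : ∀ a b, ∀ r0, r0 = act (tm a b) r0 → a • r0 = act (cmp m1 (tm a b)) r0 →
    ∀ r1, r1 = act (tm a b) r1 → b • r1 = act (cmp m1 (tm a b)) r1 → ∀ r2, -r2 = act (tm a b) r2 →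
    ∀ r3, b • r3 = act (cmp m1 (tm a b)) r2 → -r3 = act (tm a b) r3 → cb (r0, r1, r2, r3) = mI →
    sq (cmp m2 (r0, r1, r2, r3)) = mI → cmp (sq (cmp mX (r0, r1, r2, r3))) (cb (cmp mX (r0, r1, r2, r3))) = mI →
    (r0, r1, r2, r3) = mR ∨ (r0, r1, r2, r3) = mR' := by decide +kernel

def W20 : List (List (Fin 3)) := [[], [0, 1, 2, 0], [0, 1, 0, 0], [0, 2, 0], [0], [1, 2, 1, 0, 0], [1, 0], [2, 1, 0, 0],
  [0, 0], [1, 2, 0], [2], [0, 2, 2], [2, 1, 2], [0, 0, 1, 2], [1, 0, 0], [2, 0], [2, 2], [0, 1, 2], [1, 2], [2, 0, 2, 0]]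
def W9 : List (List (Fin 3)) := [[], [0, 1, 0, 2, 1, 0], [0, 0, 1, 2, 1, 0], [0, 2, 2, 1, 0, 0], [0, 1, 2, 0, 0],
  [2, 2, 0, 0, 2], [2, 2, 0, 2], [2, 0, 2, 1, 2], [1, 2, 0, 2, 1, 2]]
def mB : Mt := wd [2, 1, 2, 0, 2, 1]
def Lf : List Mt := [mx 3 1 36 63, mx 3 1 45 36, mx 3 1 63 72, mx 3 1 72 45]
def L16 : List Mt := [mI, m1, mU, mU', mx 2 6 9 27, mN, mx 2 6 27 18, mx 2 6 54 9, mx 3 1 36 63, mx 3 1 45 36,
  mx 3 1 63 72, mx 3 1 72 45, mx 6 2 36 63, mx 6 2 45 36, mx 6 2 63 72, mx 6 2 72 45]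
def L32 : List Mt := L16 ++ L16.map (cmp (e0, e1, e3, e2))

theorem w20 : ∀ u, Sg u → ∃ w ∈ W20, act (wd w) z0 = u := by decide +kernel
theorem w9 : ∀ u, Sg u → ¬ pm u z0 → ∃ w ∈ W9, act (wd w) z0 = z0 ∧ pm (act (wd w) z1) u := by decide +kernel
theorem fixB : ∀ u, u ≠ 0 → act mX u = u → act mB u = u → Sg u := by decide +kernel
theorem four : ∀ u, Sg u → ¬ pm u z0 → ¬ pm u z1 → ∃ a b c : ZMod 3, Sg (a • z0 + b • z1 + c • u) ∧
    (Sg (a • z0 + b • u + c • z1) → ¬ pm (a • z0 + b • z1 + c • u) z0 ∧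
      pm (a • z0 + b • u + c • z1) (a • z0 + b • z1 + c • u)) := by decide +kernel
theorem l32 : ∀ c0 c1, pm (c0 + c1) z0 → pm (c0 - c1) z1 → ∀ c2, Sg (c0 + c2) → Sg (c0 - c2) →
    ∀ c3, Sg (c0 + c3) → Sg (c0 - c3) → Pr (c0, c1, c2, c3) → (c0, c1, c2, c3) ∈ L32 := by decide +kernel
theorem hyp : ∀ k : V, ∃ a : V, Sg (a.1 • (e0 - k.1 • z0) + a.2.1 • (e1 - k.2.1 • z0) + a.2.2.1 • (e2 - k.2.2.1 • z0) +
    a.2.2.2 • (e3 - k.2.2.2 • z0)) := by decide +kernel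

end CF.XT.Mc
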