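import Cfsg.Agent.XT.Mc2
import Cfsg.Agent.Perm.SymAut

/-! The 3-local characterization of McL: the `A₆`-module of order 81. -/

set_option autoImplicit false
set_option maxRecDepth 100000
set_option synthInstance.maxSize 100000
set_option linter.unusedSectionVars false
set_option linter.unusedVariables false

namespace CF.XT.Mc

open Subgroup Cfsg CF.BG CF.GW CF.Char CF.Char.T3

universe u

theorem eig {A : Type u} [AddCommGroup A] [Module (ZMod 3) A] [Finite A] (c : Nat.card A = 81)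
    (α β ξ : A →ₗ[ZMod 3] A) (αα : ∀ a, α (α a) = a) (ββ : ∀ a, β (β a) = a) (αβ : ∀ a, α (β a) = β (α a))
    (ξ3 : ∀ a, ξ (ξ (ξ a)) = a) (r1 : ∀ a, ξ (α a) = β (ξ a)) (r2 : ∀ a, ξ (β a) = α (β (ξ a))) (n : ∃ a, β a ≠ a) :
    ∃ φ : V → A, (∀ u v, φ (u + v) = φ u + φ v) ∧ Function.Bijective φ ∧ (∀ u, α (φ u) = φ (act m1 u)) ∧
      (∀ u, β (φ u) = φ (act m2 u)) ∧ ∀ u, ξ (φ u) = φ (act mX u) := by
  have s12 : ∀ {a}, α a = a → β a = -a → α (ξ a) = -ξ a ∧ β (ξ a) = ξ a := fun {a} p q => by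
    have e := (r1 a).symm
    rw [p] at e
    exact ⟨by rw [← map_neg, ← q, r2, e], e⟩
  have s23 : ∀ {a}, α a = -a → β a = a → α (ξ a) = -ξ a ∧ β (ξ a) = -ξ a := fun {a} p q => by
    have e := (r1 a).symm
    have e' := r2 a
    rw [p, map_neg] at e
    rw [q, e, map_neg] at e'
    exact ⟨neg_eq_iff_eq_neg.1 e'.symm, e⟩
  have s31 : ∀ {a}, α a = -a → β a = -a → α (ξ a) = ξ a ∧ β (ξ a) = -ξ a := fun {a} p q => by
    have e := (r1 a).symm
    have e' := r2 a
    rw [p, map_neg] at e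
    rw [q, e, map_neg, map_neg] at e'
    exact ⟨(neg_injective e').symm, e⟩
  have ξ0 : ∀ {a}, ξ a = 0 → a = 0 := fun {a} e => by rw [← ξ3 a, e, map_zero, map_zero]
  obtain ⟨w, w0, p1, q1⟩ : ∃ w, w ≠ 0 ∧ α w = w ∧ β w = -w := by
    obtain ⟨a, ha⟩ := n
    have hb : β (a - β a) = -(a - β a) := by rw [map_sub, ββ, neg_sub]
    have b0 : a - β a ≠ 0 := sub_ne_zero.2 ha.symm
    generalize a - β a = b at hb b0
    by_cases e : α b = b
    · exact ⟨b, b0, e, hb⟩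
    · exact ⟨ξ (b - α b), fun q => e (sub_eq_zero.1 (ξ0 q)).symm, s31 (by rw [map_sub, αα, neg_sub])
        (by rw [map_sub, ← αβ, hb, map_neg, neg_sub, neg_sub_neg])⟩
  obtain ⟨p2, q2⟩ := s12 p1 q1
  obtain ⟨p3, q3⟩ := s23 p2 q2
  let W := Submodule.span (ZMod 3) {w, ξ w, ξ (ξ w)}
  have m1W : w ∈ W := Submodule.subset_span (by simp)
  have m2W : ξ w ∈ W := Submodule.subset_span (by simp)
  have m3W : ξ (ξ w) ∈ W := Submodule.subset_span (by simp)
  have ξW : ∀ {a}, a ∈ W → ξ a ∈ W := fun m => (Submodule.span_le.2 (by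
    rintro _ (rfl | rfl | rfl)
    exacts [m2W, m3W, show ξ (ξ (ξ w)) ∈ W by rwa [ξ3]]) : W ≤ W.comap ξ) m
  have ξW' : ∀ {a}, ξ a ∈ W → a ∈ W := fun {a} m => ξ3 a ▸ ξW (ξW m)
  let ph : A → V → A := fun y u => u.1 • y + u.2.1 • w + u.2.2.1 • ξ w + u.2.2.2 • ξ (ξ w)
  have add : ∀ y u v, ph y (u + v) = ph y u + ph y v := fun y u v => by
    simp only [ph, Prod.fst_add, Prod.snd_add]; module
  have phW : ∀ y u, u.1 = 0 → ph y u ∈ W := fun y u e => by
    simp only [ph, e, zero_smul, zero_add]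
    exact add_mem (add_mem (W.smul_mem _ m1W) (W.smul_mem _ m2W)) (W.smul_mem _ m3W)
  have aα : ∀ y, α y = y → ∀ u, α (ph y u) = ph y (act m1 u) := fun y e u => by
    simp [ph, act, m1, e0, e1, e2, e3, e, p1, p2, p3]
  have bij : ∀ y, y ∉ W → Function.Bijective (ph y) := fun y hy => by
    refine (Nat.bijective_iff_injective_and_card _).2 ⟨(injective_iff_map_eq_zero (AddMonoidHom.mk' _ (add y))).2
      fun ⟨a, b, c, d⟩ e => ?_, by rw [c]; simp⟩
    have k : ∀ {v : A} {i : ZMod 3}, v ≠ 0 → i • v + i • v = 0 → i = 0 := fun {v i} v0 e => by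
      rw [← add_smul] at e
      exact (by decide : ∀ i : ZMod 3, i + i = 0 → i = 0) i ((smul_eq_zero.1 e).resolve_right v0)
    have a0 : a = 0 := by_contra fun a0 => hy ((W.smul_mem_iff a0).1 (by
      have : a • y = -ph y (0, b, c, d) := by
        rw [← add_eq_zero_iff_eq_neg, ← e]; simp only [ph, AddMonoidHom.mk'_apply]; module
      exact this ▸ neg_mem (phW y _ rfl)))
    simp only [ph, AddMonoidHom.mk'_apply, a0, zero_smul, zero_add] at e
    have e1 := congrArg α e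
    have e2 := congrArg β e
    simp only [map_add, map_smul, p1, p2, p3, q1, q2, q3, map_zero] at e1 e2
    have b0 : b = 0 := k w0 (by linear_combination (norm := module) e + e1)
    have c0 : c = 0 := k (fun q => w0 (ξ0 q)) (by linear_combination (norm := module) e + e2)
    have d0 : d = 0 := k (fun q => w0 (ξ0 (ξ0 q))) (by
      rw [b0, c0] at e; simp only [zero_smul, zero_add] at e; rw [e, add_zero])
    rw [a0, b0, c0, d0]; rfl
  have no : ∀ y, α y = y → β y = -y → y ∈ W := fun y p q => by_contra fun hy => by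
    obtain ⟨v, e⟩ := (bij y hy).2 (ξ y)
    have := (s12 p q).1
    rw [← e, aα y p, ← show ph y (-v) = -ph y v from (AddMonoidHom.mk' _ (add y)).map_neg v] at this
    exact hy (ξW' (e ▸ phW y v ((by decide +kernel : ∀ v, act m1 v = -v → v.1 = 0) v ((bij y hy).1 this))))
  obtain ⟨a, ha⟩ : ∃ a, a ∉ W := by
    by_contra! k
    have := Nat.card_le_card_of_surjective (fun u : V3 => u.1 • w + u.2.1 • ξ w + u.2.2 • ξ (ξ w)) fun a => by
      obtain ⟨i, j, k, e⟩ := Submodule.mem_span_triple.1 (k a)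
      exact ⟨(i, j, k), e⟩
    rw [c] at this
    simp at this
  have h1 := no (a + α a - β a - α (β a)) (by simp only [map_add, map_sub, αα]; abel)
    (by simp only [map_add, map_sub, ← αβ, ββ]; abel)
  have h2 : a - α a + β a - α (β a) ∈ W := by
    have p : α (a - α a + β a - α (β a)) = -(a - α a + β a - α (β a)) := by simp only [map_add, map_sub, αα]; abel
    have q : β (a - α a + β a - α (β a)) = a - α a + β a - α (β a) := by
      simp only [map_add, map_sub, ← αβ, ββ]; abel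
    exact ξW' (ξW' (no _ (s31 (s23 p q).1 (s23 p q).2).1 (s31 (s23 p q).1 (s23 p q).2).2))
  have h3 : a - α a - β a + α (β a) ∈ W := by
    have p : α (a - α a - β a + α (β a)) = -(a - α a - β a + α (β a)) := by simp only [map_add, map_sub, αα]; abel
    have q : β (a - α a - β a + α (β a)) = -(a - α a - β a + α (β a)) := by
      simp only [map_add, map_sub, ← αβ, ββ]; abel
    exact ξW' (no _ (s31 p q).1 (s31 p q).2)
  have hy : a + α a + β a + α (β a) ∉ W := fun m => ha (by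
    have := add_mem (add_mem (add_mem m h1) h2) h3
    rw [← one_smul (ZMod 3) a, ← (by decide : (4 : ZMod 3) = 1)]
    convert this using 1
    module)
  have p : α (a + α a + β a + α (β a)) = a + α a + β a + α (β a) := by simp only [map_add, αα]; abel
  have q : β (a + α a + β a + α (β a)) = a + α a + β a + α (β a) := by simp only [map_add, ← αβ, ββ]; abel
  generalize a + α a + β a + α (β a) = y at hy p q
  have aβ : ∀ u, β (ph y u) = ph y (act m2 u) := fun u => by simp [ph, act, m2, e0, e1, e2, e3, q, q1, q2, q3]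
  have e : ξ y = y := by
    obtain ⟨v, e⟩ := (bij y hy).2 (ξ y)
    have f1 : β (ξ y) = ξ y := by rw [← r1, p]
    have f2 : α (ξ y) = ξ y := by rw [← f1, ← r2, q, f1]
    rw [← e, aβ] at f1
    rw [← e, aα y p] at f2
    obtain ⟨k, rfl⟩ := (by decide +kernel : ∀ v, act m1 v = v → act m2 v = v → ∃ k : ZMod 3, v = k • e0) v
      ((bij y hy).1 f2) ((bij y hy).1 f1)
    have e' : ξ y = k • y := by rw [← e]; simp [ph, e0]
    have := ξ3 y
    rw [e', map_smul, map_smul, e', map_smul, e', smul_smul, smul_smul,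
      (by decide : ∀ k : ZMod 3, k * k * k = k)] at this
    rw [e', this]
  exact ⟨ph y, add y, bij y hy, aα y p, aβ, fun u => by
    simp [ph, act, mX, e0, e1, e2, e3, e, ξ3]; abel⟩

variable {G : Type u} [Group G] [Finite G] {J M : Subgroup G} {φ : V → G} {g k : G} {m n d : Mt} {u v : V}

/-- `g` acts as the matrix `m` -/
def Ac (φ : V → G) (g : G) (m : Mt) : Prop := ∀ u, g * φ u * g⁻¹ = φ (act m u)

def Rz (φ : V → G) (m : Mt) : Prop := ∃ g, Ac φ g m

theorem Ac.mul (h : Ac φ g m) (h' : Ac φ k n) : Ac φ (g * k) (cmp m n) := fun u => by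
  rw [act_cmp, ← h, ← h']; group
theorem ac_one : Ac φ 1 mI := fun u => by simp [aI]
theorem Ac.cast (h : Ac φ g m) (e : m = n) : Ac φ g n := e ▸ h
theorem Ac.fix (h : Ac φ g m) (e : act m u = u) : g ∈ 𝐂₁ (φ u) :=
  mem_cent1.2 (mul_inv_eq_iff_eq_mul.1 ((h u).trans (congrArg φ e)))
theorem Ac.cj (h : Ac φ g m) (k : G) : Ac (fun u => k * φ u * k⁻¹) (k * g * k⁻¹) m := fun u => by
  simp only [← h u]; group
theorem Ac.chg (h : Ac φ g m) (e : cmp m d = cmp d n) : Ac (fun u => φ (act d u)) g n := fun u => by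
  beta_reduce; rw [h, ← act_cmp, ← act_cmp, e]
theorem Rz.mul (h : Rz φ m) (h' : Rz φ n) : Rz φ (cmp m n) := let ⟨_, a⟩ := h; let ⟨_, b⟩ := h'; ⟨_, a.mul b⟩
theorem Rz.cast (h : Rz φ m) (e : m = n) : Rz φ n := e ▸ h

section
variable (h : Bas J φ)
include h

theorem bi : φ u = φ v ↔ u = v := h.inj.eq_iff
theorem b1 : φ u = 1 ↔ u = 0 := by rw [← h.zero, bi h]
theorem bsub (u v : V) : φ (u - v) = φ u * (φ v)⁻¹ := by rw [sub_eq_add_neg, h.add, h.neg]
theorem bsm {U : Subgroup G} (e : φ u ∈ U) (c : ZMod 3) : φ (c • u) ∈ U := by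
  rcases (by decide : ∀ c : ZMod 3, c = 0 ∨ c = 1 ∨ c = -1) c with rfl | rfl | rfl
  · simp [h.zero]
  · simpa using e
  · rw [neg_one_smul, h.neg]; exact inv_mem e
theorem bzp (e : φ u ∈ zpowers (φ v)) : u = 0 ∨ pm u v := by
  have k : ∀ n : ℤ, φ v ^ n = φ (n • v) := fun n =>
    (map_zsmul (AddMonoidHom.mk' (M := V) (G := Additive G) (fun u => .ofMul (φ u)) h.add) n v).symm
  obtain ⟨n, e⟩ := mem_zpowers_iff.1 e
  rw [k, bi h, ← Int.cast_smul_eq_zsmul (ZMod 3)] at e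
  rcases (by decide : ∀ c : ZMod 3, c = 0 ∨ c = 1 ∨ c = -1) n with q | q | q <;> simp [← e, q, pm]
theorem ac4 (h0 : g * φ e0 * g⁻¹ = φ m.1) (h1 : g * φ e1 * g⁻¹ = φ m.2.1) (h2 : g * φ e2 * g⁻¹ = φ m.2.2.1)
    (h3 : g * φ e3 * g⁻¹ = φ m.2.2.2) : Ac φ g m := fun u => by
  conv_lhs => rw [← aI u]
  rw [act, act, h.add, h.add, h.add, h.add, h.add, h.add, ← h.smul h0, ← h.smul h1, ← h.smul h2, ← h.smul h3]
  simp only [mI]; group
theorem exists_ac (e : g ∈ 𝐍 J) : ∃ m, Ac φ g m := by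
  have k := fun u => (h.mem _).1 (conj_mem_of_norm e (h.mem' u))
  choose f hf using k
  exact ⟨(f e0, f e1, f e2, f e3), ac4 h (hf _).symm (hf _).symm (hf _).symm (hf _).symm⟩
theorem ac_mem (e : g ∈ J) : Ac φ g mI := fun u => by rw [h.comm g e _ (h.mem' u), mul_inv_cancel_right, aI]
theorem Ac.norm (e : Ac φ g m) : g ∈ 𝐍 J := mem_norm_of_cj_le fun _ ⟨a, ha, q⟩ => by
  obtain ⟨u, rfl⟩ := (h.mem a).1 ha
  exact q ▸ (h.mem _).2 ⟨_, (e u).symm⟩
theorem Ac.uniq (e : Ac φ g m) (e' : Ac φ g n) : m = n := mt_ext fun u => h.inj ((e u).symm.trans (e' u))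
theorem Ac.cent (e : Ac φ g mI) : g ∈ 𝐂 J := mem_cent.2 fun a ha => by
  obtain ⟨u, rfl⟩ := (h.mem a).1 ha
  exact (mem_cent1.1 (e.fix (aI u))).symm
theorem Ac.inv (e : Ac φ g m) (q : cmp m n = mI) : Ac φ g⁻¹ n := fun u => by
  conv_lhs => rw [← aI u, ← q, act_cmp, ← e]
  group
theorem Ac.div (e : Ac φ g m) (e' : Ac φ k m) : g * k⁻¹ ∈ 𝐂 J := mem_cent.2 fun a ha => by
  obtain ⟨u, q⟩ := (h.mem _).1 (conj_mem_of_norm' (e'.norm h) ha)
  have := (e u).trans (e' u).symm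
  rw [q] at this
  calc a * (g * k⁻¹) = k * (k⁻¹ * a * k) * k⁻¹ * (g * k⁻¹) := by group
    _ = _ := by rw [← this]; group
theorem Ac.of_fix (e : Ac φ g m) (q : g ∈ 𝐂₁ (φ u)) : act m u = u :=
  h.inj ((e u).symm.trans (conj_eq_of_comm (mem_cent1.1 q)))
theorem Ac.mv (e : Ac φ g m) (q : g * φ u * g⁻¹ = φ v) : act m u = v := h.inj ((e u).symm.trans q)
theorem Ac.inj (e : Ac φ g m) (q : act m u = act m v) : u = v :=
  h.inj ((MulAut.conj g).injective ((e u).trans ((congrArg φ q).trans (e v).symm)))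
theorem bcj (e : k ∈ 𝐍 J) : Bas J fun u => k * φ u * k⁻¹ :=
  cj_of_norm e ▸ h.map (conj_inj k)
theorem bchg (e : cmp d d = mI) : Bas J fun u => φ (act d u) :=
  ⟨fun u v => by rw [act_add, h.add], fun u v q => by
    have := congrArg (act d) (h.inj q); rwa [← act_cmp, ← act_cmp, e, aI, aI] at this, fun g => (h.mem g).trans
    ⟨fun ⟨u, q⟩ => ⟨act d u, by rw [← act_cmp, e, aI, q]⟩, fun ⟨u, q⟩ => ⟨_, q⟩⟩⟩
end

theorem idT' {T : Mt} (q1 : cmp T m1 = cmp m1 T) (q2 : cmp T m2 = cmp m3 T) (q3 : cmp T mX = cmp mX' T) :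
    ∃ a b, T = tm a b := by
  obtain ⟨a, b, e⟩ := idT T.1 ((a0 T).symm.trans (congrArg (·.1) q1)) ((a0 T).symm.trans (congrArg (·.1) q2)) T.2.1
    ((a1 T).symm.trans (congrArg (·.2.1) q1))
    (((act_neg T e1).trans (congrArg _ (a1 T))).symm.trans (congrArg (·.2.1) q2))
  have f2 : T.2.2.1 = act mX' T.2.1 := (a2 T).symm.trans (congrArg (·.2.1) q3)
  have f3 : T.2.2.2 = act mX' T.2.2.1 := (a3 T).symm.trans (congrArg (·.2.2.1) q3)
  rw [← f2, ← f3] at e
  exact ⟨a, b, e⟩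

theorem idR' {R : Mt} {a c : ZMod 3} (s1 : cmp R m1 = cmp (tm a c) R)
    (s2 : cmp R (tm a c) = cmp (cmp m1 (tm a c)) R) (s3 : cb R = mI) (s4 : sq (cmp m2 R) = mI)
    (s5 : cmp (sq (cmp mX R)) (cb (cmp mX R)) = mI) : R = mR ∨ R = mR' :=
  idR a c R.1 ((a0 R).symm.trans (congrArg (·.1) s1))
    (((act_smul R a e0).trans (congrArg _ (a0 R))).symm.trans (congrArg (·.1) s2))
    R.2.1 ((a1 R).symm.trans (congrArg (·.2.1) s1))
    (((act_smul R c e1).trans (congrArg _ (a1 R))).symm.trans (congrArg (·.2.1) s2))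
    R.2.2.1 (((act_neg R e2).trans (congrArg _ (a2 R))).symm.trans (congrArg (·.2.2.1) s1))
    R.2.2.2 (((act_smul R c e3).trans (congrArg _ (a3 R))).symm.trans (congrArg (·.2.2.1) s2))
    (((act_neg R e3).trans (congrArg _ (a3 R))).symm.trans (congrArg (·.2.2.2) s1)) s3 s4 s5

open Equiv Equiv.Perm in
/-- the hypotheses on the normalizer of `J` -/
structure H2 (J M : Subgroup G) (π : G → Perm (Fin 6)) : Prop where
  MN : M ≤ 𝐍 J
  JM : J ≤ M
  nM : 𝐍 J ≤ 𝐍 M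
  mem3 : ∀ g ∈ 𝐍 J, PiElt {3} g → g ∈ M
  πm : Hm M π
  πs : ∀ a ∈ M, sign (π a) = 1
  πo : ∀ σ, sign σ = 1 → ∃ a ∈ M, π a = σ
  πk : ∀ a ∈ M, π a = 1 ↔ a ∈ J

/-- coordinates in which `M` acts by the standard matrices -/
structure Co (J M : Subgroup G) (φ : V → G) : Prop where
  bas : Bas J φ
  om : ∀ a, ∃ g ∈ M, Ac φ g (gen a)
  pr : ∀ g ∈ M, ∃ m, Ac φ g m ∧ Pr m

theorem Co.wd (h : Co J M φ) (w : List (Fin 3)) : ∃ g ∈ M, Ac φ g (wd w) := by
  induction w with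
  | nil => exact ⟨1, one_mem _, ac_one⟩
  | cons a w i =>
    obtain ⟨g, m, e⟩ := h.om a
    obtain ⟨k, m', e'⟩ := i
    exact ⟨_, mul_mem m m', e.mul e'⟩

theorem Co.cj (h : Co J M φ) (e : k ∈ 𝐍 J) (e' : k ∈ 𝐍 M) : Co J M fun u => k * φ u * k⁻¹ :=
  ⟨bcj h.bas e, fun a => let ⟨g, m, q⟩ := h.om a; ⟨_, conj_mem_of_norm e' m, q.cj k⟩, fun g m => by
    obtain ⟨n, q, p⟩ := h.pr _ (conj_mem_of_norm' e' m)
    exact ⟨n, by simpa [mul_assoc] using q.cj k, p⟩⟩

section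
open Equiv Equiv.Perm
def px : Perm (Fin 6) := c[1, 2, 3]
def pv : Perm (Fin 6) := swap 0 1 * swap 2 3
def pw : Perm (Fin 6) := swap 0 2 * swap 1 3
def pt : Perm (Fin 6) := swap 2 3 * swap 4 5
def pr : Perm (Fin 6) := c[0, 2, 4] * c[1, 3, 5]

theorem genA6 {σ : Perm (Fin 6)} (e : sign σ = 1) : σ ∈ closure {px, pv, pr} := by
  have m1 : px ∈ closure {px, pv, pr} := subset_closure (by simp)
  have m2 : pv ∈ closure {px, pv, pr} := subset_closure (by simp)
  have m3 : pr ∈ closure {px, pv, pr} := subset_closure (by simp)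
  let S : Set (Perm (Fin 6)) := {px, pv * px * pv, pr * pv * pr * px * pr * pv}
  have n1 : px ∈ closure S := subset_closure (by simp [S])
  have n2 : pv * px * pv ∈ closure S := subset_closure (by simp [S])
  have n3 : pr * pv * pr * px * pr * pv ∈ closure S := subset_closure (by simp [S])
  have : MulAction.IsPretransitive (closure S) (Fin 6) := (MulAction.isPretransitive_iff_base 0).2 fun i => by
    rcases (by decide : ∀ i : Fin 6, 0 = i ∨ (px * (pv * px * pv)) 0 = i ∨ (pv * px * pv * (pv * px * pv)) 0 = i ∨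
      (pv * px * pv) 0 = i ∨ (pr * pv * pr * px * pr * pv) 0 = i ∨
      (pr * pv * pr * px * pr * pv * (pr * pv * pr * px * pr * pv)) 0 = i) i with e | e | e | e | e | e
    exacts [⟨1, e⟩, ⟨⟨_, mul_mem n1 n2⟩, e⟩, ⟨⟨_, mul_mem n2 n2⟩, e⟩, ⟨⟨_, n2⟩, e⟩, ⟨⟨_, n3⟩, e⟩,
      ⟨⟨_, mul_mem n3 n3⟩, e⟩]
  refine (CF.Perm.alternatingGroup_le_closure_of_small (S := S) ?_).trans ((closure_le _).2 ?_) e
  · rintro _ (rfl | rfl | rfl) <;> decide
  · rintro _ (rfl | rfl | rfl)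
    exacts [m1, mul_mem (mul_mem m2 m1) m2, mul_mem (mul_mem (mul_mem (mul_mem (mul_mem m3 m2) m3) m1) m3) m2]

theorem H2.co {π : G → Perm (Fin 6)} (h : H2 J M π) (ab : Abel J) (eJ : ∀ a ∈ J, a ^ 3 = 1) (cJ : ♯J = 81)
    (cc : 𝐂 J ≤ J) : ∃ φ, Co J M φ := by
  obtain ⟨x, mx, ex⟩ := h.πo px (by decide)
  obtain ⟨v, mv, ev⟩ := h.πo pv (by decide)
  obtain ⟨w, mw, ew⟩ := h.πo pw (by decide)
  obtain ⟨t, mt, et⟩ := h.πo pt (by decide)
  obtain ⟨r, mr, er⟩ := h.πo pr (by decide)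
  have same : ∀ {a b}, a ∈ M → b ∈ M → π a = π b → ∀ j ∈ J, a * j * a⁻¹ = b * j * b⁻¹ := fun {a b} ha hb e j hj => by
    have := ab.mul_comm ((h.πk _ (mul_mem (inv_mem hb) ha)).1 (by
      rw [h.πm _ (inv_mem hb) _ ha, h.πm.inv hb, e, inv_mul_cancel])) hj
    calc a * j * a⁻¹ = b * (b⁻¹ * a * j) * a⁻¹ := by group
      _ = _ := by rw [this]; group
  obtain ⟨φ, b, a1', a2', ax⟩ : ∃ φ, Bas J φ ∧ Ac φ v m1 ∧ Ac φ w m2 ∧ Ac φ x mX := by
    have := ab.comm
    let : CommGroup J := IsMulCommutative.instCommGroup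
    let : Module (ZMod 3) (Additive J) := AddCommGroup.zmodModule fun a => Additive.toMul.injective
      (Subtype.ext (eJ _ a.toMul.2))
    let f : ∀ g ∈ M, Additive J →ₗ[ZMod 3] Additive J := fun g m =>
      (MonoidHom.toAdditive (J.normalizerMonoidHom ⟨g, h.MN m⟩).toMonoidHom).toZModLinearMap 3
    have fe : ∀ g m a, ((f g m a).toMul : G) = g * a.toMul * g⁻¹ := fun _ _ _ => rfl
    have ext : ∀ {a b : Additive J}, (a.toMul : G) = b.toMul → a = b := fun e => Additive.toMul.injective (Subtype.ext e)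
    obtain ⟨φ, p1, p2, p3, p4, p5⟩ := eig (A := Additive J) cJ (f v mv) (f w mw) (f x mx)
      (fun a => ext (by
        simpa [fe, mul_assoc] using same (mul_mem mv mv) (one_mem _) (by
          rw [h.πm _ mv _ mv, ev, h.πm.one]; decide) _ a.toMul.2))
      (fun a => ext (by
        simpa [fe, mul_assoc] using same (mul_mem mw mw) (one_mem _) (by
          rw [h.πm _ mw _ mw, ew, h.πm.one]; decide) _ a.toMul.2))
      (fun a => ext (by
        simpa [fe, mul_assoc] using same (mul_mem mv mw) (mul_mem mw mv) (by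
          rw [h.πm _ mv _ mw, h.πm _ mw _ mv, ev, ew]; decide) _ a.toMul.2))
      (fun a => ext (by
        simpa [fe, mul_assoc] using same (mul_mem mx (mul_mem mx mx)) (one_mem _) (by
          rw [h.πm _ mx _ (mul_mem mx mx), h.πm _ mx _ mx, ex, h.πm.one]; decide) _ a.toMul.2))
      (fun a => ext (by
        simpa [fe, mul_assoc] using same (mul_mem mx mv) (mul_mem mw mx) (by
          rw [h.πm _ mx _ mv, h.πm _ mw _ mx, ev, ew, ex]; decide) _ a.toMul.2))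
      (fun a => ext (by
        simpa [fe, mul_assoc] using same (mul_mem mx mw) (mul_mem mv (mul_mem mw mx)) (by
          rw [h.πm _ mx _ mw, h.πm _ mv _ (mul_mem mw mx), h.πm _ mw _ mx, ev, ew, ex]; decide) _ a.toMul.2))
      (by
        by_contra! k
        have := (h.πk w mw).2 (cc (mem_cent.2 fun a ha =>
          (mul_inv_eq_iff_eq_mul.1 (congrArg (fun a => (a.toMul : G)) (k (.ofMul ⟨a, ha⟩)))).symm))
        exact absurd (ew ▸ this) (by decide))
    exact ⟨fun u => (φ u).toMul, ⟨fun u v => by rw [p1]; rfl, fun u v e => p2.1 (ext e), fun g =>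
      ⟨fun m => (p2.2 (.ofMul ⟨g, m⟩)).imp fun u e => by rw [e]; rfl, fun ⟨u, e⟩ => e ▸ (φ u).toMul.2⟩⟩,
      fun u => congrArg (fun a => (a.toMul : G)) (p3 u), fun u => congrArg (fun a => (a.toMul : G)) (p4 u),
      fun u => congrArg (fun a => (a.toMul : G)) (p5 u)⟩
  have tr : ∀ {a c m n}, a ∈ M → c ∈ M → Ac φ a m → Ac φ c n → π a = π c → m = n := fun ha hc e e' q =>
    mt_ext fun u => b.inj (by rw [← e, ← e', same ha hc q _ (b.mem' u)])
  obtain ⟨T, aT⟩ := exists_ac b (h.MN mt)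
  obtain ⟨R, aR⟩ := exists_ac b (h.MN mr)
  have a3' := (a1'.mul a2').cast (n := m3) (by decide +kernel)
  have ax' := (ax.mul ax).cast (n := mX') (by decide +kernel)
  have q1 := tr (mul_mem mt mv) (mul_mem mv mt) (aT.mul a1') (a1'.mul aT) (by
    rw [h.πm _ mt _ mv, h.πm _ mv _ mt, ev, et]; decide)
  have q2 := tr (mul_mem mt mw) (mul_mem (mul_mem mv mw) mt) (aT.mul a2') (a3'.mul aT) (by
    rw [h.πm _ mt _ mw, h.πm _ (mul_mem mv mw) _ mt, h.πm _ mv _ mw, ev, et, ew]; decide)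
  have q3 := tr (mul_mem mt mx) (mul_mem (mul_mem mx mx) mt) (aT.mul ax) (ax'.mul aT) (by
    rw [h.πm _ mt _ mx, h.πm _ (mul_mem mx mx) _ mt, h.πm _ mx _ mx, ex, et]; decide)
  obtain ⟨a, c, rfl⟩ := idT' q1 q2 q3
  have s1 := tr (mul_mem mr mv) (mul_mem mt mr) (aR.mul a1') (aT.mul aR) (by
    rw [h.πm _ mr _ mv, h.πm _ mt _ mr, ev, et, er]; decide)
  have s2 := tr (mul_mem mr mt) (mul_mem (mul_mem mv mt) mr) (aR.mul aT) ((a1'.mul aT).mul aR) (by
    rw [h.πm _ mr _ mt, h.πm _ (mul_mem mv mt) _ mr, h.πm _ mv _ mt, ev, et, er]; decide)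
  have key := idR' s1 s2
    (tr (mul_mem mr (mul_mem mr mr)) (one_mem _) (aR.mul (aR.mul aR)) ac_one (by
      rw [h.πm _ mr _ (mul_mem mr mr), h.πm _ mr _ mr, er, h.πm.one]; decide))
    (tr (mul_mem (mul_mem mw mr) (mul_mem mw mr)) (one_mem _) ((a2'.mul aR).mul (a2'.mul aR)) ac_one (by
      rw [h.πm _ (mul_mem mw mr) _ (mul_mem mw mr), h.πm _ mw _ mr, er, ew, h.πm.one]; decide))
    (by
      have m := mul_mem mx mr
      have y := ax.mul aR
      exact tr (mul_mem (mul_mem m m) (mul_mem m (mul_mem m m))) (one_mem _) ((y.mul y).mul (y.mul (y.mul y))) ac_one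
        (by rw [h.πm _ (mul_mem m m) _ (mul_mem m (mul_mem m m)), h.πm _ m _ (mul_mem m m), h.πm _ m _ m,
          h.πm _ mx _ mr, er, ex, h.πm.one]; decide))
  have fin : ∀ φ, Bas J φ → Ac φ x mX → Ac φ v m1 → Ac φ r mR → Co J M φ := fun φ b ax av ar => by
    refine ⟨b, fun a => ?_, fun g m => ?_⟩
    · fin_cases a
      exacts [⟨x, mx, ax⟩, ⟨v, mv, av⟩, ⟨r, mr, ar⟩]
    obtain ⟨k, mk, e, n, q, p⟩ := closure_ind (p := fun σ => ∃ k ∈ M, π k = σ ∧ ∃ n, Ac φ k n ∧ Pr n)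
      ⟨1, one_mem _, h.πm.one, mI, ac_one, fun u s => (aI u).symm ▸ s⟩ (by
        rintro σ hσ _ ⟨k, mk, rfl, n, q, p⟩
        rcases hσ with rfl | rfl | rfl
        exacts [⟨_, mul_mem mx mk, by rw [h.πm _ mx _ mk, ex], _, ax.mul q, (pr_gen 0).cmp p⟩,
          ⟨_, mul_mem mv mk, by rw [h.πm _ mv _ mk, ev], _, av.mul q, (pr_gen 1).cmp p⟩,
          ⟨_, mul_mem mr mk, by rw [h.πm _ mr _ mk, er], _, ar.mul q, (pr_gen 2).cmp p⟩]) (genA6 (h.πs g m))
    exact ⟨n, fun u => (same m mk e.symm _ (b.mem' u)).trans (q u), p⟩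
  rcases key with e | e <;> rw [e] at aR
  exacts [⟨φ, fin φ b ax a1' aR⟩, ⟨_, fin _ (bchg b (d := mD) (by decide +kernel)) (ax.chg (by decide +kernel))
    (a1'.chg (by decide +kernel)) (aR.chg (by decide +kernel))⟩]
end

end CF.XT.Mc
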