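import Cfsg.Agent.XT.Mc3

/-! The 3-local characterization of McL: the normalizer of `J`. -/

set_option autoImplicit false
set_option maxRecDepth 100000
set_option synthInstance.maxSize 100000
set_option linter.unusedSectionVars false
set_option linter.unusedVariables false

namespace CF.XT.Mc

open Subgroup Cfsg CF.BG CF.GW CF.Char CF.Char.T3 Equiv Equiv.Perm

universe u
variable {G : Type u} [Group G] [Finite G] {S Q L J M : Subgroup G} {z t f : G} {l : G → SL5} {φ : V → G}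
  {a b g k : G} {m n : Mt} {u v : V}

theorem c3a : ∀ a : Perm (Fin 5), a ^ 3 = 1 → a ≠ 1 → ∀ b, b * a = a * b → sign b = 1 → b = 1 ∨ b = a ∨ b = a⁻¹ := by
  decide +kernel
theorem c3b : ∀ a : Perm (Fin 5), a ^ 3 = 1 → a ≠ 1 → ∃ i, i * a * i⁻¹ = a⁻¹ ∧ Iv5 i ∧ sign i = 1 := by decide +kernel

theorem cardF (h : Bas J φ) (e : Ac φ g m) : ♯(J ⊓ 𝐂₁ g) = (Finset.univ.filter fun u => act m u = u).card := by
  rw [← Fintype.card_subtype, ← Nat.card_eq_fintype_card]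
  refine (Nat.card_congr (Equiv.ofBijective (fun u : {u // act m u = u} =>
    (⟨φ u.1, h.mem' _, mem_cent1_comm.1 (e.fix u.2)⟩ : ↥(J ⊓ 𝐂₁ g)))
    ⟨fun u v q => Subtype.ext (h.inj (congrArg Subtype.val q)), fun ⟨a, p, q⟩ => ?_⟩)).symm
  obtain ⟨u, rfl⟩ := (h.mem a).1 p
  exact ⟨⟨u, e.of_fix h (mem_cent1_comm.1 q)⟩, rfl⟩

theorem l32' (p : Pr m) (h0 : pm (act m z0) z0) (h1 : pm (act m z1) z1) : m ∈ L32 := by
  rw [z0, act_add, a0, a1, ← z0] at h0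
  rw [z1, act_sub, a0, a1, ← z1] at h1
  have k := fun u s => p u s
  refine l32 _ _ h0 h1 _ ?_ ?_ _ ?_ ?_ p
  exacts [a0 m ▸ a2 m ▸ act_add m _ _ ▸ p _ (by decide +kernel), a0 m ▸ a2 m ▸ act_sub m _ _ ▸ p _ (by decide +kernel),
    a0 m ▸ a3 m ▸ act_add m _ _ ▸ p _ (by decide +kernel), a0 m ▸ a3 m ▸ act_sub m _ _ ▸ p _ (by decide +kernel)]

namespace H1
variable (h : H1 S Q L J z t l)
include h

theorem inJ (b : Bas J φ) (e : Ac φ g mI) : g ∈ J := h.cJ' (e.cent b)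
theorem dvJ (b : Bas J φ) (e : Ac φ g m) (e' : Ac φ k m) : g * k⁻¹ ∈ J := h.cJ' (e.div b e')
theorem ac3 (b : Bas J φ) (e : Ac φ g m) (c : cb m = mI) : PiElt {3} g :=
  (piNat_pow_self p3 2).dvd (orderOf_dvd_of_pow_eq_one (by
    rw [show 3 ^ 2 = 3 * 3 from rfl, pow_mul, pow_three g]; exact h.eJ _ (h.inJ b ((e.mul (e.mul e)).cast c))))

theorem co1 {π : G → Perm (Fin 6)} (k : H2 J M π) : ∃ φ, Co J M φ ∧ φ z0 = z := by
  obtain ⟨φ, c⟩ := k.co h.ab h.eJ h.cJ h.cJ'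
  obtain ⟨x, -, ax⟩ := c.om 0
  obtain ⟨y, -, ay⟩ := c.wd [2, 1, 2, 0, 2, 1]
  have nx := ax.norm c.bas
  have ny := ay.norm c.bas
  have n : y ∈ 𝐍 (J ⊔ zpowers x) := mem_norm_of_cj_le (by
    rw [cj_sup, cj_of_norm ny, cj_zpowers]
    refine sup_le le_sup_left (zpowers_le.2 ?_)
    rw [← inv_mul_cancel_right (y * x * y⁻¹) x, mul_assoc (y * x), ← mul_inv_rev]
    exact mul_mem_sup (h.dvJ c.bas (ay.mul ax) ((ax.mul ay).cast (by decide +kernel))) (mem_zpowers x))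
  obtain ⟨g, hg, q⟩ := h.sylJ.syl_cj_le (sup_le (sup_le (le_norm_self J) (zp_le_norm nx)) (zp_le_norm ny))
    ((h.pJ.sup (h.ac3 c.bas ax (by decide +kernel)).zpowers (.inr (zp_le_norm nx))).sup
      (h.ac3 c.bas ay (by decide +kernel)).zpowers (.inr (zp_le_norm n)))
  obtain ⟨u, e⟩ := (c.bas.mem _).1 (conj_mem_of_norm' hg h.zJ)
  have q' : J ⊔ zpowers x ⊔ zpowers y ≤ 𝐂₁ (φ u) := by
    rw [e, ← cj_le_cj (g := g), cj_cent1]
    simpa [mul_assoc] using q.trans (h.SL.trans h.Lz)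
  obtain ⟨w, -, e'⟩ := w20 u (fixB u (fun u0 => h.zne (by simpa [u0, c.bas.zero, mul_assoc, inv_mul_eq_one] using e.symm))
    (ax.of_fix c.bas (q' (mem_sup_left (mem_sup_right (mem_zpowers x)))))
    (ay.of_fix c.bas (q' (mem_sup_right (mem_zpowers y)))))
  obtain ⟨r, mr, ar⟩ := c.wd w
  have nr := mul_mem hg (k.MN mr)
  refine ⟨_, c.cj nr (k.nM nr), ?_⟩
  have := ar z0
  rw [e', e] at this
  calc _ = g * (r * φ z0 * r⁻¹) * g⁻¹ := by group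
    _ = z := by rw [this]; group

theorem co_pr {π : G → Perm (Fin 6)} (k : H2 J M π) (c : Co J M φ) (ez : φ z0 = z) (e : Ac φ g m) : Pr m := by
  have ng := e.norm c.bas
  obtain ⟨a, ha, b, hb, rfl⟩ := (h.sylJ.of_le (fun s hs => k.mem3 s (h.SJ hs) (h.syl.pi.elt hs)) k.MN).syl_frattini
    ⟨k.MN, k.nM⟩ ng
  obtain ⟨n, an, pn⟩ := c.pr a ha
  have s0 : Sg (act m z0) := by
    rcases (F3.mem_zpowers3 h.oz).1 (conj_mem_of_norm (h.NSZ hb.2) (mem_zpowers z)) with q | q | q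
    · exact absurd (by simpa using q) h.zne
    · rw [e.mv c.bas (v := act n z0) (by rw [← an, ez, ← q, q]; nth_rw 2 [← q]; group)]
      exact pn _ (by decide +kernel)
    · rw [e.mv c.bas (v := act n (-z0)) (by rw [← an, c.bas.neg, ez, ← q]; group)]
      exact pn _ (by decide +kernel)
  intro u s
  obtain ⟨w, -, rfl⟩ := w20 u s
  obtain ⟨r, mr, ar⟩ := c.wd w
  obtain ⟨n', an', pn'⟩ := c.pr _ (conj_mem_of_norm (k.nM ng) mr)
  rw [e.mv c.bas (v := act n' (act m z0)) (by rw [← an', ← e, ← ar]; group)]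
  exact pn' _ s0

theorem cD9 : ♯(J ⊓ 𝐂₁ t) ≤ 9 := by
  have c := h.cinf (inf_le_left.trans h.JS : J ⊓ 𝐂₁ t ≤ S)
  have := card_le (show J ⊓ 𝐂₁ t ⊓ Q ≤ zpowers z from fun a m => h.Qt m.2 m.1.2)
  rw [h.cZ] at this
  omega

theorem co2 {π : G → Perm (Fin 6)} (k : H2 J M π) : ∃ φ, Co J M φ ∧ φ z0 = z ∧ Ac φ t m1 := by
  obtain ⟨φ, c, ez⟩ := h.co1 k
  have k1 : ∀ {φ T}, Co J M φ → φ z0 = z → Ac φ t T → act T z0 = z0 ∧ cmp T T = mI := fun c ez e =>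
    ⟨e.of_fix c.bas (ez ▸ h.Lz h.tL), (e.mul e).uniq c.bas (h.tt ▸ ac_one)⟩
  obtain ⟨T, e⟩ := exists_ac c.bas h.tN
  obtain ⟨f0, f2⟩ := k1 c ez e
  have p := h.co_pr k c ez e
  obtain ⟨v, s, n, q⟩ : ∃ v, Sg v ∧ ¬ pm v z0 ∧ pm (act T v) v := by
    by_cases q : pm (act T z1) z1
    · exact ⟨z1, by decide +kernel, by decide +kernel, q⟩
    obtain ⟨a, b, d, s, r⟩ := four _ (p z1 (by decide +kernel)) (by
      rintro (r | r)
      exacts [absurd (e.inj c.bas (r.trans f0.symm)) (by decide +kernel),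
        absurd (e.inj c.bas (r.trans (by rw [act_neg, f0] : -z0 = act T (-z0)))) (by decide +kernel)]) q
    have := p _ s
    rw [act_add, act_add, act_smul, act_smul, act_smul, f0, ← act_cmp, f2, aI] at this
    exact ⟨_, s, (r this).1, by rw [act_add, act_add, act_smul, act_smul, act_smul, f0, ← act_cmp, f2, aI]; exact (r this).2⟩
  obtain ⟨w, -, w0, w1⟩ := w9 v s n
  obtain ⟨r, mr, ar⟩ := c.wd w
  have c' := c.cj (k.MN mr) (le_norm_self M mr)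
  have ez' : r * φ z0 * r⁻¹ = z := by rw [ar, w0, ez]
  obtain ⟨T', e'⟩ := exists_ac c'.bas h.tN
  obtain ⟨g0, g2⟩ := k1 c' ez' e'
  refine ⟨_, c', ez', e'.cast ((by decide +kernel : ∀ m ∈ L32, sq m = mI → act m z0 = z0 →
    (Finset.univ.filter fun u => act m u = u).card ≤ 9 → m = m1) T' (l32' (h.co_pr k c' ez' e') (.inl g0) ?_) g2 g0
    (cardF c'.bas e' ▸ h.cD9))⟩
  have : pm (act T (act (wd w) z1)) (act (wd w) z1) := by
    rcases w1 with w1 | w1 <;> rw [w1]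
    exacts [q, by rw [act_neg]; exact q.imp (congrArg _) (congrArg _)]
  refine this.imp (fun q => e'.mv c'.bas ?_) fun q => e'.mv c'.bas ?_
  · rw [ar, e, q]
  · rw [ar, ar, e, q, act_neg]

theorem nJ (hg : g ∈ 𝐍 (zpowers z)) (ha : a ∈ S) (n : a ∉ Q) (m : g * a * g⁻¹ ∈ S) : g ∈ 𝐍 J :=
  h.NS (mem_norm_of_cj_le (cj_le_iff.2 (h.leS ha n (le_cj_iff.2 (by
    rw [inv_inv, cj_of_norm (h.nQ hg)]; exact h.QS)) (mem_cj_inv.2 m))))

theorem muk (m : a ∈ L) (c : a ∈ 𝐂₁ t) (e : mu l a = 1) : a ∈ zpowers z ∨ a * t ∈ zpowers z :=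
  (p5k.1 e).imp (fun e => h.Qt ((h.lk a m).1 e) c) fun e => h.Qt ((h.lk _ (mul_mem m h.tL)).1 (by
    rw [h.lm _ m _ h.tL, e, h.lt]; simp)) (mul_mem c (self_mem_cent1 t))

theorem mu3 (m : a ∈ S) (n : a ∉ Q) : mu l a ^ 3 = 1 ∧ mu l a ≠ 1 :=
  have s3 := h.l3 (h.SL m) (h.syl.pi.elt m)
  ⟨by rw [mu, ← map_pow, s3, map_one],
    fun e => n ((h.lk a (h.SL m)).1 (eq5 (e.trans (map_one _).symm) s3 (one_pow _)))⟩

theorem cLt (ha : a ∈ J) (n : a ∉ Q) (ct : a ∈ 𝐂₁ t) (m : g ∈ L) (c : g ∈ 𝐂₁ t) (c' : g ∈ 𝐂₁ a) :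
    g ∈ J ∨ g * t ∈ J := by
  have aL := h.SL (h.JS ha)
  obtain ⟨s3, s1⟩ := h.mu3 (h.JS ha) n
  have k : ∀ b ∈ J, b ∈ 𝐂₁ t → mu l g = mu l b → g ∈ J ∨ g * t ∈ J := fun b hb cb e => by
    have bL := h.SL (h.JS hb)
    refine (h.muk (mul_mem (inv_mem bL) m) (mul_mem (inv_mem cb) c) (by
      rw [h.lm.mu _ (inv_mem bL) _ m, h.lm.mu.inv bL, e, inv_mul_cancel])).imp (fun q => ?_) fun q => ?_
    exacts [(mul_mem_cancel_left (inv_mem hb)).1 (h.ZJ q), (mul_mem_cancel_left (inv_mem hb)).1 (mul_assoc _ g t ▸ h.ZJ q)]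
  rcases c3a _ s3 s1 (mu l g) (by rw [← h.lm.mu _ m _ aL, mem_cent1.1 c', h.lm.mu _ aL _ m]) (p5s _) with e | e | e
  exacts [k 1 (one_mem _) (one_mem _) (e.trans h.lm.mu.one.symm), k a ha ct e,
    k a⁻¹ (inv_mem ha) (inv_mem ct) (e.trans (h.lm.mu.inv aL).symm)]

theorem exf (ha : a ∈ J) (n : a ∉ Q) (ct : a ∈ 𝐂₁ t) :
    ∃ f ∈ L, f ∈ 𝐂₁ t ∧ f * f = t ∧ f * a * f⁻¹ * a ∈ zpowers z := by
  have aL := h.SL (h.JS ha)
  obtain ⟨s3, s1⟩ := h.mu3 (h.JS ha) n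
  obtain ⟨i, e, iv, si⟩ := c3b _ s3 s1
  obtain ⟨σ, rfl⟩ := p5o si
  obtain ⟨g, m, c, rfl⟩ := h.lot σ
  have c := mem_cent1.2 c
  have q := h.Qt (h.leq (mul_mem m m) h.tL (by rw [h.lm _ m _ m, p5sq iv.1 iv.2, h.lt]))
    (mul_mem (mul_mem c c) (inv_mem (self_mem_cent1 t)))
  have a3 := h.l3 aL (h.pJ.elt ha)
  have m3 := pow_mem m 3
  refine ⟨g ^ 3, m3, pow_mem c 3, ?_, h.Qt ?_
    (mul_mem (mul_mem (mul_mem (pow_mem c 3) ct) (inv_mem (pow_mem c 3))) ct)⟩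
  · have := h.eQ _ (h.ZQ q)
    rw [(Commute.inv_right (mem_cent1.1 (mul_mem c c))).mul_pow, h.ti, pow_three t, h.tt, mul_one,
      (Commute.refl g).mul_pow] at this
    exact (eq_inv_of_mul_eq_one_left this).trans h.ti
  · nth_rw 2 [← inv_inv a]
    refine h.leq (mul_mem (mul_mem m3 aL) (inv_mem m3)) (inv_mem aL) ?_
    rw [h.lm.conj m3 aL, h.lm.inv aL, h.lm.pow m]
    refine eq5 ?_ (by rw [conj_pow, a3]; simp) (by rw [inv_pow, a3, inv_one])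
    rw [map_mul, map_mul, map_inv, map_pow, pow_three, iv.1, mul_one, map_inv]
    exact e

end H1

/-- the configuration in coordinates -/
structure H3 (S Q L J : Subgroup G) (z t f : G) (l : G → SL5) (φ : V → G) : Prop extends H1 S Q L J z t l where
  bas : Bas J φ
  om : ∀ w, Rz φ (wd w)
  pr : ∀ g m, Ac φ g m → Pr m
  ez : φ z0 = z
  at' : Ac φ t m1
  fL : f ∈ L
  ft : f ∈ 𝐂₁ t
  ff : f * f = t
  af : ∃ F ∈ Lf, Ac φ f F
  l16 : ∀ g m, Ac φ g m → pm (act m z0) z0 → pm (act m z1) z1 → m ∈ L16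

theorem H1.h3 (h : H1 S Q L J z t l) {π : G → Perm (Fin 6)} (k : H2 J M π) : ∃ f φ, H3 S Q L J z t f l φ := by
  obtain ⟨φ, c, ez, at'⟩ := h.co2 k
  have b := c.bas
  have ct : φ z1 ∈ 𝐂₁ t := mem_cent1_comm.1 (at'.fix (by decide +kernel))
  have n : φ z1 ∉ Q := fun m => absurd (bzp b (ez ▸ h.Qt m ct)) (by decide +kernel)
  obtain ⟨f, fL, ft, ff, e⟩ := h.exf (b.mem' z1) n ct
  obtain ⟨F, af⟩ := exists_ac b (h.nJ (h.LN fL) (h.JS (b.mem' z1)) n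
    ((mul_mem_cancel_right (h.JS (b.mem' z1))).1 (h.QS (h.ZQ e))))
  have pF := h.co_pr k c ez af
  have F0 := af.of_fix b (ez ▸ h.Lz fL)
  have F1 : act F z1 = -z1 := by
    rw [af, ← b.add, ← ez] at e
    exact (by decide +kernel : ∀ u, Sg u → u + z1 = 0 ∨ pm (u + z1) z0 → u = -z1) _ (pF _ (by decide +kernel)) (bzp b e)
  have mF : F ∈ Lf := (by decide +kernel : ∀ m ∈ L32, act m z1 = -z1 → sq m = m1 → act m z0 = z0 → m ∈ Lf) F
    (l32' pF (.inl F0) (.inr F1)) F1 ((af.mul af).uniq b (ff ▸ at')) F0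
  refine ⟨f, φ, h, b, fun w => let ⟨g, _, e⟩ := c.wd w; ⟨g, e⟩, fun g m => h.co_pr k c ez, ez, at', fL, ft, ff,
    ⟨F, mF, af⟩, fun g m e h0 h1 => ?_⟩
  have mm := l32' (h.co_pr k c ez e) h0 h1
  obtain ⟨j, hj, q⟩ := adj h.eJ h.tt (a := g) (by
    rw [mul_assoc (g * t), ← mul_inv_rev]
    exact h.dvJ b (e.mul at') ((at'.mul e).cast ((by decide +kernel : ∀ m ∈ L32, cmp m1 m = cmp m m1) m mm)))
  replace e := ((ac_mem b hj).mul e).cast (n := m) (mt_ext fun u => by rw [act_cmp, aI])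
  generalize j * g = g at e q
  have q := mem_cent1.2 q
  have nz : g ∈ 𝐍 (zpowers z) := mem_norm_of_cj_le (by
    rw [cj_zpowers, ← ez, e]
    rcases h0 with r | r <;> rw [r]
    rw [b.neg, zpowers_inv])
  have r := h.cLt (b.mem' z1) n ct (g := (f * g)⁻¹ * (g * f)) (by
    rw [mul_inv_rev, ← mul_assoc]; exact mul_mem (conj_mem_of_norm' (h.nL nz) (inv_mem fL)) fL)
    (mul_mem (inv_mem (mul_mem ft q)) (mul_mem q ft)) (mem_cent1.2 (by
      have := ((e.mul af) z1).trans ((congrArg φ ((by decide +kernel : ∀ m ∈ L32, ∀ F ∈ Lf,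
        act (cmp m F) z1 = act (cmp F m) z1) m mm F mF)).trans ((af.mul e) z1).symm)
      calc _ = (f * g)⁻¹ * (g * f * φ z1 * (g * f)⁻¹) * (g * f) := by group
        _ = _ := by rw [this]; group))
  refine (by decide +kernel : ∀ m ∈ L32, ∀ F ∈ Lf, cmp m F = cmp (cmp F m) mI ∨ cmp (cmp m F) m1 = cmp (cmp F m) mI →
    m ∈ L16) m mm F mF (r.imp (fun r => ?_) fun r => ?_)
  · exact (e.mul af).uniq b (by simpa [mul_assoc] using (af.mul e).mul (ac_mem b r))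
  · exact ((e.mul af).mul at').uniq b (by simpa [mul_assoc] using (af.mul e).mul (ac_mem b r))

end CF.XT.Mc
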