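import Cfsg.Agent.Cod.Gen

set_option autoImplicit false
set_option maxRecDepth 1000000
set_option maxHeartbeats 0
set_option Elab.async false

namespace CF.XT.L43

open CF.Comp CF.Cod

noncomputable def RW : List (List Nat) := [[(nat_lit 1), (nat_lit 1)],
  [(nat_lit 3), (nat_lit 3)],
  [(nat_lit 5), (nat_lit 5)],
  [(nat_lit 7), (nat_lit 7)],
  [(nat_lit 9), (nat_lit 9)],
  [(nat_lit 11), (nat_lit 11)],
  [(nat_lit 1), (nat_lit 3), (nat_lit 1), (nat_lit 3), (nat_lit 1), (nat_lit 3)],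
  [(nat_lit 3), (nat_lit 5), (nat_lit 3), (nat_lit 5), (nat_lit 3), (nat_lit 5), (nat_lit 3), (nat_lit 5)],
  [(nat_lit 5), (nat_lit 7), (nat_lit 5), (nat_lit 7), (nat_lit 5), (nat_lit 7)],
  [(nat_lit 1), (nat_lit 5), (nat_lit 1), (nat_lit 5)],
  [(nat_lit 1), (nat_lit 7), (nat_lit 1), (nat_lit 7)],
  [(nat_lit 3), (nat_lit 7), (nat_lit 3), (nat_lit 7)],
  [(nat_lit 9), (nat_lit 7), (nat_lit 5), (nat_lit 3), (nat_lit 5), (nat_lit 7)],
  [(nat_lit 11), (nat_lit 1), (nat_lit 3), (nat_lit 5), (nat_lit 3), (nat_lit 1)],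
  [(nat_lit 9), (nat_lit 1), (nat_lit 9), (nat_lit 1), (nat_lit 9), (nat_lit 1)],
  [(nat_lit 9), (nat_lit 3), (nat_lit 9), (nat_lit 3)],
  [(nat_lit 9), (nat_lit 5), (nat_lit 9), (nat_lit 5)],
  [(nat_lit 11), (nat_lit 7), (nat_lit 11), (nat_lit 7), (nat_lit 11), (nat_lit 7)],
  [(nat_lit 11), (nat_lit 5), (nat_lit 11), (nat_lit 5)],
  [(nat_lit 11), (nat_lit 3), (nat_lit 11), (nat_lit 3)],
  [(nat_lit 9), (nat_lit 11), (nat_lit 9), (nat_lit 11), (nat_lit 9), (nat_lit 11), (nat_lit 9), (nat_lit 11)]]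
noncomputable def WS : List (List Nat) := [[(nat_lit 11)],
  [(nat_lit 1), (nat_lit 3), (nat_lit 7), (nat_lit 5), (nat_lit 11)],
  [(nat_lit 3), (nat_lit 3), (nat_lit 9)],
  [(nat_lit 1), (nat_lit 3), (nat_lit 3), (nat_lit 6), (nat_lit 9)],
  [(nat_lit 2), (nat_lit 3), (nat_lit 2), (nat_lit 6), (nat_lit 7), (nat_lit 6), (nat_lit 11)],
  [(nat_lit 1), (nat_lit 3), (nat_lit 2), (nat_lit 5), (nat_lit 7), (nat_lit 6), (nat_lit 9)]]
noncomputable def R36 : List (List Nat) := [[(nat_lit 1), (nat_lit 1), (nat_lit 1)],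
  [(nat_lit 3), (nat_lit 3), (nat_lit 3)],
  [(nat_lit 1), (nat_lit 3), (nat_lit 2), (nat_lit 4)],
  [(nat_lit 5), (nat_lit 5)],
  [(nat_lit 7), (nat_lit 7)],
  [(nat_lit 5), (nat_lit 7), (nat_lit 5), (nat_lit 7)],
  [(nat_lit 5), (nat_lit 1), (nat_lit 5), (nat_lit 4)],
  [(nat_lit 7), (nat_lit 1), (nat_lit 7), (nat_lit 3)]]
noncomputable def RB : List (List Nat) := [[(nat_lit 1), (nat_lit 1)],
  [(nat_lit 3), (nat_lit 3)],
  [(nat_lit 5), (nat_lit 5)],
  [(nat_lit 7), (nat_lit 7)],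
  [(nat_lit 1), (nat_lit 3), (nat_lit 1), (nat_lit 3), (nat_lit 1), (nat_lit 3)],
  [(nat_lit 3), (nat_lit 5), (nat_lit 3), (nat_lit 5), (nat_lit 3), (nat_lit 5)],
  [(nat_lit 5), (nat_lit 7), (nat_lit 5), (nat_lit 7), (nat_lit 5), (nat_lit 7), (nat_lit 5), (nat_lit 7)],
  [(nat_lit 3), (nat_lit 7), (nat_lit 3), (nat_lit 7)],
  [(nat_lit 1), (nat_lit 5), (nat_lit 1), (nat_lit 5)],
  [(nat_lit 1), (nat_lit 7), (nat_lit 1), (nat_lit 7)],
  [(nat_lit 9), (nat_lit 9)],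
  [(nat_lit 9), (nat_lit 3), (nat_lit 9), (nat_lit 3)],
  [(nat_lit 9), (nat_lit 1), (nat_lit 9), (nat_lit 1)],
  [(nat_lit 9), (nat_lit 7), (nat_lit 9), (nat_lit 7)],
  [(nat_lit 9), (nat_lit 5), (nat_lit 7), (nat_lit 5), (nat_lit 9), (nat_lit 5), (nat_lit 7), (nat_lit 5), (nat_lit 7)],
  [(nat_lit 9), (nat_lit 5), (nat_lit 9), (nat_lit 5), (nat_lit 9), (nat_lit 5), (nat_lit 1), (nat_lit 3), (nat_lit 5), (nat_lit 7), (nat_lit 5), (nat_lit 3), (nat_lit 1), (nat_lit 3), (nat_lit 5), (nat_lit 7), (nat_lit 5), (nat_lit 3)]]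
noncomputable def RC1 : List (List Nat) := [[(nat_lit 1), (nat_lit 1)],
  [(nat_lit 3), (nat_lit 3)],
  [(nat_lit 5), (nat_lit 5)],
  [(nat_lit 7), (nat_lit 7)],
  [(nat_lit 1), (nat_lit 3), (nat_lit 1), (nat_lit 3), (nat_lit 1), (nat_lit 3), (nat_lit 1), (nat_lit 3)],
  [(nat_lit 5), (nat_lit 1), (nat_lit 5), (nat_lit 1), (nat_lit 5), (nat_lit 1)],
  [(nat_lit 5), (nat_lit 3), (nat_lit 5), (nat_lit 3)],
  [(nat_lit 5), (nat_lit 1), (nat_lit 3), (nat_lit 1), (nat_lit 5), (nat_lit 1), (nat_lit 3), (nat_lit 1), (nat_lit 3)],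
  [(nat_lit 7), (nat_lit 3), (nat_lit 7), (nat_lit 3), (nat_lit 7), (nat_lit 3)],
  [(nat_lit 7), (nat_lit 1), (nat_lit 7), (nat_lit 1)],
  [(nat_lit 7), (nat_lit 3), (nat_lit 1), (nat_lit 3), (nat_lit 7), (nat_lit 3), (nat_lit 1), (nat_lit 3), (nat_lit 1)],
  [(nat_lit 3), (nat_lit 7), (nat_lit 1), (nat_lit 5), (nat_lit 3), (nat_lit 7), (nat_lit 1), (nat_lit 5), (nat_lit 3), (nat_lit 7), (nat_lit 1), (nat_lit 5)],
  [(nat_lit 3), (nat_lit 7), (nat_lit 5), (nat_lit 3), (nat_lit 7), (nat_lit 5), (nat_lit 3), (nat_lit 7), (nat_lit 5)]]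
noncomputable def RC2 : List (List Nat) := [[(nat_lit 1), (nat_lit 1)],
  [(nat_lit 3), (nat_lit 3)],
  [(nat_lit 5), (nat_lit 5)],
  [(nat_lit 7), (nat_lit 7)],
  [(nat_lit 1), (nat_lit 3), (nat_lit 1), (nat_lit 3), (nat_lit 1), (nat_lit 3), (nat_lit 1), (nat_lit 3)],
  [(nat_lit 5), (nat_lit 1), (nat_lit 5), (nat_lit 1), (nat_lit 5), (nat_lit 1)],
  [(nat_lit 5), (nat_lit 3), (nat_lit 5), (nat_lit 3)],
  [(nat_lit 5), (nat_lit 1), (nat_lit 3), (nat_lit 1), (nat_lit 5), (nat_lit 1), (nat_lit 3), (nat_lit 1), (nat_lit 3)],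
  [(nat_lit 7), (nat_lit 3), (nat_lit 7), (nat_lit 3), (nat_lit 7), (nat_lit 3)],
  [(nat_lit 7), (nat_lit 1), (nat_lit 7), (nat_lit 1)],
  [(nat_lit 7), (nat_lit 3), (nat_lit 1), (nat_lit 3), (nat_lit 7), (nat_lit 3), (nat_lit 1), (nat_lit 3), (nat_lit 1)],
  [(nat_lit 1), (nat_lit 3), (nat_lit 7), (nat_lit 3), (nat_lit 1), (nat_lit 5), (nat_lit 1), (nat_lit 3), (nat_lit 7), (nat_lit 3), (nat_lit 1), (nat_lit 5), (nat_lit 1), (nat_lit 3), (nat_lit 7), (nat_lit 3), (nat_lit 1), (nat_lit 5)],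
  [(nat_lit 1), (nat_lit 3), (nat_lit 7), (nat_lit 1), (nat_lit 3), (nat_lit 1), (nat_lit 5), (nat_lit 1), (nat_lit 3), (nat_lit 7), (nat_lit 1), (nat_lit 3), (nat_lit 1), (nat_lit 5), (nat_lit 1), (nat_lit 3), (nat_lit 7), (nat_lit 1), (nat_lit 3), (nat_lit 1), (nat_lit 5)]]
noncomputable def RG : List (List Nat) := [[(nat_lit 1), (nat_lit 1)],
  [(nat_lit 3), (nat_lit 3)],
  [(nat_lit 5), (nat_lit 5)],
  [(nat_lit 7), (nat_lit 7)],
  [(nat_lit 9), (nat_lit 9)],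
  [(nat_lit 11), (nat_lit 11)],
  [(nat_lit 1), (nat_lit 3), (nat_lit 1), (nat_lit 3), (nat_lit 1), (nat_lit 3)],
  [(nat_lit 3), (nat_lit 5), (nat_lit 3), (nat_lit 5), (nat_lit 3), (nat_lit 5), (nat_lit 3), (nat_lit 5)],
  [(nat_lit 5), (nat_lit 7), (nat_lit 5), (nat_lit 7), (nat_lit 5), (nat_lit 7)],
  [(nat_lit 1), (nat_lit 5), (nat_lit 1), (nat_lit 5)],
  [(nat_lit 1), (nat_lit 7), (nat_lit 1), (nat_lit 7)],
  [(nat_lit 3), (nat_lit 7), (nat_lit 3), (nat_lit 7)],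
  [(nat_lit 9), (nat_lit 7), (nat_lit 5), (nat_lit 3), (nat_lit 5), (nat_lit 7)],
  [(nat_lit 11), (nat_lit 1), (nat_lit 3), (nat_lit 5), (nat_lit 3), (nat_lit 1)],
  [(nat_lit 9), (nat_lit 1), (nat_lit 9), (nat_lit 1), (nat_lit 9), (nat_lit 1)],
  [(nat_lit 9), (nat_lit 3), (nat_lit 9), (nat_lit 3)],
  [(nat_lit 9), (nat_lit 5), (nat_lit 9), (nat_lit 5)],
  [(nat_lit 11), (nat_lit 7), (nat_lit 11), (nat_lit 7), (nat_lit 11), (nat_lit 7)],
  [(nat_lit 11), (nat_lit 5), (nat_lit 11), (nat_lit 5)],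
  [(nat_lit 11), (nat_lit 3), (nat_lit 11), (nat_lit 3)],
  [(nat_lit 9), (nat_lit 11), (nat_lit 9), (nat_lit 11), (nat_lit 9), (nat_lit 11), (nat_lit 9), (nat_lit 11)],
  [(nat_lit 13), (nat_lit 13)],
  [(nat_lit 13), (nat_lit 1), (nat_lit 13), (nat_lit 1)],
  [(nat_lit 13), (nat_lit 9), (nat_lit 13), (nat_lit 9)],
  [(nat_lit 13), (nat_lit 5), (nat_lit 13), (nat_lit 5)],
  [(nat_lit 13), (nat_lit 3), (nat_lit 5), (nat_lit 3), (nat_lit 13), (nat_lit 3), (nat_lit 5), (nat_lit 3), (nat_lit 5)],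
  [(nat_lit 13), (nat_lit 3), (nat_lit 13), (nat_lit 3), (nat_lit 13), (nat_lit 3)],
  [(nat_lit 15), (nat_lit 15)],
  [(nat_lit 15), (nat_lit 7), (nat_lit 15), (nat_lit 7)],
  [(nat_lit 15), (nat_lit 11), (nat_lit 15), (nat_lit 11)],
  [(nat_lit 15), (nat_lit 3), (nat_lit 15), (nat_lit 3)],
  [(nat_lit 15), (nat_lit 5), (nat_lit 3), (nat_lit 5), (nat_lit 15), (nat_lit 5), (nat_lit 3), (nat_lit 5), (nat_lit 3)],
  [(nat_lit 15), (nat_lit 5), (nat_lit 15), (nat_lit 5), (nat_lit 15), (nat_lit 5)],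
  [(nat_lit 3), (nat_lit 13), (nat_lit 1), (nat_lit 9), (nat_lit 3), (nat_lit 1), (nat_lit 5), (nat_lit 15), (nat_lit 1), (nat_lit 9), (nat_lit 3), (nat_lit 1), (nat_lit 13), (nat_lit 3), (nat_lit 1), (nat_lit 9), (nat_lit 3), (nat_lit 1), (nat_lit 15), (nat_lit 5), (nat_lit 1), (nat_lit 9), (nat_lit 3), (nat_lit 1)],
  [(nat_lit 5), (nat_lit 15), (nat_lit 13), (nat_lit 3), (nat_lit 5), (nat_lit 15), (nat_lit 13), (nat_lit 3), (nat_lit 5), (nat_lit 15), (nat_lit 13), (nat_lit 3), (nat_lit 5), (nat_lit 15), (nat_lit 13), (nat_lit 3)]]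
noncomputable def S3 : List (List Nat) := [[(nat_lit 1)],
  [(nat_lit 3)],
  [(nat_lit 5)]]
noncomputable def S0 : List (List Nat) := []
noncomputable def TW_c0 : BT (Bx Nat) := (BT.node (nat_lit 9) (BT.node (nat_lit 4) (BT.node (nat_lit 2) (BT.node (nat_lit 1) (BT.leaf (Bx.mk (nat_lit 0xb61682384608a1102e85c09412c2b0570a01442404909a130218420a8154290530b21602f85e09e1382084003e0780e81c0360680c81802c05c0a01502404c0801101e0380680c01402c0400900e0180280400600800800))) (BT.leaf (Bx.mk (nat_lit 0x11e2384d89a11a2304f89e1282544508b120244440891322604e89c12c25c4909310a2104188210e2184088004a0901c83807e0f8138260680d41502b0500a4190330460881782e06c0dc1803107a0f01d83a05a0b010820)))) (BT.node (nat_lit 3) (BT.leaf (Bx.mk (nat_lit 0x18e318678ce1b2360618c21ac35c6a0d51a0344640c918a3106f8de19432c690d319a3306e8dc1b6368608c00f21e03686c0fa1f03786e0d41ac3b0770d01a4390730fe1f83d87a0e81d4380710c6188338660ca19030860))) (BT.leaf (Bx.mk (nat_lit 0x23a4708190220e4188690c2284548510b22444c881112364688290422c45c8410921e4388c91823e4788090015a2b0528a41462885d8ba16c2dc5a0b51502a4590b317a2f0538a61542ac580b117e2f8578ae1722e0508a0)))))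 (BT.node (nat_lit 6) (BT.node (nat_lit 5) (BT.leaf (Bx.mk (nat_lit 0x2764e89c93827e4f89e93c2644cc9813126c4dc9a13525a4b09792e2504a49512b24e49892924246488909201c63887f8fe1de3b8728e41d43ac7b0f71e43cc780f11ce3987c8f81e83d4740e91f63e8768ec1fa3f0708e0))) (BT.leaf (Bx.mk (nat_lit 0x2ca590be97c2f65e8b39662e05c4b41692d45acbb1772c6588b696c2e45ccba1752f25e0bf97e2de5b8b09602be578a394628a510ac958290524a91532a8554a514b29e538a19422a0544ab1572ba570ad95a29a530a0940)))) (BT.node (nat_lit 7) (BT.leaf (Bx.mk (nat_lit 0x33a670c798e332660c698c310624c919331462ccb197336668cf99e320644ca195306608c398630a610c098035a6b0df9be35e6b8dd9ba3606c4d41a93686d4d51ab37a6f0dc9b83646ccdb1b734a690d19a234e698d09a0))) (BT.node (nat_lit 8) (BT.leaf (Bx.mk (nat_lit 0x41e83902a044068090fa1e42484d0821141482d0b21743286103a064108250a21543686906a0c43a87100a0044e89916a2c47a8f111a224648cd182314688d51522b44a8911da3a4508a51b23745e8b91ca3847e8f910a20))) (BT.leaf (Bx.mk (nat_lit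 0x386708ed9da39a730e29c4390724e91d33ac75cea1d538e718ee9dc3a0744e51cb3be778e79ce3b2760e09c03f27e0f19e23ce798f79ee3e07c4f41e93ec7dcfa1f53fe7f8f29e43e47ccf51eb3da7b0fe9fc3f67e8f09e0))))))) (BT.node (nat_lit 13) (BT.node (nat_lit 11) (BT.node (nat_lit 10) (BT.leaf (Bx.mk (nat_lit 0x53aa7142a8450ea194da9a512a2148a9052ea5945a8a51aa3141a82526a494aa9453ea794ca9851ea3940a804b29612da5a4ba9712fa5e4a294129a524aa9512ba5649e93926a4c49292125a4a48a91123a4648690920a40))) (BT.leaf (Bx.mk (nat_lit 0x55eab95eabc55aab15cab8566ac954aa856ead955aaa57eaf95daba562ac15aab454ea9951aa254aa9150aa04ce9993fa7e4f29e132a644e69c934a684d69a93aa744c698937a6e4e29c13ba764f69e93ea7c4da9b130a60)))) (BT.node (nat_lit 12) (BT.leaf (Bx.mk (nat_lit 0x64ac9197b2e67ecf991b22662cc199b3266ecd995b2a64ec999cb38652ca19ab3465acb19db3a67acf190b205beb7966acc5b6b6967ace592b2168ad0596b296aad45b2b616eadc5a6b496bad6586b0962ac458eb1960ac0))) (BT.leaf (Bx.mk (nat_lit 0x5f6be971ae25cab9176aec5e6bc974ae85eabd17baf65fabf173ae65e2bc175aea5debb97fafe5f2be170ae069ad31a3b46686d09aeb5c6a2d41a9b52696d29aab546b6d69a2b44692d21abb566b2d61a7b4e6bed79a0b40)))))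 (BT.node (nat_lit 15) (BT.node (nat_lit 14) (BT.leaf (Bx.mk (nat_lit 0x6fadf1bfb7e6f2de1bdb7a6eadd1bbb766e2dc1b9b726dadb1b7b6e6d6da9b4b686cad91b3b666c6d89b0b60606c098cb1861ec3983b06612c2188b1062ac518bb1660ac118fb1e626c4985b0a63ac7186b0c636c6980b00))) (BT.leaf (Bx.mk (nat_lit 0x74ee99ddbba77aef1d2ba476eed9d5baa752ea1d8bb0746e89d6bac76aed1d9bb277eef9dcbb875eeb9d0ba0732e61c2b8470ee19cfb9e716e29cab94726e49c4b8871ee39c1b8272ee59c8b90736e69ceb9c71ae31c0b80)))) (BT.node (nat_lit 16) (BT.leaf (Bx.mk (nat_lit 0x7f6fe9f7bee7feff9f6bec7d6fa9fabf47d2fa1f8bf07faff1fcbf87eefd9f9bf27c6f89f2be47cef99f0be079af31ecbd879ef39eebdc7aef59e5bca7a6f49e4bc87b6f69efbde7aaf51e8bd078ef19e1bc278af11e0bc0))) (BT.node (nat_lit 17) (BT.leaf (Bx.mk (nat_lit 0x85f0ba13c2684708a1cc3886b0d21bc368530a218c3087f0fa12c248570aa19c3287b0f216c2c8770ea10c2080b01206c0c83706a01c0282b0520bc1682704a04c0880f01a0ec1c81702a08c1081f03a0fc1e83306200c00))) (BT.leaf (Bx.mk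 (nat_lit 0x8c718a3ec7c8db1b233c668d71aa3ac748e31c239c728cb1923dc7a8ef1da34c688f31e237c6e8ff1fa30c608bf17a21c4288b11227c4e8af15a25c4a8a314229c528b316223c468ab15224c4889b1322dc5a8bb17220c40))))))))
noncomputable def TW_c1 : BT (Bx Nat) := (BT.node (nat_lit 9) (BT.node (nat_lit 4) (BT.node (nat_lit 2) (BT.node (nat_lit 1) (BT.leaf (Bx.mk (nat_lit 0x4fe9f93ea7c4f69e93ca784ee9d93aa744e69c938a704de9b936a6c4d69a934a684ce99932a644c698930a604be9792ea5c4b69692ca584ae9592aa544a694928a5049e93926a4c49692924a4848e91922a4448690920a40))) (BT.leaf (Bx.mk (nat_lit 0x57eaf95eabc576ae95cab856ead95aab4566ac958ab055eab956aac556aa954aa854ea9952aa4546a8950aa053ea794ea9c536a694ca9852ea594aa94526a4948a9051ea3946a8c516a2944a8850ea1942a84506a0940a80)))) (BT.node (nat_lit 3) (BT.leaf (Bx.mk (nat_lit 0x5febf97eafc5f6be97caf85eebd97aaf45e6bc978af05debb976aec5d6ba974ae85ceb9972ae45c6b8970ae05beb796eadc5b6b696cad85aeb596aad45a6b4968ad059eb3966acc596b2964ac858eb1962ac4586b0960ac0)))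 (BT.leaf (Bx.mk (nat_lit 0x67ecf99eb3c676ce99cb3866ecd99ab34666cc998b3065ecb996b2c656ca994b2864ec9992b24646c8990b2063ec798eb1c636c698cb1862ec598ab14626c4988b1061ec3986b0c616c2984b0860ec1982b04606c0980b00))))) (BT.node (nat_lit 6) (BT.node (nat_lit 5) (BT.leaf (Bx.mk (nat_lit 0x6fedf9beb7c6f6de9bcb786eedd9bab746e6dc9b8b706dedb9b6b6c6d6da9b4b686ced99b2b646c6d89b0b606bed79aeb5c6b6d69acb586aed59aab546a6d49a8b5069ed39a6b4c696d29a4b4868ed19a2b44686d09a0b40))) (BT.leaf (Bx.mk (nat_lit 0x77eef9debbc776ee9dcbb876eed9dabb4766ec9d8bb075eeb9d6bac756ea9d4ba874ee99d2ba4746e89d0ba073ee79ceb9c736e69ccb9872ee59cab94726e49c8b9071ee39c6b8c716e29c4b8870ee19c2b84706e09c0b80)))) (BT.node (nat_lit 7) (BT.leaf (Bx.mk (nat_lit 0x7feff9febfc7f6fe9fcbf87eefd9fabf47e6fc9f8bf07defb9f6bec7d6fa9f4be87cef99f2be47c6f89f0be07bef79eebdc7b6f69ecbd87aef59eabd47a6f49e8bd079ef39e6bcc796f29e4bc878ef19e2bc4786f09e0bc0))) (BT.node (nat_lit 8) (BT.leaf (Bx.mk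 (nat_lit 0x87f0fa1ec3c8770ea1cc3886f0da1ac348670ca18c3085f0ba16c2c8570aa14c2884f09a12c2484708a10c2083f07a0ec1c83706a0cc1882f05a0ac1482704a08c1081f03a06c0c81702a04c0880f01a02c0480700a00c00))) (BT.leaf (Bx.mk (nat_lit 0x8ff1fa3ec7c8f71ea3cc788ef1da3ac748e71ca38c708df1ba36c6c8d71aa34c688cf19a32c648c718a30c608bf17a2ec5c8b716a2cc588af15a2ac548a714a28c5089f13a26c4c89712a24c4888f11a22c4488710a20c40))))))) (BT.node (nat_lit 13) (BT.node (nat_lit 11) (BT.node (nat_lit 10) (BT.leaf (Bx.mk (nat_lit 0x7e0f81e83c0760e81c83806e0d81a8340660c81883005e0b81682c0560a81482804e098128240460881082003e0780e81c0360680c81802e0580a8140260480881001e0380680c0160280480800e0180280400600800800))) (BT.leaf (Bx.mk (nat_lit 0xfe1f83e87c0f61e83c8780ee1d83a8740e61c8388700de1b83686c0d61a8348680ce198328640c6188308600be1782e85c0b61682c8580ae1582a8540a61482885009e1382684c0961282484808e1182284408610820840)))) (BT.node (nat_lit 12) (BT.leaf (Bx.mk (nat_lit 0x17e2f85e8bc1762e85c8b816e2d85a8b41662c8588b015e2b8568ac1562a8548a814e298528a4146288508a013e2784e89c1362684c89812e2584a8941262484889011e2384688c1162284488810e2184288410620840880)))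 (BT.leaf (Bx.mk (nat_lit 0x1fe3f87e8fc1f63e87c8f81ee3d87a8f41e63c8788f01de3b8768ec1d63a8748e81ce398728e41c6388708e01be3786e8dc1b63686c8d81ae3586a8d41a6348688d019e338668cc196328648c818e318628c4186308608c0))))) (BT.node (nat_lit 15) (BT.node (nat_lit 14) (BT.leaf (Bx.mk (nat_lit 0x27e4f89e93c2764e89c93826e4d89a9342664c89893025e4b89692c2564a89492824e498929242464889092023e4788e91c2364688c91822e4588a9142264488891021e4388690c2164288490820e4188290420640880900))) (BT.leaf (Bx.mk (nat_lit 0x2fe5f8be97c2f65e8bc9782ee5d8ba9742e65c8b89702de5b8b696c2d65a8b49682ce598b29642c6588b09602be578ae95c2b6568ac9582ae558aa9542a6548a895029e538a694c296528a494828e518a2944286508a0940)))) (BT.node (nat_lit 16) (BT.leaf (Bx.mk (nat_lit 0x37e6f8de9bc3766e8dc9b836e6d8da9b43666c8d89b035e6b8d69ac3566a8d49a834e698d29a4346688d09a033e678ce99c336668cc99832e658ca994326648c899031e638c698c316628c498830e618c2984306608c0980))) (BT.node (nat_lit 17) (BT.leaf (Bx.mk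 (nat_lit 0x3fe7f8fe9fc3f67e8fc9f83ee7d8fa9f43e67c8f89f03de7b8f69ec3d67a8f49e83ce798f29e43c6788f09e03be778ee9dc3b6768ec9d83ae758ea9d43a6748e89d039e738e69cc396728e49c838e718e29c4386708e09c0))) (BT.leaf (Bx.mk (nat_lit 0x47e8f91ea3c4768e91ca3846e8d91aa344668c918a3045e8b916a2c4568a914a2844e89912a2444688910a2043e8790ea1c4368690ca1842e8590aa1442684908a1041e83906a0c41682904a0840e81902a0440680900a00))))))))
noncomputable def TW_c3 : BT (Bx Nat) := (BT.node (nat_lit 9) (BT.node (nat_lit 4) (BT.node (nat_lit 2) (BT.node (nat_lit 1) (BT.leaf (Bx.mk (nat_lit 0x620c458c319628c558e31d624c4d8d31b62cc5d8f31f616c2984b0861ec3986b0c602c0181b0260ac1183b0655eab9532a7550aa550aa0548a9556aac546a89552ab57eaf95aab4560ac55d2bb578af55b2b7566ac95cab8))) (BT.leaf (Bx.mk (nat_lit 0x5b2b61682d15aeb596fade5b6b69692d35a8b556e2dd582b01612c358cb1d62ac4594b2d64ac8598b3567ace694d2da0b4069ad31a3347686d09a4349688d15a7b4e6a2d41adb5a6bcd7daa3556b0d65a93536aed59aeb5c))))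 (BT.node (nat_lit 3) (BT.leaf (Bx.mk (nat_lit 0x508a1546a8c502a0144a8851ca3d43a86514a2d4128352ca5d4ea9c524a4d4ca9852aa514f29f520a454da9a48290125a4a48891527a4e4909252124349893523a464b2961292534ba9712b2574a29412d25b4a89552fa5e))) (BT.leaf (Bx.mk (nat_lit 0x4f49ed39a724fc9fd3ba764f29e1382714fa9f13a2754d09a53526b4d89b53726f4c698930a604ce99932a6466acd19b337662cc199333678cf59fb3e670ce59db3a658cb59732f650ca59532b64ac9193b26642c8191b22))))) (BT.node (nat_lit 6) (BT.node (nat_lit 5) (BT.leaf (Bx.mk (nat_lit 0x794f2de0bc079af31e33c7786f09e43c9788f15e7bce7a2f41edbda7bcf7dea3d57b0f65e93d37aef59eebdc5e6bc97dafa5fabf17a2f55e0bc57c2f95febf97b2f75c4b8d70ae05cab91732e75d0ba575aea5dcbbd76aec))) (BT.leaf (Bx.mk (nat_lit 0x8e11c63c4798e91d63e47d8e51ce3d47b8ed1de3f47f8d71aa34c688df1ba36c6c8c318231c628cb19233c6685f0ba134278510a610c2084909616c2c84708a1542b87f0fa1ac348610c61d43b8790f61b4378670ca1cc38)))) (BT.node (nat_lit 7) (BT.leaf (Bx.mk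 (nat_lit 0x6c8d95b6b6c6c2d81b4b686dcdbdb3b666d4dadb13636ecdddbeb7c6e4dcdbcb786eadd1bf37f6e0dc5bdb7a7e6fc9fdbfa7faff1fa3f57e0fc5fc3f97feff9fb3f77c4f8df0be07caf91f33e77d0fa5f5bea7dcfbdf6bec))) (BT.node (nat_lit 8) (BT.leaf (Bx.mk (nat_lit 0x8b3162284518af15a2fc5e8b716a294538a91562e45d8831022144388d11e22c4489512e24c4889913627c4e774eedd9bb277cefddbbb6772ee1d83b177aef1da3b5750ea5d53ab758eb5d73af746e89d0ba074ee99d2ba4))) (BT.leaf (Bx.mk (nat_lit 0x82b0520b417823042094138390760fc1e8310660dc1a8190360740f8110260540b80b01203c0680300201c02702e01c5b8a708e15c7b8e710e25c1383718e35c3b86732e61c939373ae71cb397722e41cd39b728e55cfb9e))))))) (BT.node (nat_lit 13) (BT.node (nat_lit 11) (BT.node (nat_lit 10) (BT.leaf (Bx.mk (nat_lit 0x1f43ec798f21fc3fc7b8f61f23e0780f11fa3f07a0f51d03a4750eb1d83b4770ef1c6388708e01ce398728e41022004588a1082144788e11022441083118234438861322604909313a2704b0971222404d09b1282544f89e))) (BT.leaf (Bx.mk (nat_lit 0x1e03803007010024008000080140680c0060080500b03e0780a8140200440d01b0380740b0170260480c818148294568ac142280548a815c2bc538a61542ac510a316c2dc5e8bc1642cc5c8b816a2d05f0bf1602c45d8ba))))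 (BT.node (nat_lit 12) (BT.leaf (Bx.mk (nat_lit 0x2264488d91a23a4708a1152204448c11923e4788b11720440c8090020a410831072104248590a21c43c8690c0f21e0380710ee1d83f87e0f61e8390730e81d43e07d0c2180310630cc19c328640d41ac348680d81b43786e))) (BT.leaf (Bx.mk (nat_lit 0x1aa3506b0d71a2340690d31b83746f8de1b03646d8da198334670cf190324650cb18a310638c6182300618c20600c41c0390680d41e03d0640cc1d03b06c0dc1f03f0560a81482805e0b81682c0420801182204a09013826))))) (BT.node (nat_lit 15) (BT.node (nat_lit 14) (BT.leaf (Bx.mk (nat_lit 0x348694d69ac342680d49a835c6bcd39a63546acd11a336c6dcde9bc3646ccdc9b836a6d0df1bf3606c4dd9ba09412c2084009a13023047086108240490881142784e0a21402d85a0bc17c2a0550b0164290530ae1582e85c))) (BT.leaf (Bx.mk (nat_lit 0x3b476ce99d23bc77ceb9d63b2760e81d13ba770ea1d5390724e51cb398734e71cf386708e09c038e718e29c440280105a0a40881507a0e4108250120341883503a064328610921343a8710b2174228410d21b4288550fa1e)))) (BT.node (nat_lit 16) (BT.leaf (Bx.mk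 (nat_lit 0x326648cd99a33a670ca195320644cc19933e678cb19730460cc098030a610c3187310624c598a31c63cc698c2544ac9092025a4b093127246488941292484949792e2624c09d93a27c4fc9a1352704e49913326e4d89e93c))) (BT.node (nat_lit 17) (BT.leaf (Bx.mk (nat_lit 0x29e538a3147290524a0940288514a694c286508a514b2be578aa9542a0544ad15b2b8574ab1572a6548ac95846a8d11b2374628c1192334788f51fa3e4708e51da3a4588b51722f4508a51522b44a89113a2644288111a22))) (BT.leaf (Bx.mk (nat_lit 0x2e05c4bc1792e85d4be17d2e45ccbd17b2ec5dcbf17f2d65a8b49682de5b8b696c2c2580b19622ca590b39663f27e0f81f13ee7d8ff9fe3f67e8f91f33e87d4fe1fd3c2780f11e33cc79cf29e43d47acf49e83d87b4f79ee))))))))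
noncomputable def TW_c5 : BT (Bx Nat) := (BT.node (nat_lit 9) (BT.node (nat_lit 4) (BT.node (nat_lit 2) (BT.node (nat_lit 1) (BT.leaf (Bx.mk (nat_lit 0x2bc57cae15d2b456cac1592ac55caa1552a454ca815129c53ca614d29452ca414928c51ca214528450ca014127c4fc9e13d2744ec9c13926c4dc9a1352644cc9813125c4bc9612d2544ac9412924c49c9212524448c90121))) (BT.leaf (Bx.mk (nat_lit 0x33c67cce19d33466ccc19932c65cca19532464cc819131c63cc618d31462cc418930c61cc218530460cc01812fc5fcbe17d2f45ecbc1792ec5dcba1752e45ccb81712dc5bcb616d2d45acb41692cc59cb21652c458cb0161)))) (BT.node (nat_lit 3) (BT.leaf (Bx.mk (nat_lit 0x3bc77cee1dd3b476cec1d93ac75cea1d53a474ce81d139c73ce61cd39472ce41c938c71ce21c538470ce01c137c6fcde1bd3746ecdc1b936c6dcda1b53646ccd81b135c6bcd61ad3546acd41a934c69cd21a534468cd01a1))) (BT.leaf (Bx.mk (nat_lit 0x43c87d0e21d43486d0c21942c85d0a21542484d0821141c83d0620d41482d0420940c81d0220540480d002013fc7fcfe1fd3f47ecfc1f93ec7dcfa1f53e47ccf81f13dc7bcf61ed3d47acf41e93cc79cf21e53c478cf01e1)))))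 (BT.node (nat_lit 6) (BT.node (nat_lit 5) (BT.leaf (Bx.mk (nat_lit 0x3c07c0e01d03406c0c01902c05c0a01502404c0801101c03c0600d01402c0400900c01c0200500400c0000147c8fd1e23d4748ed1c23946c8dd1a2354648cd1823145c8bd1622d4548ad1422944c89d1222544488d10221))) (BT.leaf (Bx.mk (nat_lit 0xbc17c2e05d0b416c2c0590ac15c2a0550a414c2805109c13c2604d09412c2404908c11c2204508410c2004107c0fc1e03d0740ec1c03906c0dc1a0350640cc1803105c0bc1602d0540ac1402904c09c1202504408c10021)))) (BT.node (nat_lit 7) (BT.leaf (Bx.mk (nat_lit 0x13c27c4e09d13426c4c09912c25c4a09512424c4809111c23c4608d11422c4408910c21c4208510420c400810fc1fc3e07d0f41ec3c0790ec1dc3a0750e41cc380710dc1bc3606d0d41ac340690cc19c320650c418c30061))) (BT.node (nat_lit 8) (BT.leaf (Bx.mk (nat_lit 0x1bc37c6e0dd1b436c6c0d91ac35c6a0d51a434c680d119c33c660cd19432c640c918c31c620c518430c600c117c2fc5e0bd1742ec5c0b916c2dc5a0b51642cc580b115c2bc560ad1542ac540a914c29c520a514428c500a1))) (BT.leaf (Bx.mk (nat_lit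 0x23c47c8e11d23446c8c11922c45c8a11522444c8811121c43c8610d21442c8410920c41c8210520440c801011fc3fc7e0fd1f43ec7c0f91ec3dc7a0f51e43cc780f11dc3bc760ed1d43ac740e91cc39c720e51c438c700e1))))))) (BT.node (nat_lit 13) (BT.node (nat_lit 11) (BT.node (nat_lit 10) (BT.leaf (Bx.mk (nat_lit 0x73ce7dce39d734e6dcc39972ce5dca395724e4dc839171ce3dc638d714e2dc438970ce1dc2385704e0dc03816fcdfdbe37d6f4dedbc3796ecdddba3756e4dcdb83716dcdbdb636d6d4dadb43696ccd9db23656c4d8db0361))) (BT.leaf (Bx.mk (nat_lit 0x7bcf7dee3dd7b4f6dec3d97acf5dea3d57a4f4de83d179cf3de63cd794f2de43c978cf1de23c5784f0de03c177cefdde3bd774eeddc3b976ceddda3b5764ecdd83b175cebdd63ad754eadd43a974ce9dd23a5744e8dd03a1)))) (BT.node (nat_lit 12) (BT.leaf (Bx.mk (nat_lit 0x83d07e0e41d83506e0c41982d05e0a41582504e0841181d03e0640d81502e0440980d01e0240580500e004017fcffdfe3fd7f4fedfc3f97ecfddfa3f57e4fcdf83f17dcfbdf63ed7d4fadf43e97ccf9df23e57c4f8df03e1))) (BT.leaf (Bx.mk (nat_lit 0x8bd17e2e45d8b516e2c4598ad15e2a4558a514e2845189d13e2644d89512e2444988d11e2244588510e2044187d0fe1e43d8750ee1c43986d0de1a4358650ce1843185d0be1642d8550ae1442984d09e1242584508e10421)))))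 (BT.node (nat_lit 15) (BT.node (nat_lit 14) (BT.leaf (Bx.mk (nat_lit 0x4bc97d2e25d4b496d2c2594ac95d2a2554a494d2825149c93d2624d49492d2424948c91d2224548490d202418fd1fe3e47d8f51ee3c4798ed1de3a4758e51ce384718dd1be3646d8d51ae344698cd19e324658c518e30461))) (BT.leaf (Bx.mk (nat_lit 0x53ca7d4e29d534a6d4c29952ca5d4a295524a4d4829151ca3d4628d514a2d4428950ca1d42285504a0d402814fc9fd3e27d4f49ed3c2794ec9dd3a2754e49cd382714dc9bd3626d4d49ad342694cc99d322654c498d30261)))) (BT.node (nat_lit 16) (BT.leaf (Bx.mk (nat_lit 0x5bcb7d6e2dd5b4b6d6c2d95acb5d6a2d55a4b4d682d159cb3d662cd594b2d642c958cb1d622c5584b0d602c157cafd5e2bd574aed5c2b956cadd5a2b5564acd582b155cabd562ad554aad542a954ca9d522a5544a8d502a1))) (BT.node (nat_lit 17) (BT.leaf (Bx.mk (nat_lit 0x63cc7d8e31d634c6d8c31962cc5d8a315624c4d8831161cc3d8630d614c2d8430960cc1d82305604c0d803015fcbfd7e2fd5f4bed7c2f95ecbdd7a2f55e4bcd782f15dcbbd762ed5d4bad742e95ccb9d722e55c4b8d702e1))) (BT.leaf (Bx.mk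 (nat_lit 0x6bcd7dae35d6b4d6dac3596acd5daa3556a4d4da835169cd3da634d694d2da434968cd1da2345684d0da034167ccfd9e33d674ced9c33966ccdd9a335664ccd9833165ccbd9632d654cad9432964cc9d92325644c8d90321))))))))
noncomputable def TW_c7 : BT (Bx Nat) := (BT.node (nat_lit 9) (BT.node (nat_lit 4) (BT.node (nat_lit 2) (BT.node (nat_lit 1) (BT.leaf (Bx.mk (nat_lit 0x2fc5fcbe17d2f45ecbc1792ec5dcba1752e45ccb81712dc5bcb616d2d45acb41692cc59cb21652c458cb01612bc57cae15d2b456cac1592ac55caa1552a454ca815129c53ca614d29452ca414928c51ca214528450ca0141))) (BT.leaf (Bx.mk (nat_lit 0x3fc7fcfe1fd3f47ecfc1f93ec7dcfa1f53e47ccf81f13dc7bcf61ed3d47acf41e93cc79cf21e53c478cf01e127c4fc9e13d2744ec9c13926c4dc9a1352644cc9813125c4bc9612d2544ac9412924c49c9212524448c90121)))) (BT.node (nat_lit 3) (BT.leaf (Bx.mk (nat_lit 0x37c6fcde1bd3746ecdc1b936c6dcda1b53646ccd81b135c6bcd61ad3546acd41a934c69cd21a534468cd01a143c87d0e21d43486d0c21942c85d0a21542484d0821141c83d0620d41482d0420940c81d0220540480d00201)))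 (BT.leaf (Bx.mk (nat_lit 0x3bc77cee1dd3b476cec1d93ac75cea1d53a474ce81d139c73ce61cd39472ce41c938c71ce21c538470ce01c147c8fd1e23d4748ed1c23946c8dd1a2354648cd1823145c8bd1622d4548ad1422944c89d1222544488d10221))))) (BT.node (nat_lit 6) (BT.node (nat_lit 5) (BT.leaf (Bx.mk (nat_lit 0xbc17c2e05d0b416c2c0590ac15c2a0550a414c2805109c13c2604d09412c2404908c11c2204508410c2004133c67cce19d33466ccc19932c65cca19532464cc819131c63cc618d31462cc418930c61cc218530460cc0181))) (BT.leaf (Bx.mk (nat_lit 0x7c0fc1e03d0740ec1c03906c0dc1a0350640cc1803105c0bc1602d0540ac1402904c09c1202504408c1002103c07c0e01d03406c0c01902c05c0a01502404c0801101c03c0600d01402c0400900c01c0200500400c00001)))) (BT.node (nat_lit 7) (BT.leaf (Bx.mk (nat_lit 0x17c2fc5e0bd1742ec5c0b916c2dc5a0b51642cc580b115c2bc560ad1542ac540a914c29c520a514428c500a123c47c8e11d23446c8c11922c45c8a11522444c8811121c43c8610d21442c8410920c41c8210520440c80101))) (BT.node (nat_lit 8) (BT.leaf (Bx.mk (nat_lit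 0xfc1fc3e07d0f41ec3c0790ec1dc3a0750e41cc380710dc1bc3606d0d41ac340690cc19c320650c418c300611fc3fc7e0fd1f43ec7c0f91ec3dc7a0f51e43cc780f11dc3bc760ed1d43ac740e91cc39c720e51c438c700e1))) (BT.leaf (Bx.mk (nat_lit 0x1bc37c6e0dd1b436c6c0d91ac35c6a0d51a434c680d119c33c660cd19432c640c918c31c620c518430c600c113c27c4e09d13426c4c09912c25c4a09512424c4809111c23c4608d11422c4408910c21c4208510420c40081))))))) (BT.node (nat_lit 13) (BT.node (nat_lit 11) (BT.node (nat_lit 10) (BT.leaf (Bx.mk (nat_lit 0x77cefdde3bd774eeddc3b976ceddda3b5764ecdd83b175cebdd63ad754eadd43a974ce9dd23a5744e8dd03a173ce7dce39d734e6dcc39972ce5dca395724e4dc839171ce3dc638d714e2dc438970ce1dc2385704e0dc0381))) (BT.leaf (Bx.mk (nat_lit 0x87d0fe1e43d8750ee1c43986d0de1a4358650ce1843185d0be1642d8550ae1442984d09e1242584508e104216fcdfdbe37d6f4dedbc3796ecdddba3756e4dcdb83716dcdbdb636d6d4dadb43696ccd9db23656c4d8db0361)))) (BT.node (nat_lit 12) (BT.leaf (Bx.mk (nat_lit 0x7fcffdfe3fd7f4fedfc3f97ecfddfa3f57e4fcdf83f17dcfbdf63ed7d4fadf43e97ccf9df23e57c4f8df03e18bd17e2e45d8b516e2c4598ad15e2a4558a514e2845189d13e2644d89512e2444988d11e2244588510e20441)))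 (BT.leaf (Bx.mk (nat_lit 0x83d07e0e41d83506e0c41982d05e0a41582504e0841181d03e0640d81502e0440980d01e0240580500e004018fd1fe3e47d8f51ee3c4798ed1de3a4758e51ce384718dd1be3646d8d51ae344698cd19e324658c518e30461))))) (BT.node (nat_lit 15) (BT.node (nat_lit 14) (BT.leaf (Bx.mk (nat_lit 0x53ca7d4e29d534a6d4c29952ca5d4a295524a4d4829151ca3d4628d514a2d4428950ca1d42285504a0d402817bcf7dee3dd7b4f6dec3d97acf5dea3d57a4f4de83d179cf3de63cd794f2de43c978cf1de23c5784f0de03c1))) (BT.leaf (Bx.mk (nat_lit 0x4fc9fd3e27d4f49ed3c2794ec9dd3a2754e49cd382714dc9bd3626d4d49ad342694cc99d322654c498d302614bc97d2e25d4b496d2c2594ac95d2a2554a494d2825149c93d2624d49492d2424948c91d2224548490d20241)))) (BT.node (nat_lit 16) (BT.leaf (Bx.mk (nat_lit 0x5fcbfd7e2fd5f4bed7c2f95ecbdd7a2f55e4bcd782f15dcbbd762ed5d4bad742e95ccb9d722e55c4b8d702e16bcd7dae35d6b4d6dac3596acd5daa3556a4d4da835169cd3da634d694d2da434968cd1da2345684d0da0341))) (BT.node (nat_lit 17) (BT.leaf (Bx.mk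 (nat_lit 0x57cafd5e2bd574aed5c2b956cadd5a2b5564acd582b155cabd562ad554aad542a954ca9d522a5544a8d502a167ccfd9e33d674ced9c33966ccdd9a335664ccd9833165ccbd9632d654cad9432964cc9d92325644c8d90321))) (BT.leaf (Bx.mk (nat_lit 0x63cc7d8e31d634c6d8c31962cc5d8a315624c4d8831161cc3d8630d614c2d8430960cc1d82305604c0d803015bcb7d6e2dd5b4b6d6c2d95acb5d6a2d55a4b4d682d159cb3d662cd594b2d642c958cb1d622c5584b0d602c1))))))))
noncomputable def TW_c9 : BT (Bx Nat) := (BT.node (nat_lit 9) (BT.node (nat_lit 4) (BT.node (nat_lit 2) (BT.node (nat_lit 1) (BT.leaf (Bx.mk (nat_lit 0x614c2d80b0061ac3183307606c0984309608c1587b0e622c418db1a63cc7d8a315630c658931362ec598eb1c560ac55c2b9568ad55e2bd564acd5d2bb56cadd5f2bf556aa954aa855eab956aac542a8151aa254aa9153aa6))) (BT.leaf (Bx.mk (nat_lit 0x5aab516b2d75a2b41692d35b8b756fade5b0b656dada598b35672cf590b25652cb58ab1163ac6582b0161ac269ed39a3347690d25a0b40688d15a6b4c686d09a534b6bed79aab546a0d45ad35b6b8d75ab3576a6d49acb58))))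 (BT.node (nat_lit 3) (BT.leaf (Bx.mk (nat_lit 0x502a0145a8a508a1547a8e510a2541283518a3543a86532a614929353aa714b297522a414d29b528a554fa9e4b496d29a524bc97d2ba564b2961282514ba9712a2554909252524b4989352724f48690920a4048e91922a44))) (BT.leaf (Bx.mk (nat_lit 0x4c899536a6c4c298134a684dc9bd33a664d49ad312634ec9dd3ea7c4e49cd3ca784ea9d13f27f4e09c53da7a666cc99db3a67acf19a335660cc59c33967ecf99b337644c8d90b2064ac9193327650ca595b2a65ccbd96b2c))))) (BT.node (nat_lit 6) (BT.node (nat_lit 5) (BT.leaf (Bx.mk (nat_lit 0x7a0f45ec3d97a8f55ee3dd7a4f4ded3db7acf5def3df796f29e4bc879ef39e6bcc782f01e1bc278af11e3bc65f2be1782f15eebd97fafe5f6be9792f35e8bd57e2fd5c2b81712e35ccb9d72ae45d4bad74ae85d8bb577aee))) (BT.leaf (Bx.mk (nat_lit 0x8df1ba334678d11a630c608c919636c6c8c718a3546b8ff1fa3ac748e11c63d47b8f91f63b4778e71ca3cc788550ae10c2085b0b21342784708a1442984909617c2e8630c21dc3a87d0fe1a4358710e61943386f0da1ec3c)))) (BT.node (nat_lit 7) (BT.leaf (Bx.mk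 (nat_lit 0x6f4dedb9b726fcdfdbbb766f2de1b83716fadf1ba3756d0da5b536b6d8db5b736f6c6d89b0b606ced99b2b647eafd1fb3f77e2fc1f93f37f8ff5ffbfe7f0fe5fdbfa7d8fb5f73ef7d0fa5f53eb7caf91f3be67c2f81f1be2))) (BT.node (nat_lit 8) (BT.leaf (Bx.mk (nat_lit 0x8a714a2dc5a8bb1722a4558a11462c4598bf17a2b45788510e20c4088b1122344789112625c4a89d13e26c4c742e81d5baa748e95d7bae750ea5d13a3758eb5d3ba6772ee1d93b377aef1db3b7762ec1dd3bb768ed5dfbbe))) (BT.leaf (Bx.mk (nat_lit 0x8330620841182f05a0fc1e83706a094138290560e41d8030020140380d01e02c0481502e04c0881903607c0e708e15c6b8c702e01c4b8871ce3dc3b86714e2dc138372ce5dceb9c724e4dccb9872ae51cf39f720e45cdb9a))))))) (BT.node (nat_lit 13) (BT.node (nat_lit 11) (BT.node (nat_lit 10) (BT.leaf (Bx.mk (nat_lit 0x1c8394768ec1c2380748e81dc3bc738e61d43ac710e31ec3dc7e8fc1e43cc7c8f81ea3d07f0ff1e03c47d8fa13426c4989213c27c4b8961322604809113a2704a0951102244508b1182344708f1062084088010e21842884))) (BT.leaf (Bx.mk (nat_lit 0x200440c0190280540e01d02404c0d01b02c05c0f01f0160280480801e0380680c0020000180200a01003806142280558aa148294578ae1502a4510a31582b4538a61722e0590b317a2f05b0b71622c05d0bb1682d45f8be))))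 (BT.node (nat_lit 12) (BT.leaf (Bx.mk (nat_lit 0x2324608811122e4588f91e236468891132284548e11d2024008110320c41c8290421442c849082184348790e0ea1d03b0770e21c0390730f81f43f87e0f01e43d87a0d81b43706f0d01a43506b0ca190338660c218031862))) (BT.leaf (Bx.mk (nat_lit 0x1a63486d8da1ba3706a0d51a03446c0d91be3786b0d718430c608c018a310630c7190324658ca19c33c668cc0540ac1082005a0b013027046088140290480941782e0620c01d83a07c0fc1a0350700e41903306e0d81e83c))))) (BT.node (nat_lit 15) (BT.node (nat_lit 14) (BT.leaf (Bx.mk (nat_lit 0x3746ecd99b237c6fcdb9b63726e0d81b137a6f0da1b53506a4d51ab3586b4d71af346688d09a034e698d29a409e13823047090124208400881142684c0861082504b0be1782a8540a01442d05b0b81742b0570a61482c858))) (BT.leaf (Bx.mk (nat_lit 0x382700e59ca388714e79ce390724e11c3398734e39c63b2760e91d33ba770eb1d73a2740ed1db3a8754ef9de40881506a0c40280104a0841c83d03a0641482d0120342c85d0ea1c42484d0ca1842a8510f21f4208450da1a)))) (BT.node (nat_lit 16) (BT.leaf (Bx.mk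 (nat_lit 0x32a650cb197322640c9193338674cf99e330664cd99a318634c718f310624c518b30a610c3986302600c19822604c49c1392684d49e13d2644cc9d13b26c4dc9f13f2564a89492825e4b89692c2424809192224a49093926))) (BT.node (nat_lit 17) (BT.leaf (Bx.mk (nat_lit 0x29452ca094029a530a3147286508a4149288514a794e2a2540ad95a2bc57caa1552b0564a91532ae558ae95c4728e11823146e8d91fa3e4768e9192334688d51e23d4428811122344c89d12a244548ad14a284588b517a2e))) (BT.leaf (Bx.mk (nat_lit 0x2de5b8b31672d05a4b09602c8594b696c2c6588b516b2fe5f8ba9742e05c4bd17b2f85f4bb1772e65c8bc9783e67c8fd9fa3fa7f0fa1f53e07c4fc1f93fe7f8fb1f73c478cf09e03ca790f31e73d07a4f59ea3dc7bcf69ec))))))))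
noncomputable def TW_c11 : BT (Bx Nat) := (BT.node (nat_lit 9) (BT.node (nat_lit 4) (BT.node (nat_lit 2) (BT.node (nat_lit 1) (BT.leaf (Bx.mk (nat_lit 0x288514a694c282500a494829c53ca394629452ca11432ac55cae95c2a454cac9582aa550af15f2a0544ad95a2744ec9993227c4fc9b9362724e09813127a4f09a1352504a49512b2584b49712f2464889092024e49892924))) (BT.leaf (Bx.mk (nat_lit 0x320644cc199328654ce19d32464ccd19b32c65ccf19f316628c498831e638c698c302600c198230a610c39862c2580b596a2c8594b796e2d05a4b11632d85b4b39662f25e0b91732fa5f0bb1772e25c0bd17b2e85d4bf97e)))) (BT.node (nat_lit 3) (BT.leaf (Bx.mk (nat_lit 0x3b2760e81d13ae758ef9de3b6768e91d33a8754ee1dd382700e11c338c71ce29c439472ce49c8398734e79ce36a6d0db1b73626c0d91b33786f4df9be3706e4dd9ba3586b4d71af3506a4d51ab34a690d39a6342680d19a2))) (BT.leaf (Bx.mk (nat_lit 0x4268490da1a43a8710a2154208450c21943e8790b21740480d00a0040a8110320741082505a0a41c83d06a0c3d47acf09e03da7b0f31e73c6788f41e93c8794f79ee3e27c0fd9fa3fc7fcfa1f53f07e4f91f33ee7d8fe9fc)))))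 (BT.node (nat_lit 6) (BT.node (nat_lit 5) (BT.leaf (Bx.mk (nat_lit 0x3406c0981203c07c0b8160320600801103a0700a0150100240500b0180340700f0060080080000e0180280445e8b9132274508a510a2044889516a2c4468891522b47e8f91aa344608c51d23b4788f51b2374668c91ca38))) (BT.leaf (Bx.mk (nat_lit 0x821002584a0881142784e09012421043098134238460b2160290530ba1702b0570a21402d05b0a81542f85e0480941682c0420801482805c0bc138260540ac1102306c0dc1e83c0640cc1c83806a0d01f03f0600c41d83a)))) (BT.node (nat_lit 7) (BT.leaf (Bx.mk (nat_lit 0x12a2504b097122240490931382744f89e1302644d89a1182344708f1102244508b10a21043886102200418820e01c43c0790e81d43e07d0e41cc3d07b0ec1dc3f07f0d61a8348680de1b83686c0c2180318620ca19033866))) (BT.node (nat_lit 8) (BT.leaf (Bx.mk (nat_lit 0x19432c608c019a330630c7186308640c9188314678ce1a23406d8da1bc37c6a0d51b0364690d31ae3586e8dc1722e0580b116e2d85f8be1762e8590b31682d45e0bd142280510a314c29c528a41542ac548a81582b4578ae))) (BT.leaf (Bx.mk (nat_lit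 0x21e43883107210424809002084148690c2064088510b23e4788a9142204448d11b2384748b1172264488c9181e63c87d8fa1fa3f07a0f51e03c47c0f91fe3f87b0f71c438c708e01ca390730e71d03a4758ea1dc3bc768ec))))))) (BT.node (nat_lit 13) (BT.node (nat_lit 11) (BT.node (nat_lit 10) (BT.leaf (Bx.mk (nat_lit 0x714e2dc0b8071ae31c3387706e09c4389708e15c7b8e722e41cdb9a73ce7dca395730e65c939372ee59ceb9c6e0dc5bc3796e8dd5be37d6e4dcdbd37b6ecdddbf37f6d6da9b4b686dedb9b6b6c6c2d81b1b626cad91b3b66))) (BT.leaf (Bx.mk (nat_lit 0x7aaf51eb3d77a2f41e93d37b8f75efbde7b0f65edbda798f35e73cf790f25e53cb78af11e3bc6782f01e1bc275eeb9d33a7750ea5d0ba0748e95d6bac746e89d53ab77eef9dabb4760ec5dd3bb778ef5db3b7766ec9dcbb8)))) (BT.node (nat_lit 12) (BT.leaf (Bx.mk (nat_lit 0x80300205c0a80901607c0e8110260140381903603c068330620941383b0720b4178230420d41b8290560fc1e7f4fedf9bf27fcffdfbbf67f2fe1f83f17faff1fa3f57d0fa5f53eb7d8fb5f73ef7c6f89f0be07cef99f2be4))) (BT.leaf (Bx.mk (nat_lit 0x88911626c4c88310224c4889d13e23c4689512e214438ad15e2ec5c8a514e2cc588ab1522f45f8a11462dc5a8670ca1dc3a87b0f21a4358610c61c43987f0fa1b43784508e10c2084b092134278510a615c2a85d0be16c2c)))))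 (BT.node (nat_lit 15) (BT.node (nat_lit 14) (BT.leaf (Bx.mk (nat_lit 0x4a09452c2594a89552e25d4a494d2d25b4ac95d2f25f49692924a4849e93926a4c48290121a4248a91123a468f31e2384718ef1da3fc7e8f71ea394738e91d63e47d8c3182314638cd19e32c648d51ae34c688d91b637c6e))) (BT.leaf (Bx.mk (nat_lit 0x51ea3943287510a2540a80508a1546a8c506a094528b53ea794aa94520a454d29b538a754b297526a494ca984d49ad30a604da9b1332674c6989342694c899537a6e4e29c13da7a4fc9fd3a2754f09e5392734ee9d93ea7c)))) (BT.node (nat_lit 16) (BT.leaf (Bx.mk (nat_lit 0x5b4b6d69ad25bcb7d6bad65b2b61682d15bab716a2d5590b25652cb598b35672cf586b0960ac058eb1962ac456aad15b2b7562ac1592b3578af55fabe570ae55daba558ab5572af550aa5552ab54aa9153aa6542a8151aa2))) (BT.node (nat_lit 17) (BT.leaf (Bx.mk (nat_lit 0x626c498db1a63ac718a315620c458c31963ec798b317604c0d80b0060ac1183307610c2585b0a61cc3d86b0c5c2b8175aea5c8b9577aee5d0ba5712e35d8bb573ae65f2be1792f35fabf17b2f75e2bc17d2fb5e8bd57fafe))) (BT.leaf (Bx.mk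 (nat_lit 0x6b2d61a83516aed59afb5e6b6d69a93536a8d55ae35d682d01a134368cd1da2b44694d2da4b48698d35a7b4e648c9596b2c642c8194b2865ccbd93b26654cad9132366ccdd9eb3c664ccd9cb3866acd19f33f660cc59db3a))))))))
noncomputable def TW_w : BT (Bx Nat) := (BT.node (nat_lit 9) (BT.node (nat_lit 4) (BT.node (nat_lit 2) (BT.node (nat_lit 1) (BT.leaf (Bx.mk (nat_lit 0x7b7501b9b5731000001b71000b9b9570000000b70009b9793000009357000b9b573000357b5300057b935000009b7900000b9730001b973100019b791000979b750007b71b100079b75300097b735000009b9700000b7930001b979100019b731000009b7300000b979000009573000b9b3570000057b50b1b9b731000357b9500057b1b10b1b9b971000000057000b195310001b9b31000000093000b9b5350000019310b1b9b53100000953500000b9b3000009b5300000b9350001b9531000b19b31000009b3500000b953000b1b93100019b5310b319513105319b13100079b9570003191310319b51310b531913100079b5730007b9357000001b5100000b9b90000000b50001b9b91000009b9500000b1b10b1b9b951000000000))) (BT.leaf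 (Bx.mk (nat_lit 0x91b531000b9b1310001b9b9300000b5130009b1b31000b951310b1b9b9530000000130009b951300000b1b30b9b1b531000009131000b9b913000001b53000b91b310009b5131000b319510005319b1000b53191000319b51000b319b10005319510b5319b51000003191000b1b9b5000000019000001b9500000b19b0000019b500000b1b900000b195000001b9b00000b57501b9b7531000007953000b9b7350000057b707b1b9b31000007935000b9b7530000079b30000097b900071b9310001979b100000979b000007b93000197b91000719b310009b5753000b1b751000357b97000957b730009b5735000b71b71000357b73000957b970000071b1000b9b79500000007b000979b930000079b90000097b307b1b9b91000000075)))) (BT.node (nat_lit 3) (BT.leaf (Bx.mk (nat_lit 0xb9b7935100000753100057b97100071b9130b9b79531000007351000b575310009b1b75000b573510009b71b7000007b31000979b9100057b73109357b9710000097b100079b9310009b57510007319b3000357b7100019719b000957b7100031979b000b357510009719b3000007b91000979b31000b9b71b0000079510000079b100097b93100000791b000b9b7510b9b953510000000310007b95710001b9513000b9b931000005351000b195130001b9b1300019b513000b1b91300000b5310009b9351000001913079b9357100000b3510009b9531000b319530005319b300079b571000b319b3000003193079b95731000b53193000319b5300000b951000009b1b000b9b1b5000000091000009b5100000b91b0000091b500000b9b1)))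 (BT.leaf (Bx.mk (nat_lit 0xb9b9357100000573100000b9710009b7931000b9b1b70000095710007b75310001b97190007b73510979b753100057b5310357b935100000b7310009b979100057b351000319b7900079b751000319b73000009b71000b9793100000b7910009b973100097b75100079b71b00057b9510001b97130b9b95731000003571000357b5100057b91b0000091b7000b9b57100091b731000b97191000b1b9b7000001957000001b9700019b79309b71b9510000057130007b71b90005319710009b9719000001b73000b71b95000957131057b91b31000319571000719b75000319b710000019b70001b9793000b979130009b71310009b9713000001b7909b97913100000b71300091b791000b97131000b3197100057b1b900000b1970001b9b57))))) (BT.node (nat_lit 6) (BT.node (nat_lit 5) (BT.leaf (Bx.mk (nat_lit 0x1b9b5310000b19310000b9b3500000095300b1b9b310000195310000b9b530000009350000b95350000009b300b19b53100001b931000000b9300009b535000019b3100b1b953100319b1310079b575300531913100357b95700b3191310079b57350057b93570031951310000b9b950000001b1001b9b95100000000b0000b1b510000009b900000000500b1b9b91000791b31000b19b750979b9131000007b13000979b130007b9131031979b9100000751300079b91300000197b0b9b71b310007951310001979b90000071b300097b91300079b13100097b1910007319b10007b31910009719b1019719b31000731951000b71b970009719510007b1b9b0000071950000071b90001979b300000719b000197b93000007b190001b9b75)))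 (BT.leaf (Bx.mk (nat_lit 0x9b791b1000000b7500b9b5735000071b7100979b9730000007b700b9b575300001b7510000957b90000357b300007b9730000979b7000057b9300009357b0000b71b100009b7950000b793500009b753000097b73000079b970000b795300009b735000097b97000079b7300b197b910000571b1009357b9300000057b0000957b30000357b9000000575b1b9b7531001b9b7310000197910000b9b97000000793001b9b971000000b570000b9b7300000097900007b935000079b530000b957300009b35700007b953000079b3500719b531007b1b93100957b7350031979130000b1b7100009b9570019b573100b1b97310000b935700009b5730000b9b79000000973001b9b7910000007b500007b1b1000079b9500000000700b9b9793)))) (BT.node (nat_lit 7) (BT.leaf (Bx.mk (nat_lit 0x53100b9b935100001b9130057b957100000035100b9b9531001b9b5130000b191300b1b9513000019b13009b95351000000b3100b1b9b1300001951300009b9310000b53510000319b30079b575100b5319b300003195300b319b53000053193005319b530000b319300009b1b5000000b910000009510000b9b1b0000b91b50000009b10000b9b5100000091b00b9b5131000091b31000000b13001b9b9530000b9131009b1b53100000051300b1b9b930000b1b5300009b91300009513100b9b1b310000001b300b9b951300009b13100b91b5310000319b100b531951005319b510000b319100003195100b5319b100005319100b319b510000001950000b1b9b0000b19b50000001b90000b1b9500000019b00001b9b5000000b19)))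 (BT.node (nat_lit 8) (BT.leaf (Bx.mk (nat_lit 0xb9b7131000097913000000197001b9b7930000b19b700001b957000000713001b9b9790000319710079b951300007913100b9b971300009713100b91b7910079b5131007b91b31009719b510031979310000b1b97000019b5700009719100b91b7310000731910097b19b1000000719001b9b97300007b19b000071b9500007b1b90000719b500001b9b700001979300005753100b9b1b7500979b73100007b97100005735100b9b71b7009b793510000b7531009b795310000b7351009357b91000057b3100979b97100007b73100357b9310000957b10000b791b00009b7510097b9731000079b710079b9731000097b7100009b71b0000b7951009357b31000057b9100003575100b9719b300957b9310000357b100b9b5751000091b75))) (BT.leaf (Bx.mk (nat_lit 0x7b9719100001b753000057b13009b71b910057b9131000071b9700005751300b1b9b7500001957b0000b71b9000071b7300b9719b10000571b300b197b9300001b73500957b91300b791b31000019b75009b71b310000719b700001b7950019b71b10000197b70079b971300007b7130057b1b9b0000b197b0000571b9009719b710000b71b3009b791b30000b751300000073100b9b979100009b1b70000b957100000097100b9b7931001b9b713001979131007b1b9130057b73510079b935100007b531009b935710000b57310079b953100007b351009719b530000319790000b91b700009b571009b957310000b357100b1b9713000019719000079b1b00007b95100000079100b9b973100007b91b000079b510000b9b71000097931)))))))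 (BT.node (nat_lit 13) (BT.node (nat_lit 11) (BT.node (nat_lit 10) (BT.leaf (Bx.mk (nat_lit 0x9357100b9b5731000000b71009b979310000001b700b9b957100007b751001b9b57300007b71b00979b751000019b7900001b9730000b973100009b7910057b935100357b5310079b75310097b735100009b9710000b79310000b979100009b731000019b7300001b979000057b5100b1b9b7300009573100b9b357100357b951000057b1b00b1b9b970000005710000953510000b9b3100000019300b1b9b5300000093100b9b53510000b195300001b9b3000019b530000b1b930000b953100009b3510000b19b300001b9530000b935100009b53100b319513005319b130079b9571000031913007b935710079b573100b53191300319b513000000b5100001b9b90000001b50000b9b9100009b951000000b1b00b1b9b95000000001))) (BT.leaf (Bx.mk (nat_lit 0xb195131001b9b1310000b9b9300000053500007b957001b9513100b9b953500000000300009b953000000b350079b935700001913100009b935000000b5300b1b91310019b513100b319531005319b31000079b5700b319b3100319b53100b5319310079b957300003193100b9b1b51000000009000000b9500009b1b10000009b50000b91b1000091b51000000b9b00007935100b9b7531000057b71007b1b9b300007953100b9b73510000b5751001b9b7530000719b30000197b900007b9310000979b100001979b000071b93000097b91000079b31009b575310000b1b7500357b97100957b73100957b97100357b7310000b71b7009b573510000007b100979b93100000071b00b9b7951000079b91000097b31007b1b9b9000000751))))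 (BT.node (nat_lit 12) (BT.leaf (Bx.mk (nat_lit 0x31979b900007513100979b13100007b91300979b91300007b1310000791b300b19b751000079b130097b9131000071b31001979b9100007951300b9b71b30000197b10079b9131000097b1900007319b00007b31900009719b00009719500b71b9710000731950019719b3000071b91001979b31007b1b9b10000719510000719b100197b93100007b191001b9b751b1b9b953100000013100009b1b30000b9513001b9b9310000b5131000091b530000b9b1300009b5130000b91b300001b53100b9b913100000091300b9b1b530000b1b31009b951310000b319500005319b0000b53190000319b500000031900b5319b50000531950000b319b00001b9510000b19b100b1b9b51000000191000019b510000b1b910000b195100001b9b1))) (BT.leaf (Bx.mk (nat_lit 0x9b71b9500005713100001b9710019b793100b1b9b71000019571000091b730000b97190000319570057b91b300009571300b71b95100001b731009b97191000053197007b71b9100719b7510000319b7000019b71001b9793100001b791009b9713100009b71300b979131000091b790000b9713009b979130000b71310000b31970057b1b910000b1971001b9b57100007b753001b9719100b9b1b71000000957000000b9700009b79300b9b935700000057300319b791000057b3500009b979000000b7300357b935000057b5300979b75300007b735000079b7500319b7310000009b70000b97930079b71b1000097b7500009b973000000b7900b9b9573000000357000057b95001b971310000357b50057b91b1000091b710000b9b57)))))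 (BT.node (nat_lit 15) (BT.node (nat_lit 14) (BT.leaf (Bx.mk (nat_lit 0xb9b531000009351000b1b9b3000001953000b9b3510000095310001b9b5300000b193000b1b9530000019b30009b535100000b931000001b93000b19b53000009b31000b95351000319b13079b575310005319130357b9571000319513057b93571079b57351000b319130001b9b950000000b1000b9b95100000001b00000b1b5000009b91000000051000b1b9b90000b5753009b1b75100b9b7953000000735000057b970071b913100b9b7935000000753000079b9300000097b009357b97000057b730000979b90000007b3009b71b710000b573500009b575007319b310000357b70019719b1009719b310000b35750031979b10000957b700b9b71b10000007950000007b90000979b300000079b000097b930000791b10000b9b75))) (BT.leaf (Bx.mk (nat_lit 0xb9b57531000001b750979b9731000007b710b9b573510000071b70009b791b00000b7510009b795100000b71b0009357b100057b931000979b710007b9731000357b31000957b91000b793510009b753100097b73100079b97100079b73100097b9710009b7351000b7953109357b9310000057b1000b197b900000571b000957b31000357b910000057510b1b9b753000b9b7310000097910001b9b9700000b571000b9b9710000079310001b9b730000019790007b1b93000719b5300079b3510007b95310009b3571000b9573100079b5310007b93510957b735103197913100000b1b70009b95710009b5731000b93571000b1b97300019b5730001b9b79000007b51000b9b791000009731000007b1b00079b9510000000710b9b97931))))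 (BT.node (nat_lit 16) (BT.leaf (Bx.mk (nat_lit 0x51310b1b9b93100000b9130009b1b5300000b13101b9b9531000b9b5130000091b3000b91b53000009b130b9b95131000001b31000b9b1b30000095130009b9131000b1b53100000319b000b531950005319b500000b319000b319b5000005319000b5319b000003195000b19b51000001b91000001951000b1b9b1000b1b9510000019b10001b9b5100000b19101b9b5131000b19131000000035000b9b9530001b913100057b957000000053000b9b93500000b535000009b930001951310b1b9b1310000000b30009b953500019b1310b1b95131000319b3100079b5750b5319b31000319531000b3193105319b5310005319310b319b531000000095000b9b1b10009b1b510000000b9000b91b5100000009b00000b9b50000091b1))) (BT.node (nat_lit 17) (BT.leaf (Bx.mk (nat_lit 0x1b9b7131000197913000000097000b9b7930009b1b7100000b957000000073000b9b979000007b3500079b95300000b5730009b9357000007b5300079b93500057b73507b1b913109719b531000319791000b91b71000009b570001971910b1b9713100000b3570009b9573000000079000b9b97300079b1b1000007b950007b91b10000079b500000b9b70000097930005751310b1b9b75100057b91300071b97100057b1310009b71b90007b97190001b75310957b91310001b73510b197b931000571b31000b9719b00071b731000b71b910001957b1000b791b300019b7510009b71b3000719b71079b97131000197b7100019b71b0001b7951000b197b1000571b910007b7131057b1b9b10009719b7000b71b3109b791b31000b75131)))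 (BT.leaf (Bx.mk (nat_lit 0x9b793500000b7530000057350b9b71b71000979b73000007b970000057530b9b1b75100000957b000357b93000007b73000979b970000057b30009357b900000b7350009b7953000b791b1000009b7500097b9730000079b700000b7950009b71b10000097b700079b9730000035750b9719b310009357b30000057b9000957b9300000357b000b9b57500091b75100000713101b9b9791000b19b710001b957100000197101b9b7931000b9b7130009791310007b91b300079b513000b91b790000097130b9b97131000007913079b951310000031970009719b5000319793000b1b97100019b57100097b19b000007319000b91b730000097190007b19b100071b95100000719101b9b97310007b1b91000719b510001b9b71000197931))))))))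
noncomputable def TW_cols : List (BT (Bx Nat)) := [TW_c0, TW_c1, TW_c1, TW_c3, TW_c3, TW_c5, TW_c5, TW_c7, TW_c7, TW_c9, TW_c9, TW_c11, TW_c11]
noncomputable def TW_ch (x j : Nat) : Bx Nat := chk TW_cols x j
noncomputable def TW_wc (_ j : Nat) : Bx Nat := TW_w.get j
noncomputable def TW : CT := ⟨(nat_lit 1152), (nat_lit 11), (nat_lit 2047), TW_ch, (nat_lit 36), (nat_lit 0xfffffffff), TW_wc, (nat_lit 8190)⟩
noncomputable def T36_c0 : BT (Bx Nat) := (BT.leaf (Bx.mk (nat_lit 0x8e28607de75c51765869655b4ce24a3523c721044b306143101080)))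
noncomputable def T36_c1 : BT (Bx Nat) := (BT.leaf (Bx.mk (nat_lit 0x8607de8e261a34e6d354929675014645c6440d750c2d23c81c0081)))
noncomputable def T36_c2 : BT (Bx Nat) := (BT.leaf (Bx.mk (nat_lit 0x7de8e28604ce65c35d2945c96063d215a6c81d55840d044c2c1002)))
noncomputable def T36_c3 : BT (Bx Nat) := (BT.leaf (Bx.mk (nat_lit 0x89d8187938d74553e149b4197dc59a50a14230634120e24010b1c3)))
noncomputable def T36_c4 : BT (Bx Nat) := (BT.leaf (Bx.mk (nat_lit 0x7636214df89259052071168f7976d564624b08e14704a34300c204)))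
noncomputable def T36_c5 : BT (Bx Nat) := (BT.leaf (Bx.mk (nat_lit 0x71a5d54903a33222ca84880719f11e0dd09b6580565130113cd245)))
noncomputable def T36_c7 : BT (Bx Nat) := (BT.leaf (Bx.mk (nat_lit 0x6d959444f34c8cb8892211e01447c378275c6816175404d240e286)))
noncomputable def T36_w : BT (Bx Nat) := (BT.leaf (Bx.mk (nat_lit 0x754275327541753107540753075207420542073205320751074105410731053100750074005400730053007200520042003200710051004100310007000500040003000200010000)))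
noncomputable def T36_cols : List (BT (Bx Nat)) := [T36_c0, T36_c1, T36_c2, T36_c3, T36_c4, T36_c5, T36_c5, T36_c7, T36_c7]
noncomputable def T36_ch (x j : Nat) : Bx Nat := chk T36_cols x j
noncomputable def T36_wc (_ j : Nat) : Bx Nat := T36_w.get j
noncomputable def T36 : CT := ⟨(nat_lit 36), (nat_lit 6), (nat_lit 63), T36_ch, (nat_lit 16), (nat_lit 65535), T36_wc, (nat_lit 510)⟩
noncomputable def TB_c0 : BT (Bx Nat) := (BT.node (nat_lit 1) (BT.leaf (Bx.mk (nat_lit 0x7ae9fb164fa233811a1b470ede2056b90aa5eb0fa34a993a450756b05279117366079a3858811244ca15323860d12285850e184040608080))) (BT.leaf (Bx.mk (nat_lit 0xefcfa75edaf6f0d5bb8ece5bee60cb773e2bf930e8c76f369bd329cdaf42454b32a4d69f2ec5a9d4a8d58eda0b96b0a2b7))))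
noncomputable def TB_c1 : BT (Bx Nat) := (BT.node (nat_lit 1) (BT.leaf (Bx.mk (nat_lit 0xaaae9264b467a39d2659f428239c8d10d437d00b182ef1d9b70459b268407b048b45a84ea45091a3111e3a149923254a02080c7070c20001))) (BT.leaf (Bx.mk (nat_lit 0xe7c36ebef9f2f6c583adde972cd7e5538d3a1be6ee992b66a91174c2d105fe6c8f5d6372df0df6b79b5b62bed2e5962b2a))))
noncomputable def TB_c3 : BT (Bx Nat) := (BT.node (nat_lit 1) (BT.leaf (Bx.mk (nat_lit 0x51513a9609282d43350479520ebb3715c18845de3f7a509ba2465bb51e5588d5e3112c5424f264a8c3073e20e1a0610b0e204408a1600282))) (BT.leaf (Bx.mk (nat_lit 0xe9c7777d5a3b64c7d6fe1b9ced72ad629f0df3f64cdb3a4eb97a6266839e1becb02339c579b60b6ceeb26945759aaaebd2))))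
noncomputable def TB_c5 : BT (Bx Nat) := (BT.node (nat_lit 1) (BT.leaf (Bx.mk (nat_lit 0x949e9c79d411cf4a826223d253438a6a21c2f04c957cc5b9272d083622cc72c18b948a562d4080e90fa10a7421b2c60114260478d0024303))) (BT.leaf (Bx.mk (nat_lit 0xebcbbecdbdb367d3879f4bb6f7d8e1c6a52a36774d97575c8d51b1688502f657b931ba70ef035befd95c79697ad615d556))))
noncomputable def TB_c7 : BT (Bx Nat) := (BT.node (nat_lit 1) (BT.leaf (Bx.mk (nat_lit 0x7ef9ebc76e9cb86ed9ab466c98b05eb96ac56a94a84e992a446890a03e78e9c3668c982e58a9426488901e3868c16284880e182840608080))) (BT.leaf (Bx.mk (nat_lit 0xefdbaf4e7cb8f0dfbb6ecd7ab4e8cf9b2e4c78b0e0bf7aedcb76acd8af5aad4a74a8d09f3a6cc972a4c88f1a2c4870a0c0))))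
noncomputable def TB_c9 : BT (Bx Nat) := (BT.node (nat_lit 1) (BT.leaf (Bx.mk (nat_lit 0xa8a1352a2966229a84fcb92764463904cc2305a03e28f5d1322e1b0f6a3992f1a2d6ab12a842748191854078d833408b9502488001828384))) (BT.leaf (Bx.mk (nat_lit 0xeddf7f1e1a7a73eb8f15ecb9395ab3575eaddb67509fb25538fa33c38b1333fb8f1de0bf85bb969759b1b6c2bd6b0b1729))))
noncomputable def TB_w : BT (Bx Nat) := (BT.node (nat_lit 1) (BT.leaf (Bx.mk (nat_lit 0x35913000005951300000935130000013513000001359100000359510000059351000009135100000359310000059531000009353100000135310000059131000009513100000351310000001359000000359500000059350000009135000000359300000059530000009353000000135300000059130000009513000000351300000035910000005951000000935100000013510000005931000000953100000035310000009131000000513100000003590000000595000000093500000001350000000593000000095300000003530000000913000000051300000005910000000951000000035100000009310000000531000000013100000000590000000095000000003500000000930000000053000000001300000000910000000051000000003100000000090000000005000000000300000000010000000000)))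 (BT.leaf (Bx.mk (nat_lit 0x13591351310135913513013591353101359351310359135131001359135300135935130035913513001359135100135935310035913531001359513100359351310059135131000135913500013593530003591353000135951300035935130005913513000135935100035913510001359531000359353100059135310001359131000359513100059351310009135131000013593500003591350000135953000035935300005913530000135913000035951300005935130000913513000013595100003593510000591351000013593100003595310000593531000091353100003591310000595131000093513100001351310000013595000003593500000591350000013593000003595300000593530000091353))))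
noncomputable def TB_cols : List (BT (Bx Nat)) := [TB_c0, TB_c1, TB_c1, TB_c3, TB_c3, TB_c5, TB_c5, TB_c7, TB_c7, TB_c9, TB_c9]
noncomputable def TB_ch (x j : Nat) : Bx Nat := chk TB_cols x j
noncomputable def TB_wc (_ j : Nat) : Bx Nat := TB_w.get j
noncomputable def TB : CT := ⟨(nat_lit 120), (nat_lit 7), (nat_lit 127), TB_ch, (nat_lit 40), (nat_lit 0xffffffffff), TB_wc, (nat_lit 2046)⟩
noncomputable def eW1_c0 : BT (Bx Nat) := (BT.leaf (Bx.mk (nat_lit 0x0)))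
noncomputable def eW1_c1 : BT (Bx Nat) := (BT.leaf (Bx.mk (nat_lit 0x1b7851b7325479af29166a5341b249b15c3071158108424d73ac3a4b6a477365882e610a810369097244882679a288610000)))
noncomputable def eW1_c2 : BT (Bx Nat) := (BT.leaf (Bx.mk (nat_lit 0x1936621721784132623479ee4a15796a6a306a0f7133696d81266a2b7131812471687207882c716588297a237a0288610000)))
noncomputable def eW1_c3 : BT (Bx Nat) := (BT.leaf (Bx.mk (nat_lit 0x19d710d880cf30d4399580cc68cb68cd699088366a6e715188337192794579c7714870c9726670ca80c27983882488610000)))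
noncomputable def eW1_c4 : BT (Bx Nat) := (BT.leaf (Bx.mk (nat_lit 0x135880906b36808e2394541248935b4c8837808888355c0b5091508d58867349882f8083638a63857b248827808188220000)))
noncomputable def eW1_c5 : BT (Bx Nat) := (BT.leaf (Bx.mk (nat_lit 0x12d8631762f642d180ad6af380aa38b580a86b0f62ce883472cc80a588326ac9883062e77aa6882b72e480a17b0288230000)))
noncomputable def eW1_c6 : BT (Bx Nat) := (BT.leaf (Bx.mk (nat_lit 0x80f5129420f2883808f763f32bf680e95290328b5bce80e76bcc28ef80e4883180e3882d728680e2882a8828882582810000)))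
noncomputable def eW1_p : BT (Bx Nat) := (BT.leaf (Bx.mk (nat_lit 0x2d4690123c38e123458c0e2858919a056811a016719982651590664090c643110c1421908321148440000000)))
noncomputable def eW1_e0 : BT Nat := (BT.node (nat_lit 66) (BT.leaf (nat_lit 2)) (BT.node (nat_lit 67) (BT.leaf (nat_lit 262146)) (BT.leaf (nat_lit 524290))))
noncomputable def eW1_e : BT Nat := eW1_e0
noncomputable def eW1_cols : List (BT (Bx Nat)) := [eW1_c0, eW1_c1, eW1_c2, eW1_c3, eW1_c4, eW1_c5, eW1_c6]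
noncomputable def eW1_ch (x j : Nat) : Bx Nat := chunkG eW1_cols (nat_lit 1) x j
noncomputable def eW1_L (x : Nat) : Bx (Nat → Nat) := lookG eW1_ch (nat_lit 8) (nat_lit 255) (nat_lit 16) (nat_lit 65535) x
noncomputable def eW1_pc (_ j : Nat) : Bx Nat := eW1_p.get j
noncomputable def eW1_pb : Bx (Nat → Nat) := lookG eW1_pc (nat_lit 8) (nat_lit 255) (nat_lit 14) (nat_lit 16383) (nat_lit 0)
noncomputable def eW1_rots : BT CW := (BT.node (nat_lit 16) (BT.node (nat_lit 8) (BT.node (nat_lit 4) (BT.node (nat_lit 2) (BT.node (nat_lit 1) (BT.leaf ⟨[], (nat_lit 1000000), (nat_lit 0), (nat_lit 0), (nat_lit 0)⟩) (BT.leaf ⟨[], (nat_lit 1000000), (nat_lit 0), (nat_lit 0), (nat_lit 1)⟩)) (BT.node (nat_lit 3) (BT.leaf ⟨[], (nat_lit 1000000), (nat_lit 0), (nat_lit 0), (nat_lit 2)⟩) (BT.leaf ⟨[(nat_lit 4), (nat_lit 4)], (nat_lit 3), (nat_lit 0), (nat_lit 0), (nat_lit 3)⟩))) (BT.node (nat_lit 6) (BT.node (nat_lit 5) (BT.leaf ⟨[(nat_lit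 5), (nat_lit 5)], (nat_lit 4), (nat_lit 0), (nat_lit 0), (nat_lit 3)⟩) (BT.leaf ⟨[(nat_lit 3), (nat_lit 3)], (nat_lit 2), (nat_lit 0), (nat_lit 0), (nat_lit 3)⟩)) (BT.node (nat_lit 7) (BT.leaf ⟨[(nat_lit 6), (nat_lit 6)], (nat_lit 5), (nat_lit 0), (nat_lit 0), (nat_lit 3)⟩) (BT.leaf ⟨[(nat_lit 1), (nat_lit 1)], (nat_lit 0), (nat_lit 0), (nat_lit 0), (nat_lit 3)⟩)))) (BT.node (nat_lit 12) (BT.node (nat_lit 10) (BT.node (nat_lit 9) (BT.leaf ⟨[(nat_lit 2), (nat_lit 2)], (nat_lit 1), (nat_lit 0), (nat_lit 0), (nat_lit 3)⟩) (BT.leaf ⟨[(nat_lit 3), (nat_lit 6), (nat_lit 3), (nat_lit 6)], (nat_lit 18), (nat_lit 1), (nat_lit 0), (nat_lit 3)⟩)) (BT.node (nat_lit 11) (BT.leaf ⟨[(nat_lit 2), (nat_lit 6), (nat_lit 2), (nat_lit 6)], (nat_lit 19), (nat_lit 1), (nat_lit 0), (nat_lit 3)⟩) (BT.leaf ⟨[(nat_lit 3), (nat_lit 5), (nat_lit 3), (nat_lit 5)], (nat_lit 16), (nat_lit 1), (nat_lit 0), (nat_lit 3)⟩))) (BT.node (nat_lit 14) (BT.node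 (nat_lit 13) (BT.leaf ⟨[(nat_lit 1), (nat_lit 4), (nat_lit 1), (nat_lit 4)], (nat_lit 10), (nat_lit 0), (nat_lit 0), (nat_lit 3)⟩) (BT.leaf ⟨[(nat_lit 3), (nat_lit 4), (nat_lit 5), (nat_lit 4), (nat_lit 3), (nat_lit 2)], (nat_lit 12), (nat_lit 4), (nat_lit 0), (nat_lit 3)⟩)) (BT.node (nat_lit 15) (BT.leaf ⟨[(nat_lit 2), (nat_lit 1), (nat_lit 6), (nat_lit 1), (nat_lit 2), (nat_lit 3)], (nat_lit 13), (nat_lit 4), (nat_lit 0), (nat_lit 3)⟩) (BT.leaf ⟨[(nat_lit 2), (nat_lit 4), (nat_lit 2), (nat_lit 4)], (nat_lit 11), (nat_lit 0), (nat_lit 0), (nat_lit 3)⟩))))) (BT.node (nat_lit 24) (BT.node (nat_lit 20) (BT.node (nat_lit 18) (BT.node (nat_lit 17) (BT.leaf ⟨[(nat_lit 2), (nat_lit 5), (nat_lit 2), (nat_lit 5)], (nat_lit 15), (nat_lit 1), (nat_lit 0), (nat_lit 3)⟩) (BT.leaf ⟨[(nat_lit 1), (nat_lit 3), (nat_lit 1), (nat_lit 3)], (nat_lit 9), (nat_lit 0), (nat_lit 0), (nat_lit 3)⟩)) (BT.node (nat_lit 19) (BT.leaf ⟨[(nat_lit 3),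 (nat_lit 1), (nat_lit 3), (nat_lit 1)], (nat_lit 9), (nat_lit 1), (nat_lit 0), (nat_lit 3)⟩) (BT.leaf ⟨[(nat_lit 6), (nat_lit 1), (nat_lit 2), (nat_lit 3), (nat_lit 2), (nat_lit 1)], (nat_lit 13), (nat_lit 0), (nat_lit 0), (nat_lit 3)⟩))) (BT.node (nat_lit 22) (BT.node (nat_lit 21) (BT.leaf ⟨[(nat_lit 5), (nat_lit 1), (nat_lit 5), (nat_lit 1), (nat_lit 5), (nat_lit 1)], (nat_lit 14), (nat_lit 0), (nat_lit 0), (nat_lit 3)⟩) (BT.leaf ⟨[(nat_lit 5), (nat_lit 2), (nat_lit 5), (nat_lit 2)], (nat_lit 15), (nat_lit 0), (nat_lit 0), (nat_lit 3)⟩)) (BT.node (nat_lit 23) (BT.leaf ⟨[(nat_lit 5), (nat_lit 3), (nat_lit 5), (nat_lit 3)], (nat_lit 16), (nat_lit 0), (nat_lit 0), (nat_lit 3)⟩) (BT.leaf ⟨[(nat_lit 5), (nat_lit 4), (nat_lit 3), (nat_lit 2), (nat_lit 3), (nat_lit 4)], (nat_lit 12), (nat_lit 0), (nat_lit 0), (nat_lit 3)⟩)))) (BT.node (nat_lit 28) (BT.node (nat_lit 26) (BT.node (nat_lit 25) (BT.leaf ⟨[(nat_lit 4), (nat_lit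 3), (nat_lit 4), (nat_lit 3), (nat_lit 4), (nat_lit 3)], (nat_lit 8), (nat_lit 1), (nat_lit 0), (nat_lit 3)⟩) (BT.leaf ⟨[(nat_lit 4), (nat_lit 2), (nat_lit 4), (nat_lit 2)], (nat_lit 11), (nat_lit 1), (nat_lit 0), (nat_lit 3)⟩)) (BT.node (nat_lit 27) (BT.leaf ⟨[(nat_lit 1), (nat_lit 6), (nat_lit 1), (nat_lit 2), (nat_lit 3), (nat_lit 2)], (nat_lit 13), (nat_lit 5), (nat_lit 0), (nat_lit 3)⟩) (BT.leaf ⟨[(nat_lit 4), (nat_lit 1), (nat_lit 4), (nat_lit 1)], (nat_lit 10), (nat_lit 1), (nat_lit 0), (nat_lit 3)⟩))) (BT.node (nat_lit 30) (BT.node (nat_lit 29) (BT.leaf ⟨[(nat_lit 1), (nat_lit 2), (nat_lit 1), (nat_lit 2), (nat_lit 1), (nat_lit 2)], (nat_lit 6), (nat_lit 0), (nat_lit 0), (nat_lit 3)⟩) (BT.leaf ⟨[(nat_lit 6), (nat_lit 2), (nat_lit 6), (nat_lit 2)], (nat_lit 19), (nat_lit 0), (nat_lit 0), (nat_lit 3)⟩)) (BT.node (nat_lit 31) (BT.leaf ⟨[(nat_lit 6), (nat_lit 3), (nat_lit 6), (nat_lit 3)], (nat_lit 18), (nat_lit 0),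 (nat_lit 0), (nat_lit 3)⟩) (BT.node (nat_lit 32) (BT.leaf ⟨[(nat_lit 4), (nat_lit 5), (nat_lit 4), (nat_lit 3), (nat_lit 2), (nat_lit 3)], (nat_lit 12), (nat_lit 5), (nat_lit 0), (nat_lit 3)⟩) (BT.leaf ⟨[(nat_lit 1), (nat_lit 5), (nat_lit 1), (nat_lit 5), (nat_lit 1), (nat_lit 5)], (nat_lit 14), (nat_lit 1), (nat_lit 0), (nat_lit 3)⟩)))))))
noncomputable def eW1_hcs : List CW := [⟨[(nat_lit 1)], (nat_lit 0), (nat_lit 0), (nat_lit 0), (nat_lit 0)⟩, ⟨[(nat_lit 2)], (nat_lit 1), (nat_lit 0), (nat_lit 0), (nat_lit 0)⟩, ⟨[(nat_lit 3)], (nat_lit 2), (nat_lit 0), (nat_lit 0), (nat_lit 0)⟩, ⟨[(nat_lit 1)], (nat_lit 3), (nat_lit 0), (nat_lit 0), (nat_lit 0)⟩, ⟨[(nat_lit 2)], (nat_lit 4), (nat_lit 0), (nat_lit 0), (nat_lit 0)⟩, ⟨[(nat_lit 3)], (nat_lit 5), (nat_lit 0), (nat_lit 0), (nat_lit 0)⟩]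
noncomputable def eW1_H (x j : Nat) : Bx (Nat → Nat → Nat) := mkH eW1_L eW1_pb.1 eW1_e.get (lmap CW.w eW1_hcs) (nat_lit 24) (nat_lit 25) (nat_lit 7) (nat_lit 32) (nat_lit 2048) (nat_lit 2047) x (eW1_rots.get j)
noncomputable def eW1_F (x b : Nat) : Bool := blkOK eW1_H eW1_ch (nat_lit 25) (nat_lit 32) (nat_lit 64) (nat_lit 8) (nat_lit 255) (nat_lit 16) (nat_lit 65535) x b

theorem eW1_k0_0 : allFrom (eW1_F (nat_lit 0)) (nat_lit 0) (nat_lit 4) = true := by decide +kernel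
theorem eW1_k1_0 : allFrom (eW1_F (nat_lit 1)) (nat_lit 0) (nat_lit 4) = true := by decide +kernel
theorem eW1_k2_0 : allFrom (eW1_F (nat_lit 2)) (nat_lit 0) (nat_lit 4) = true := by decide +kernel
theorem eW1_k3_0 : allFrom (eW1_F (nat_lit 3)) (nat_lit 0) (nat_lit 4) = true := by decide +kernel
theorem eW1_k4_0 : allFrom (eW1_F (nat_lit 4)) (nat_lit 0) (nat_lit 4) = true := by decide +kernel
theorem eW1_k5_0 : allFrom (eW1_F (nat_lit 5)) (nat_lit 0) (nat_lit 4) = true := by decide +kernel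
theorem eW1_k6_0 : allFrom (eW1_F (nat_lit 6)) (nat_lit 0) (nat_lit 4) = true := by decide +kernel
noncomputable def eW2_c0 : BT (Bx Nat) := (BT.leaf (Bx.mk (nat_lit 0x0)))
noncomputable def eW2_c1 : BT (Bx Nat) := (BT.leaf (Bx.mk (nat_lit 0xd2f47c11ea5aad1e744b4d2e4491de234b112077796a9776d92884656a6775d9258455dd4648e1129185dd0647e10e917591c843245a772d918842645677224536446105913d90d840ddc49129906911e1019108000)))
noncomputable def eW2_c2 : BT (Bx Nat) := (BT.leaf (Bx.mk (nat_lit 0xa2e35b057085a126f8594d67858e46d49aa15f91ae15c91a555e556a1589199a62555a4647951a2185464607941a1d853595b553e14b9165957684e14891561469149e07851244e652a44c850a4498506445910c000)))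
noncomputable def eW2_c3 : BT (Bx Nat) := (BT.leaf (Bx.mk (nat_lit 0x21ad86ae1a991c21a691be1a491ba1a1868246c867646a866a19991a2467865a1959196193864a463918a18f863a45f917a18c917245b862a1899162457861e454861645191421839136182912e18191224469110000)))
noncomputable def eW2_p : BT (Bx Nat) := (BT.leaf (Bx.mk (nat_lit 0x9b438ac38a438a0279837942790378c27843680367c267436702668366436641560255835543554154c354835481544243c34383438143424303430142c2428332433241320231c3318231433141210220c320c12083208210431042104100000000)))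
noncomputable def eW2_e : BT Nat := BT.leaf (nat_lit 0)
noncomputable def eW2_cols : List (BT (Bx Nat)) := [eW2_c0, eW2_c1, eW2_c2, eW2_c3]
noncomputable def eW2_ch (x j : Nat) : Bx Nat := chunkG eW2_cols (nat_lit 1) x j
noncomputable def eW2_L (x : Nat) : Bx (Nat → Nat) := lookG eW2_ch (nat_lit 8) (nat_lit 255) (nat_lit 14) (nat_lit 16383) x
noncomputable def eW2_pc (_ j : Nat) : Bx Nat := eW2_p.get j
noncomputable def eW2_pb : Bx (Nat → Nat) := lookG eW2_pc (nat_lit 8) (nat_lit 255) (nat_lit 16) (nat_lit 65535) (nat_lit 0)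
noncomputable def eW2_rots : BT CW := (BT.node (nat_lit 5) (BT.node (nat_lit 2) (BT.node (nat_lit 1) (BT.leaf ⟨[], (nat_lit 1000000), (nat_lit 0), (nat_lit 0), (nat_lit 0)⟩) (BT.leaf ⟨[], (nat_lit 1000000), (nat_lit 0), (nat_lit 0), (nat_lit 1)⟩)) (BT.node (nat_lit 3) (BT.leaf ⟨[], (nat_lit 1000000), (nat_lit 0), (nat_lit 0), (nat_lit 2)⟩) (BT.node (nat_lit 4) (BT.leaf ⟨[(nat_lit 1), (nat_lit 1)], (nat_lit 0), (nat_lit 0), (nat_lit 0), (nat_lit 3)⟩) (BT.leaf ⟨[(nat_lit 2), (nat_lit 2)], (nat_lit 1), (nat_lit 0), (nat_lit 0), (nat_lit 3)⟩)))) (BT.node (nat_lit 7) (BT.node (nat_lit 6) (BT.leaf ⟨[(nat_lit 3), (nat_lit 3)], (nat_lit 2), (nat_lit 0), (nat_lit 0), (nat_lit 3)⟩) (BT.leaf ⟨[(nat_lit 1), (nat_lit 3), (nat_lit 1), (nat_lit 3)], (nat_lit 9), (nat_lit 0), (nat_lit 0), (nat_lit 3)⟩)) (BT.node (nat_lit 8) (BT.leaf ⟨[(nat_lit 2), (nat_lit 1), (nat_lit 2), (nat_lit 1), (nat_lit 2), (nat_lit 1)], (nat_lit 6), (nat_lit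 1), (nat_lit 0), (nat_lit 3)⟩) (BT.node (nat_lit 9) (BT.leaf ⟨[(nat_lit 2), (nat_lit 3), (nat_lit 2), (nat_lit 3), (nat_lit 2), (nat_lit 3), (nat_lit 2), (nat_lit 3)], (nat_lit 7), (nat_lit 0), (nat_lit 0), (nat_lit 3)⟩) (BT.leaf ⟨[(nat_lit 1), (nat_lit 2), (nat_lit 1), (nat_lit 2), (nat_lit 1), (nat_lit 2)], (nat_lit 6), (nat_lit 0), (nat_lit 0), (nat_lit 3)⟩)))))
noncomputable def eW2_hcs : List CW := []
noncomputable def eW2_H (x j : Nat) : Bx (Nat → Nat → Nat) := mkH eW2_L eW2_pb.1 eW2_e.get (lmap CW.w eW2_hcs) (nat_lit 48) (nat_lit 49) (nat_lit 4) (nat_lit 64) (nat_lit 1024) (nat_lit 4095) x (eW2_rots.get j)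
noncomputable def eW2_F (x b : Nat) : Bool := blkOK eW2_H eW2_ch (nat_lit 49) (nat_lit 64) (nat_lit 16) (nat_lit 8) (nat_lit 255) (nat_lit 14) (nat_lit 16383) x b

theorem eW2_k0_0 : allFrom (eW2_F (nat_lit 0)) (nat_lit 0) (nat_lit 4) = true := by decide +kernel
theorem eW2_k1_0 : allFrom (eW2_F (nat_lit 1)) (nat_lit 0) (nat_lit 4) = true := by decide +kernel
theorem eW2_k2_0 : allFrom (eW2_F (nat_lit 2)) (nat_lit 0) (nat_lit 4) = true := by decide +kernel
theorem eW2_k3_0 : allFrom (eW2_F (nat_lit 3)) (nat_lit 0) (nat_lit 4) = true := by decide +kernel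
noncomputable def e36_c0 : BT (Bx Nat) := (BT.leaf (Bx.mk (nat_lit 0x0)))
noncomputable def e36_c1 : BT (Bx Nat) := (BT.leaf (Bx.mk (nat_lit 0x12a225426580cafa5a44b468a650adbdce7b1eaa714aa21567b94f62d54bb59e42a2f719ec3aa9262bac569e02bc4462b0c555546aa8c62a6c5418a4b1488282ea0e4210000)))
noncomputable def e36_c2 : BT (Bx Nat) := (BT.leaf (Bx.mk (nat_lit 0x1920323e2490491a6224c42a451f07a11a5cbaf538c8f3e0b422ab961ea536197c0e8441729bd466236c471084a108622cc45dda2bb046222c449886b10c620504064218000)))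
noncomputable def e36_c3 : BT (Bx Nat) := (BT.leaf (Bx.mk (nat_lit 0x22e353bc8b854eca2df53a8cf9116c29d245aca7419f129d333b8a744ced33e067bad25d9edb4954396f21a0e1bacd778eab3a0e13ac9639ec72a0e0bac5909921224220000)))
noncomputable def e36_c4 : BT (Bx Nat) := (BT.leaf (Bx.mk (nat_lit 0x299e3348a664cd129943340d38d4c9a51753229455a70999d5324666d4c834df69b0ce71a6b339a798e86298c641835a1eee198c441826316c6398c24181909b21264228000)))
noncomputable def e36_c5 : BT (Bx Nat) := (BT.leaf (Bx.mk (nat_lit 0x3e9d7d36fa61f4b3e937d22fa3d912420d64470831f45b2228412c8861043e876441081590fc204643d080e42e485a6433080a42bc855642908064294850909d212a4230000)))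
noncomputable def e36_c6 : BT (Bx Nat) := (BT.leaf (Bx.mk (nat_lit 0x425c84b5095e12ac25284a1093a126c8648499218e125424990c50922430c246848b2182122485f8487217a42ec85b8485216642c485684832152429c851909f212e4238000)))
noncomputable def e36_p : BT (Bx Nat) := (BT.leaf (Bx.mk (nat_lit 0x47068d0d171a2a33486680cce199a33345660ccc159433246648ac819902a186428c85150832105418c831506220c3410c82150422083208c41148221043208441040000000)))
noncomputable def e36_e : BT Nat := BT.leaf (nat_lit 0)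
noncomputable def e36_cols : List (BT (Bx Nat)) := [e36_c0, e36_c1, e36_c2, e36_c3, e36_c4, e36_c5, e36_c6]
noncomputable def e36_ch (x j : Nat) : Bx Nat := chunkG e36_cols (nat_lit 1) x j
noncomputable def e36_L (x : Nat) : Bx (Nat → Nat) := lookG e36_ch (nat_lit 8) (nat_lit 255) (nat_lit 15) (nat_lit 32767) x
noncomputable def e36_pc (_ j : Nat) : Bx Nat := e36_p.get j
noncomputable def e36_pb : Bx (Nat → Nat) := lookG e36_pc (nat_lit 8) (nat_lit 255) (nat_lit 15) (nat_lit 32767) (nat_lit 0)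
noncomputable def e36_rots : BT CW := (BT.node (nat_lit 13) (BT.node (nat_lit 6) (BT.node (nat_lit 3) (BT.node (nat_lit 1) (BT.leaf ⟨[], (nat_lit 1000000), (nat_lit 0), (nat_lit 0), (nat_lit 0)⟩) (BT.node (nat_lit 2) (BT.leaf ⟨[], (nat_lit 1000000), (nat_lit 0), (nat_lit 0), (nat_lit 1)⟩) (BT.leaf ⟨[], (nat_lit 1000000), (nat_lit 0), (nat_lit 0), (nat_lit 2)⟩))) (BT.node (nat_lit 4) (BT.leaf ⟨[(nat_lit 2), (nat_lit 1)], (nat_lit 11), (nat_lit 1), (nat_lit 0), (nat_lit 3)⟩) (BT.node (nat_lit 5) (BT.leaf ⟨[(nat_lit 1), (nat_lit 2)], (nat_lit 11), (nat_lit 0), (nat_lit 0), (nat_lit 3)⟩) (BT.leaf ⟨[(nat_lit 4), (nat_lit 3)], (nat_lit 10), (nat_lit 1), (nat_lit 0), (nat_lit 3)⟩)))) (BT.node (nat_lit 9) (BT.node (nat_lit 7) (BT.leaf ⟨[(nat_lit 3), (nat_lit 4)], (nat_lit 10), (nat_lit 0), (nat_lit 0), (nat_lit 3)⟩) (BT.node (nat_lit 8) (BT.leaf ⟨[(nat_lit 5), (nat_lit 5)], (nat_lit 3), (nat_lit 0), (nat_lit 0), (nat_lit 3)⟩)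 (BT.leaf ⟨[(nat_lit 6), (nat_lit 6)], (nat_lit 4), (nat_lit 0), (nat_lit 0), (nat_lit 3)⟩))) (BT.node (nat_lit 11) (BT.node (nat_lit 10) (BT.leaf ⟨[(nat_lit 1), (nat_lit 1), (nat_lit 1)], (nat_lit 0), (nat_lit 0), (nat_lit 0), (nat_lit 3)⟩) (BT.leaf ⟨[(nat_lit 3), (nat_lit 3), (nat_lit 3)], (nat_lit 1), (nat_lit 0), (nat_lit 0), (nat_lit 3)⟩)) (BT.node (nat_lit 12) (BT.leaf ⟨[(nat_lit 2), (nat_lit 4), (nat_lit 1), (nat_lit 3)], (nat_lit 2), (nat_lit 2), (nat_lit 0), (nat_lit 3)⟩) (BT.leaf ⟨[(nat_lit 2), (nat_lit 3), (nat_lit 1), (nat_lit 4)], (nat_lit 14), (nat_lit 3), (nat_lit 0), (nat_lit 3)⟩))))) (BT.node (nat_lit 19) (BT.node (nat_lit 16) (BT.node (nat_lit 14) (BT.leaf ⟨[(nat_lit 4), (nat_lit 5), (nat_lit 1), (nat_lit 5)], (nat_lit 6), (nat_lit 3), (nat_lit 0), (nat_lit 3)⟩) (BT.node (nat_lit 15) (BT.leaf ⟨[(nat_lit 3), (nat_lit 6), (nat_lit 1), (nat_lit 6)], (nat_lit 7), (nat_lit 3), (nat_lit 0), (nat_lit 3)⟩) (BT.leaf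 ⟨[(nat_lit 1), (nat_lit 3), (nat_lit 2), (nat_lit 4)], (nat_lit 2), (nat_lit 0), (nat_lit 0), (nat_lit 3)⟩))) (BT.node (nat_lit 17) (BT.leaf ⟨[(nat_lit 1), (nat_lit 4), (nat_lit 2), (nat_lit 3)], (nat_lit 14), (nat_lit 1), (nat_lit 0), (nat_lit 3)⟩) (BT.node (nat_lit 18) (BT.leaf ⟨[(nat_lit 3), (nat_lit 5), (nat_lit 2), (nat_lit 5)], (nat_lit 18), (nat_lit 0), (nat_lit 0), (nat_lit 3)⟩) (BT.leaf ⟨[(nat_lit 4), (nat_lit 6), (nat_lit 2), (nat_lit 6)], (nat_lit 19), (nat_lit 0), (nat_lit 0), (nat_lit 3)⟩)))) (BT.node (nat_lit 22) (BT.node (nat_lit 20) (BT.leaf ⟨[(nat_lit 4), (nat_lit 4), (nat_lit 4)], (nat_lit 13), (nat_lit 0), (nat_lit 0), (nat_lit 3)⟩) (BT.node (nat_lit 21) (BT.leaf ⟨[(nat_lit 2), (nat_lit 5), (nat_lit 3), (nat_lit 5)], (nat_lit 18), (nat_lit 2), (nat_lit 0), (nat_lit 3)⟩) (BT.leaf ⟨[(nat_lit 1), (nat_lit 6), (nat_lit 3), (nat_lit 6)], (nat_lit 7), (nat_lit 1), (nat_lit 0), (nat_lit 3)⟩))) (BT.node (nat_lit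 24) (BT.node (nat_lit 23) (BT.leaf ⟨[(nat_lit 1), (nat_lit 5), (nat_lit 4), (nat_lit 5)], (nat_lit 6), (nat_lit 1), (nat_lit 0), (nat_lit 3)⟩) (BT.leaf ⟨[(nat_lit 2), (nat_lit 6), (nat_lit 4), (nat_lit 6)], (nat_lit 19), (nat_lit 2), (nat_lit 0), (nat_lit 3)⟩)) (BT.node (nat_lit 25) (BT.leaf ⟨[(nat_lit 2), (nat_lit 2), (nat_lit 2)], (nat_lit 12), (nat_lit 0), (nat_lit 0), (nat_lit 3)⟩) (BT.leaf ⟨[(nat_lit 5), (nat_lit 6), (nat_lit 5), (nat_lit 6)], (nat_lit 5), (nat_lit 0), (nat_lit 0), (nat_lit 3)⟩))))))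
noncomputable def e36_hcs : List CW := []
noncomputable def e36_H (x j : Nat) : Bx (Nat → Nat → Nat) := mkH e36_L e36_pb.1 e36_e.get (lmap CW.w e36_hcs) (nat_lit 36) (nat_lit 37) (nat_lit 7) (nat_lit 64) (nat_lit 2048) (nat_lit 4095) x (e36_rots.get j)
noncomputable def e36_F (x b : Nat) : Bool := blkOK e36_H e36_ch (nat_lit 37) (nat_lit 64) (nat_lit 32) (nat_lit 8) (nat_lit 255) (nat_lit 15) (nat_lit 32767) x b

theorem e36_k0_0 : allFrom (e36_F (nat_lit 0)) (nat_lit 0) (nat_lit 4) = true := by decide +kernel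
theorem e36_k1_0 : allFrom (e36_F (nat_lit 1)) (nat_lit 0) (nat_lit 4) = true := by decide +kernel
theorem e36_k2_0 : allFrom (e36_F (nat_lit 2)) (nat_lit 0) (nat_lit 4) = true := by decide +kernel
theorem e36_k3_0 : allFrom (e36_F (nat_lit 3)) (nat_lit 0) (nat_lit 4) = true := by decide +kernel
theorem e36_k4_0 : allFrom (e36_F (nat_lit 4)) (nat_lit 0) (nat_lit 4) = true := by decide +kernel
theorem e36_k5_0 : allFrom (e36_F (nat_lit 5)) (nat_lit 0) (nat_lit 4) = true := by decide +kernel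
theorem e36_k6_0 : allFrom (e36_F (nat_lit 6)) (nat_lit 0) (nat_lit 4) = true := by decide +kernel
noncomputable def eB1_c0 : BT (Bx Nat) := (BT.leaf (Bx.mk (nat_lit 0x2431e01b6a0dc5865beb72343a90cf506b36d8c0000b0c540630000101840000606d203180000a0c740672030981a880d0506204315418a70c100002430d21a4b0d048639c328000020c448621c31c0000000050650c30d018660c12061143040000000000000000000000000)))
noncomputable def eB1_c1 : BT (Bx Nat) := (BT.leaf (Bx.mk (nat_lit 0x9273dde8000000000000000000000000000000513768a3944db00005906000000000bbca4948800018072000000000000137a99bd459442c81f57a6bbc600000000180639a69800000001579aabcc8000000018057a265d1428000154c8aa03d901ae3898045a941d880b01820000)))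
noncomputable def eB1_c2 : BT (Bx Nat) := (BT.leaf (Bx.mk (nat_lit 0xb351000000000000000000000000000000baad800024d520000000000000000000009c11800000001755300005d54700df4692c0358000267b363cda40b800000001754bc0304d57300bd668ab1e480002aab17548c02a55542aa9f804ca9e3d8f1a868b7183c0225890b01820000)))
noncomputable def eB1_c3 : BT (Bx Nat) := (BT.leaf (Bx.mk (nat_lit 0xa2d00000000000000a2cf5d269d6537499ba4c4e4cc000168a19bf1c658aa94934afba4900002e921806eba47e01ab00d18067a3ebe01968c1d4594ba456017ee913805dc02d80002cc1b558cba43e014f00a37486c025e0122860b52c4b8a16010f01820000)))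
noncomputable def eB1_c4 : BT (Bx Nat) := (BT.leaf (Bx.mk (nat_lit 0x175dd00000000000000000000000002ceb4000000000000291bf6756000000002eba6000000000000300e16750c03600002e70b75ccc0330000000000000c030d9d2ace1d55dcb9c255746eb918058c02ad574ae707804db9c15ce070133808fc044e021f010c0000)))
noncomputable def eB1_c5 : BT (Bx Nat) := (BT.leaf (Bx.mk (nat_lit 0xbb304199c0000e66c94f580002ecb6fab00000399a2ecb2fa6a8cd9000000000000000005d94c0001807300004e16300e3764fc036dc41700d2000000005d92f00c80000c0315d926ad9b7104c02e5d9228ca20000c02b5c40f00a5804eb2230000301358090c0455c40700840000)))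
noncomputable def eB1_p : BT (Bx Nat) := (BT.leaf (Bx.mk (nat_lit 0xd00ba0073a2e744ce859c0f362e6c4cd859a0f322e643ac075712ac1d545aa035316a6254c2a907510aa01d3c5a78745168a2430486030b1616242c285070916121c1058208c81590232026386c315862218341084112080b0c2410641140000000)))
noncomputable def eB1_e0 : BT Nat := (BT.node (nat_lit 1600) (BT.node (nat_lit 896) (BT.node (nat_lit 448) (BT.node (nat_lit 67) (BT.node (nat_lit 66) (BT.leaf (nat_lit 2)) (BT.leaf (nat_lit 262146))) (BT.node (nat_lit 384) (BT.leaf (nat_lit 524290)) (BT.leaf (nat_lit 8717)))) (BT.node (nat_lit 576) (BT.node (nat_lit 512) (BT.leaf (nat_lit 8725)) (BT.leaf (nat_lit 9997))) (BT.node (nat_lit 640) (BT.leaf (nat_lit 3849)) (BT.node (nat_lit 704) (BT.leaf (nat_lit 7949)) (BT.leaf (nat_lit 5129)))))) (BT.node (nat_lit 1216) (BT.node (nat_lit 1024) (BT.node (nat_lit 960) (BT.leaf (nat_lit 9489)) (BT.leaf (nat_lit 6925))) (BT.node (nat_lit 1152) (BT.leaf (nat_lit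 4617)) (BT.leaf (nat_lit 7177)))) (BT.node (nat_lit 1344) (BT.node (nat_lit 1280) (BT.leaf (nat_lit 8201)) (BT.leaf (nat_lit 7437))) (BT.node (nat_lit 1408) (BT.leaf (nat_lit 2833)) (BT.node (nat_lit 1536) (BT.leaf (nat_lit 6921)) (BT.leaf (nat_lit 7701))))))) (BT.node (nat_lit 2240) (BT.node (nat_lit 1856) (BT.node (nat_lit 1728) (BT.node (nat_lit 1664) (BT.leaf (nat_lit 10253)) (BT.leaf (nat_lit 4101))) (BT.node (nat_lit 1792) (BT.leaf (nat_lit 7445)) (BT.leaf (nat_lit 11285)))) (BT.node (nat_lit 1984) (BT.node (nat_lit 1920) (BT.leaf (nat_lit 10757)) (BT.leaf (nat_lit 11021))) (BT.node (nat_lit 2048) (BT.leaf (nat_lit 5389)) (BT.node (nat_lit 2176) (BT.leaf (nat_lit 12045)) (BT.leaf (nat_lit 4885)))))) (BT.node (nat_lit 2816) (BT.node (nat_lit 2496) (BT.node (nat_lit 2368) (BT.leaf (nat_lit 10765)) (BT.leaf (nat_lit 5645))) (BT.node (nat_lit 2560) (BT.leaf (nat_lit 12821)) (BT.node (nat_lit 2752) (BT.leaf (nat_lit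 10773)) (BT.leaf (nat_lit 12053))))) (BT.node (nat_lit 3072) (BT.node (nat_lit 3008) (BT.leaf (nat_lit 12309)) (BT.leaf (nat_lit 7433))) (BT.node (nat_lit 3136) (BT.leaf (nat_lit 7441)) (BT.node (nat_lit 3200) (BT.leaf (nat_lit 11541)) (BT.leaf (nat_lit 8197))))))))
noncomputable def eB1_e : BT Nat := eB1_e0
noncomputable def eB1_cols : List (BT (Bx Nat)) := [eB1_c0, eB1_c1, eB1_c2, eB1_c3, eB1_c4, eB1_c5]
noncomputable def eB1_ch (x j : Nat) : Bx Nat := chunkG eB1_cols (nat_lit 1) x j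
noncomputable def eB1_L (x : Nat) : Bx (Nat → Nat) := lookG eB1_ch (nat_lit 8) (nat_lit 255) (nat_lit 17) (nat_lit 131071) x
noncomputable def eB1_pc (_ j : Nat) : Bx Nat := eB1_p.get j
noncomputable def eB1_pb : Bx (Nat → Nat) := lookG eB1_pc (nat_lit 8) (nat_lit 255) (nat_lit 15) (nat_lit 32767) (nat_lit 0)
noncomputable def eB1_rots : BT CW := (BT.node (nat_lit 22) (BT.node (nat_lit 11) (BT.node (nat_lit 5) (BT.node (nat_lit 2) (BT.node (nat_lit 1) (BT.leaf ⟨[], (nat_lit 1000000), (nat_lit 0), (nat_lit 0), (nat_lit 0)⟩) (BT.leaf ⟨[], (nat_lit 1000000), (nat_lit 0), (nat_lit 0), (nat_lit 1)⟩)) (BT.node (nat_lit 3) (BT.leaf ⟨[], (nat_lit 1000000), (nat_lit 0), (nat_lit 0), (nat_lit 2)⟩) (BT.node (nat_lit 4) (BT.leaf ⟨[(nat_lit 5), (nat_lit 5)], (nat_lit 10), (nat_lit 0), (nat_lit 0), (nat_lit 3)⟩) (BT.leaf ⟨[(nat_lit 3), (nat_lit 3)], (nat_lit 2), (nat_lit 0), (nat_lit 0), (nat_lit 3)⟩)))) (BT.node (nat_lit 8) (BT.node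 (nat_lit 6) (BT.leaf ⟨[(nat_lit 2), (nat_lit 2)], (nat_lit 1), (nat_lit 0), (nat_lit 0), (nat_lit 3)⟩) (BT.node (nat_lit 7) (BT.leaf ⟨[(nat_lit 1), (nat_lit 1)], (nat_lit 0), (nat_lit 0), (nat_lit 0), (nat_lit 3)⟩) (BT.leaf ⟨[(nat_lit 1), (nat_lit 5), (nat_lit 1), (nat_lit 5)], (nat_lit 12), (nat_lit 1), (nat_lit 0), (nat_lit 3)⟩))) (BT.node (nat_lit 9) (BT.leaf ⟨[(nat_lit 2), (nat_lit 5), (nat_lit 2), (nat_lit 5)], (nat_lit 11), (nat_lit 1), (nat_lit 0), (nat_lit 3)⟩) (BT.node (nat_lit 10) (BT.leaf ⟨[(nat_lit 1), (nat_lit 3), (nat_lit 1), (nat_lit 3)], (nat_lit 8), (nat_lit 0), (nat_lit 0), (nat_lit 3)⟩) (BT.leaf ⟨[(nat_lit 3), (nat_lit 2), (nat_lit 3), (nat_lit 2), (nat_lit 3), (nat_lit 2)], (nat_lit 5), (nat_lit 1), (nat_lit 0), (nat_lit 3)⟩))))) (BT.node (nat_lit 16) (BT.node (nat_lit 13) (BT.node (nat_lit 12) (BT.leaf ⟨[(nat_lit 3), (nat_lit 1), (nat_lit 3), (nat_lit 1)], (nat_lit 8), (nat_lit 1), (nat_lit 0), (nat_lit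 3)⟩) (BT.leaf ⟨[(nat_lit 2), (nat_lit 1), (nat_lit 2), (nat_lit 1), (nat_lit 2), (nat_lit 1)], (nat_lit 4), (nat_lit 1), (nat_lit 0), (nat_lit 3)⟩)) (BT.node (nat_lit 14) (BT.leaf ⟨[(nat_lit 4), (nat_lit 4)], (nat_lit 3), (nat_lit 0), (nat_lit 0), (nat_lit 3)⟩) (BT.node (nat_lit 15) (BT.leaf ⟨[(nat_lit 2), (nat_lit 4), (nat_lit 2), (nat_lit 4)], (nat_lit 7), (nat_lit 0), (nat_lit 0), (nat_lit 4)⟩) (BT.leaf ⟨[(nat_lit 1), (nat_lit 4), (nat_lit 1), (nat_lit 4)], (nat_lit 9), (nat_lit 0), (nat_lit 0), (nat_lit 4)⟩)))) (BT.node (nat_lit 19) (BT.node (nat_lit 17) (BT.leaf ⟨[(nat_lit 5), (nat_lit 4), (nat_lit 5), (nat_lit 4)], (nat_lit 13), (nat_lit 0), (nat_lit 0), (nat_lit 4)⟩) (BT.node (nat_lit 18) (BT.leaf ⟨[(nat_lit 3), (nat_lit 3)], (nat_lit 2), (nat_lit 0), (nat_lit 0), (nat_lit 4)⟩) (BT.leaf ⟨[(nat_lit 1), (nat_lit 3), (nat_lit 1), (nat_lit 3)], (nat_lit 8), (nat_lit 0), (nat_lit 0), (nat_lit 4)⟩))) (BT.node (nat_lit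 20) (BT.leaf ⟨[(nat_lit 1), (nat_lit 5), (nat_lit 1), (nat_lit 5)], (nat_lit 12), (nat_lit 1), (nat_lit 0), (nat_lit 4)⟩) (BT.node (nat_lit 21) (BT.leaf ⟨[(nat_lit 2), (nat_lit 2)], (nat_lit 1), (nat_lit 0), (nat_lit 0), (nat_lit 4)⟩) (BT.leaf ⟨[(nat_lit 3), (nat_lit 2), (nat_lit 3), (nat_lit 2), (nat_lit 3), (nat_lit 2)], (nat_lit 5), (nat_lit 1), (nat_lit 0), (nat_lit 4)⟩)))))) (BT.node (nat_lit 33) (BT.node (nat_lit 27) (BT.node (nat_lit 24) (BT.node (nat_lit 23) (BT.leaf ⟨[(nat_lit 4), (nat_lit 4)], (nat_lit 3), (nat_lit 0), (nat_lit 0), (nat_lit 4)⟩) (BT.leaf ⟨[(nat_lit 3), (nat_lit 4), (nat_lit 3), (nat_lit 4), (nat_lit 3), (nat_lit 4), (nat_lit 3), (nat_lit 4)], (nat_lit 6), (nat_lit 0), (nat_lit 0), (nat_lit 4)⟩)) (BT.node (nat_lit 25) (BT.leaf ⟨[(nat_lit 5), (nat_lit 5)], (nat_lit 10), (nat_lit 0), (nat_lit 0), (nat_lit 4)⟩) (BT.node (nat_lit 26) (BT.leaf ⟨[(nat_lit 2), (nat_lit 5), (nat_lit 2), (nat_lit 5)],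 (nat_lit 11), (nat_lit 1), (nat_lit 0), (nat_lit 4)⟩) (BT.leaf ⟨[(nat_lit 5), (nat_lit 3), (nat_lit 4), (nat_lit 3), (nat_lit 4), (nat_lit 5), (nat_lit 3), (nat_lit 4), (nat_lit 3)], (nat_lit 14), (nat_lit 4), (nat_lit 0), (nat_lit 4)⟩)))) (BT.node (nat_lit 30) (BT.node (nat_lit 28) (BT.leaf ⟨[(nat_lit 4), (nat_lit 5), (nat_lit 3), (nat_lit 4), (nat_lit 3), (nat_lit 5), (nat_lit 3), (nat_lit 4), (nat_lit 3)], (nat_lit 14), (nat_lit 8), (nat_lit 0), (nat_lit 4)⟩) (BT.node (nat_lit 29) (BT.leaf ⟨[(nat_lit 4), (nat_lit 5), (nat_lit 4), (nat_lit 5)], (nat_lit 13), (nat_lit 1), (nat_lit 0), (nat_lit 4)⟩) (BT.leaf ⟨[(nat_lit 1), (nat_lit 1)], (nat_lit 0), (nat_lit 0), (nat_lit 0), (nat_lit 4)⟩))) (BT.node (nat_lit 31) (BT.leaf ⟨[(nat_lit 3), (nat_lit 1), (nat_lit 3), (nat_lit 1)], (nat_lit 8), (nat_lit 1), (nat_lit 0), (nat_lit 4)⟩) (BT.node (nat_lit 32) (BT.leaf ⟨[(nat_lit 2), (nat_lit 1), (nat_lit 2), (nat_lit 1), (nat_lit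 2), (nat_lit 1)], (nat_lit 4), (nat_lit 1), (nat_lit 0), (nat_lit 4)⟩) (BT.leaf ⟨[(nat_lit 5), (nat_lit 2), (nat_lit 5), (nat_lit 2)], (nat_lit 11), (nat_lit 0), (nat_lit 0), (nat_lit 4)⟩))))) (BT.node (nat_lit 39) (BT.node (nat_lit 36) (BT.node (nat_lit 34) (BT.leaf ⟨[(nat_lit 3), (nat_lit 4), (nat_lit 3), (nat_lit 5), (nat_lit 3), (nat_lit 4), (nat_lit 3), (nat_lit 4), (nat_lit 5)], (nat_lit 14), (nat_lit 1), (nat_lit 0), (nat_lit 4)⟩) (BT.node (nat_lit 35) (BT.leaf ⟨[(nat_lit 4), (nat_lit 3), (nat_lit 4), (nat_lit 3), (nat_lit 4), (nat_lit 3), (nat_lit 4), (nat_lit 3)], (nat_lit 6), (nat_lit 1), (nat_lit 0), (nat_lit 4)⟩) (BT.leaf ⟨[(nat_lit 3), (nat_lit 2), (nat_lit 5), (nat_lit 3), (nat_lit 5), (nat_lit 3), (nat_lit 5), (nat_lit 3), (nat_lit 1), (nat_lit 2), (nat_lit 3), (nat_lit 4), (nat_lit 3), (nat_lit 2), (nat_lit 1), (nat_lit 2), (nat_lit 3), (nat_lit 4)], (nat_lit 15), (nat_lit 16), (nat_lit 0), (nat_lit 4)⟩)))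 (BT.node (nat_lit 37) (BT.leaf ⟨[(nat_lit 3), (nat_lit 5), (nat_lit 3), (nat_lit 5), (nat_lit 3), (nat_lit 5), (nat_lit 2), (nat_lit 3), (nat_lit 4), (nat_lit 3), (nat_lit 2), (nat_lit 1), (nat_lit 2), (nat_lit 3), (nat_lit 4), (nat_lit 3), (nat_lit 2), (nat_lit 1)], (nat_lit 36), (nat_lit 12), (nat_lit 0), (nat_lit 4)⟩) (BT.node (nat_lit 38) (BT.leaf ⟨[(nat_lit 5), (nat_lit 1), (nat_lit 5), (nat_lit 1)], (nat_lit 12), (nat_lit 0), (nat_lit 0), (nat_lit 4)⟩) (BT.leaf ⟨[(nat_lit 5), (nat_lit 3), (nat_lit 5), (nat_lit 2), (nat_lit 3), (nat_lit 4), (nat_lit 3), (nat_lit 2), (nat_lit 1), (nat_lit 2), (nat_lit 3), (nat_lit 4), (nat_lit 3), (nat_lit 2), (nat_lit 1), (nat_lit 3), (nat_lit 5), (nat_lit 3)], (nat_lit 36), (nat_lit 15), (nat_lit 0), (nat_lit 4)⟩)))) (BT.node (nat_lit 42) (BT.node (nat_lit 40) (BT.leaf ⟨[(nat_lit 0), (nat_lit 2), (nat_lit 5), (nat_lit 2), (nat_lit 5)], (nat_lit 11), (nat_lit 1), (nat_lit 1), (nat_lit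 4)⟩) (BT.node (nat_lit 41) (BT.leaf ⟨[(nat_lit 5), (nat_lit 1), (nat_lit 5), (nat_lit 1)], (nat_lit 12), (nat_lit 0), (nat_lit 0), (nat_lit 5)⟩) (BT.leaf ⟨[(nat_lit 5), (nat_lit 4), (nat_lit 5), (nat_lit 4)], (nat_lit 13), (nat_lit 0), (nat_lit 0), (nat_lit 5)⟩))) (BT.node (nat_lit 43) (BT.leaf ⟨[(nat_lit 0), (nat_lit 4), (nat_lit 3), (nat_lit 5), (nat_lit 3), (nat_lit 4), (nat_lit 3), (nat_lit 4), (nat_lit 5), (nat_lit 3)], (nat_lit 14), (nat_lit 2), (nat_lit 1), (nat_lit 5)⟩) (BT.node (nat_lit 44) (BT.leaf ⟨[(nat_lit 3), (nat_lit 1), (nat_lit 3), (nat_lit 1)], (nat_lit 8), (nat_lit 1), (nat_lit 0), (nat_lit 5)⟩) (BT.leaf ⟨[(nat_lit 0), (nat_lit 2), (nat_lit 1), (nat_lit 2), (nat_lit 3), (nat_lit 4), (nat_lit 3), (nat_lit 2), (nat_lit 5), (nat_lit 3), (nat_lit 5), (nat_lit 3), (nat_lit 5), (nat_lit 3), (nat_lit 1), (nat_lit 2), (nat_lit 3), (nat_lit 4), (nat_lit 3)], (nat_lit 15), (nat_lit 11), (nat_lit 1), (nat_lit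 5)⟩)))))))
noncomputable def eB1_hcs : List CW := [⟨[(nat_lit 1)], (nat_lit 0), (nat_lit 0), (nat_lit 0), (nat_lit 0)⟩, ⟨[(nat_lit 2)], (nat_lit 1), (nat_lit 0), (nat_lit 0), (nat_lit 0)⟩, ⟨[(nat_lit 3)], (nat_lit 2), (nat_lit 0), (nat_lit 0), (nat_lit 0)⟩, ⟨[(nat_lit 1)], (nat_lit 3), (nat_lit 0), (nat_lit 0), (nat_lit 0)⟩, ⟨[(nat_lit 2)], (nat_lit 4), (nat_lit 0), (nat_lit 0), (nat_lit 0)⟩, ⟨[(nat_lit 3)], (nat_lit 5), (nat_lit 0), (nat_lit 0), (nat_lit 0)⟩]
noncomputable def eB1_H (x j : Nat) : Bx (Nat → Nat → Nat) := mkH eB1_L eB1_pb.1 eB1_e.get (lmap CW.w eB1_hcs) (nat_lit 5) (nat_lit 6) (nat_lit 6) (nat_lit 64) (nat_lit 4096) (nat_lit 4095) x (eB1_rots.get j)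
noncomputable def eB1_F (x b : Nat) : Bool := blkOK eB1_H eB1_ch (nat_lit 6) (nat_lit 64) (nat_lit 64) (nat_lit 8) (nat_lit 255) (nat_lit 17) (nat_lit 131071) x b

theorem eB1_k0_0 : allFrom (eB1_F (nat_lit 0)) (nat_lit 0) (nat_lit 4) = true := by decide +kernel
theorem eB1_k1_0 : allFrom (eB1_F (nat_lit 1)) (nat_lit 0) (nat_lit 4) = true := by decide +kernel
theorem eB1_k2_0 : allFrom (eB1_F (nat_lit 2)) (nat_lit 0) (nat_lit 4) = true := by decide +kernel
theorem eB1_k3_0 : allFrom (eB1_F (nat_lit 3)) (nat_lit 0) (nat_lit 4) = true := by decide +kernel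
theorem eB1_k4_0 : allFrom (eB1_F (nat_lit 4)) (nat_lit 0) (nat_lit 4) = true := by decide +kernel
theorem eB1_k5_0 : allFrom (eB1_F (nat_lit 5)) (nat_lit 0) (nat_lit 4) = true := by decide +kernel
noncomputable def eB2_c0 : BT (Bx Nat) := (BT.leaf (Bx.mk (nat_lit 0x0)))
noncomputable def eB2_c1 : BT (Bx Nat) := (BT.leaf (Bx.mk (nat_lit 0xa95a93a91c38a8ec37a8cc368eba89c348e8c32690a85c2f68da838e4c2a686c27a81c22000)))
noncomputable def eB2_c2 : BT (Bx Nat) := (BT.leaf (Bx.mk (nat_lit 0x4b64b4718ab0717aad4afaabc35712aa8c33aa6c31907aa4c2e6aac2caa2c29aa1c25c23000)))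
noncomputable def eB2_c3 : BT (Bx Nat) := (BT.leaf (Bx.mk (nat_lit 0x5572d84d24d34cf73575692caca754929ac76d1ac5c306ceac3c2dac2c2bac1c28c26c24000)))
noncomputable def eB2_p : BT (Bx Nat) := (BT.leaf (Bx.mk (nat_lit 0x3541b306c41b00a3818d0a3018b0a2836905a02670d982650d94144090c34305083420884321088410000000)))
noncomputable def eB2_e : BT Nat := BT.leaf (nat_lit 0)
noncomputable def eB2_cols : List (BT (Bx Nat)) := [eB2_c0, eB2_c1, eB2_c2, eB2_c3]
noncomputable def eB2_ch (x j : Nat) : Bx Nat := chunkG eB2_cols (nat_lit 1) x j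
noncomputable def eB2_L (x : Nat) : Bx (Nat → Nat) := lookG eB2_ch (nat_lit 8) (nat_lit 255) (nat_lit 12) (nat_lit 4095) x
noncomputable def eB2_pc (_ j : Nat) : Bx Nat := eB2_p.get j
noncomputable def eB2_pb : Bx (Nat → Nat) := lookG eB2_pc (nat_lit 8) (nat_lit 255) (nat_lit 14) (nat_lit 16383) (nat_lit 0)
noncomputable def eB2_rots : BT CW := (BT.node (nat_lit 5) (BT.node (nat_lit 2) (BT.node (nat_lit 1) (BT.leaf ⟨[], (nat_lit 1000000), (nat_lit 0), (nat_lit 0), (nat_lit 0)⟩) (BT.leaf ⟨[], (nat_lit 1000000), (nat_lit 0), (nat_lit 0), (nat_lit 1)⟩)) (BT.node (nat_lit 3) (BT.leaf ⟨[], (nat_lit 1000000), (nat_lit 0), (nat_lit 0), (nat_lit 2)⟩) (BT.node (nat_lit 4) (BT.leaf ⟨[(nat_lit 1), (nat_lit 1)], (nat_lit 0), (nat_lit 0), (nat_lit 0), (nat_lit 3)⟩) (BT.leaf ⟨[(nat_lit 2), (nat_lit 2)], (nat_lit 1), (nat_lit 0), (nat_lit 0), (nat_lit 3)⟩)))) (BT.node (nat_lit 7) (BT.node (nat_lit 6) (BT.leaf ⟨[(nat_lit 3), (nat_lit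 3)], (nat_lit 2), (nat_lit 0), (nat_lit 0), (nat_lit 3)⟩) (BT.leaf ⟨[(nat_lit 1), (nat_lit 3), (nat_lit 1), (nat_lit 3)], (nat_lit 8), (nat_lit 0), (nat_lit 0), (nat_lit 3)⟩)) (BT.node (nat_lit 8) (BT.leaf ⟨[(nat_lit 2), (nat_lit 1), (nat_lit 2), (nat_lit 1), (nat_lit 2), (nat_lit 1)], (nat_lit 4), (nat_lit 1), (nat_lit 0), (nat_lit 3)⟩) (BT.node (nat_lit 9) (BT.leaf ⟨[(nat_lit 3), (nat_lit 2), (nat_lit 3), (nat_lit 2), (nat_lit 3), (nat_lit 2)], (nat_lit 5), (nat_lit 1), (nat_lit 0), (nat_lit 3)⟩) (BT.leaf ⟨[(nat_lit 3), (nat_lit 1), (nat_lit 3), (nat_lit 1)], (nat_lit 8), (nat_lit 1), (nat_lit 0), (nat_lit 3)⟩)))))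
noncomputable def eB2_hcs : List CW := []
noncomputable def eB2_H (x j : Nat) : Bx (Nat → Nat → Nat) := mkH eB2_L eB2_pb.1 eB2_e.get (lmap CW.w eB2_hcs) (nat_lit 24) (nat_lit 25) (nat_lit 4) (nat_lit 32) (nat_lit 512) (nat_lit 2047) x (eB2_rots.get j)
noncomputable def eB2_F (x b : Nat) : Bool := blkOK eB2_H eB2_ch (nat_lit 25) (nat_lit 32) (nat_lit 16) (nat_lit 8) (nat_lit 255) (nat_lit 12) (nat_lit 4095) x b

theorem eB2_k0_0 : allFrom (eB2_F (nat_lit 0)) (nat_lit 0) (nat_lit 4) = true := by decide +kernel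
theorem eB2_k1_0 : allFrom (eB2_F (nat_lit 1)) (nat_lit 0) (nat_lit 4) = true := by decide +kernel
theorem eB2_k2_0 : allFrom (eB2_F (nat_lit 2)) (nat_lit 0) (nat_lit 4) = true := by decide +kernel
theorem eB2_k3_0 : allFrom (eB2_F (nat_lit 3)) (nat_lit 0) (nat_lit 4) = true := by decide +kernel
noncomputable def eC1_c0 : BT (Bx Nat) := (BT.leaf (Bx.mk (nat_lit 0x806ce4d2b4366000007869a2da5638c0cf2943aa0000068691c1b3706bdc19158610e1a46066000005860c00000000000000000000002869000006862de1996866861984062400000000201917064000002066000007064981816060450010000000000000000003064000006be0800007861de18600000a18900001618200001a181606180000706094183086054181000000000)))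
noncomputable def eC1_c1 : BT (Bx Nat) := (BT.leaf (Bx.mk (nat_lit 0x325260000000000000345a0d1678000000003459c00000000000003251a9968c0000000000000000000000ca4a000000000345940000305ada94c705c0d16472512a2acf2816d163f60bcd163b60bb0000360b8d82df05b4d162b250bd82bc0000d82b360aad161c0000d82940000d8287609f000034584c16636099d160f2505d824f6090c1623608cd82274201d84080000)))
noncomputable def eC1_c2 : BT (Bx Nat) := (BT.leaf (Bx.mk (nat_lit 0xd1a9800000000249bbc30d8000089afb469d0000286a3a28900000d1a680000d1a640000d1a6161beba89709aac985c0000c9856e6ae2867746930000360c1b1abe66b7a98e3469000003260f00003468dd82eb468cd1a2f60b5d82cf60b1000034689000034688d82a360a7c981f60a2c1a834685d827b609cd826f2604d825b6094c1a440000d823b068ad0a076086d840c0000)))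
noncomputable def eC1_c3 : BT (Bx Nat) := (BT.leaf (Bx.mk (nat_lit 0xa32f00000d10900000baed6644100000000000002c72200003441a000000000aa2940000000000000c9c64000000002e72100000000000002e89c000000000a10cf60bfd1040000000003440e0000000000000000000000360b6c10bf60b2d102760add102360abc9c300000d101b60a3d101760a0000030413000034403d825f6095d100b6091d823f4301d822b6087d84100000)))
noncomputable def eC1_c4 : BT (Bx Nat) := (BT.leaf (Bx.mk (nat_lit 0x344a3d12800000000000000d127147adbac7c0000b9e7b4499000000000b1eab44976867b4496492e00000000000000d124ce19cc9e534491d83000000d82f800000000360bdb12dc00000000360b9c9e3b448ad82d34489d82c360ae0000304a7d82a74486d829b60a400003049bd1213609dd120f609ad82634482000036092d0e07608dd822f6088d84140000)))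
noncomputable def eC1_p : BT (Bx Nat) := (BT.leaf (Bx.mk (nat_lit 0xa982a944a903a8c488048801878187428704870186c186838682864486428603860285c485c18584858385418503850184c484c284828444844184048403840263c16383638163426304630262c2628462816244624362426203620261c1618461836181414341424104410140c440c340c1408440834082204420432042204100000000)))
noncomputable def eC1_e0 : BT Nat := (BT.node (nat_lit 2304) (BT.node (nat_lit 960) (BT.node (nat_lit 448) (BT.node (nat_lit 256) (BT.node (nat_lit 192) (BT.leaf (nat_lit 12045)) (BT.leaf (nat_lit 6153))) (BT.node (nat_lit 320) (BT.leaf (nat_lit 6409)) (BT.leaf (nat_lit 3853)))) (BT.node (nat_lit 640) (BT.node (nat_lit 512) (BT.leaf (nat_lit 4361)) (BT.leaf (nat_lit 1285))) (BT.node (nat_lit 768) (BT.leaf (nat_lit 6673)) (BT.node (nat_lit 896) (BT.leaf (nat_lit 4877)) (BT.leaf (nat_lit 8205)))))) (BT.node (nat_lit 1728) (BT.node (nat_lit 1600) (BT.node (nat_lit 1216) (BT.leaf (nat_lit 8201))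 (BT.leaf (nat_lit 1797))) (BT.node (nat_lit 1664) (BT.leaf (nat_lit 4369)) (BT.leaf (nat_lit 4357)))) (BT.node (nat_lit 1984) (BT.node (nat_lit 1856) (BT.leaf (nat_lit 3601)) (BT.leaf (nat_lit 3089))) (BT.node (nat_lit 2048) (BT.leaf (nat_lit 3589)) (BT.node (nat_lit 2240) (BT.leaf (nat_lit 15365)) (BT.leaf (nat_lit 13061))))))) (BT.node (nat_lit 3074) (BT.node (nat_lit 2564) (BT.node (nat_lit 2432) (BT.node (nat_lit 2368) (BT.leaf (nat_lit 10505)) (BT.leaf (nat_lit 13837))) (BT.node (nat_lit 2496) (BT.leaf (nat_lit 16649)) (BT.leaf (nat_lit 6921)))) (BT.node (nat_lit 2626) (BT.node (nat_lit 2624) (BT.leaf (nat_lit 228)) (BT.leaf (nat_lit 4881))) (BT.node (nat_lit 3008) (BT.leaf (nat_lit 232)) (BT.node (nat_lit 3012) (BT.leaf (nat_lit 6665)) (BT.leaf (nat_lit 212)))))) (BT.node (nat_lit 3392) (BT.node (nat_lit 3200) (BT.node (nat_lit 3136) (BT.leaf (nat_lit 236)) (BT.leaf (nat_lit 9989))) (BT.node (nat_lit 3264) (BT.leaf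 (nat_lit 16141)) (BT.node (nat_lit 3328) (BT.leaf (nat_lit 6669)) (BT.leaf (nat_lit 15633))))) (BT.node (nat_lit 3520) (BT.node (nat_lit 3456) (BT.leaf (nat_lit 15629)) (BT.leaf (nat_lit 15625))) (BT.node (nat_lit 3904) (BT.leaf (nat_lit 7953)) (BT.node (nat_lit 4160) (BT.leaf (nat_lit 8209)) (BT.leaf (nat_lit 15373))))))))
noncomputable def eC1_e : BT Nat := eC1_e0
noncomputable def eC1_cols : List (BT (Bx Nat)) := [eC1_c0, eC1_c1, eC1_c2, eC1_c3, eC1_c4]
noncomputable def eC1_ch (x j : Nat) : Bx Nat := chunkG eC1_cols (nat_lit 1) x j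
noncomputable def eC1_L (x : Nat) : Bx (Nat → Nat) := lookG eC1_ch (nat_lit 8) (nat_lit 255) (nat_lit 18) (nat_lit 262143) x
noncomputable def eC1_pc (_ j : Nat) : Bx Nat := eC1_p.get j
noncomputable def eC1_pb : Bx (Nat → Nat) := lookG eC1_pc (nat_lit 8) (nat_lit 255) (nat_lit 16) (nat_lit 65535) (nat_lit 0)
noncomputable def eC1_rots : BT CW := (BT.node (nat_lit 16) (BT.node (nat_lit 8) (BT.node (nat_lit 4) (BT.node (nat_lit 2) (BT.node (nat_lit 1) (BT.leaf ⟨[], (nat_lit 1000000), (nat_lit 0), (nat_lit 0), (nat_lit 0)⟩) (BT.leaf ⟨[], (nat_lit 1000000), (nat_lit 0), (nat_lit 0), (nat_lit 1)⟩)) (BT.node (nat_lit 3) (BT.leaf ⟨[], (nat_lit 1000000), (nat_lit 0), (nat_lit 0), (nat_lit 2)⟩) (BT.leaf ⟨[(nat_lit 1), (nat_lit 1)], (nat_lit 0), (nat_lit 0), (nat_lit 0), (nat_lit 3)⟩))) (BT.node (nat_lit 6) (BT.node (nat_lit 5) (BT.leaf ⟨[(nat_lit 2), (nat_lit 2)], (nat_lit 1), (nat_lit 0), (nat_lit 0), (nat_lit 3)⟩) (BT.leaf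 ⟨[(nat_lit 3), (nat_lit 3)], (nat_lit 2), (nat_lit 0), (nat_lit 0), (nat_lit 3)⟩)) (BT.node (nat_lit 7) (BT.leaf ⟨[(nat_lit 4), (nat_lit 4)], (nat_lit 3), (nat_lit 0), (nat_lit 0), (nat_lit 3)⟩) (BT.leaf ⟨[(nat_lit 3), (nat_lit 3)], (nat_lit 2), (nat_lit 0), (nat_lit 0), (nat_lit 4)⟩)))) (BT.node (nat_lit 12) (BT.node (nat_lit 10) (BT.node (nat_lit 9) (BT.leaf ⟨[(nat_lit 4), (nat_lit 4)], (nat_lit 3), (nat_lit 0), (nat_lit 0), (nat_lit 4)⟩) (BT.leaf ⟨[(nat_lit 1), (nat_lit 4), (nat_lit 1), (nat_lit 4)], (nat_lit 9), (nat_lit 1), (nat_lit 0), (nat_lit 4)⟩)) (BT.node (nat_lit 11) (BT.leaf ⟨[(nat_lit 1), (nat_lit 1)], (nat_lit 0), (nat_lit 0), (nat_lit 0), (nat_lit 4)⟩) (BT.leaf ⟨[(nat_lit 2), (nat_lit 3), (nat_lit 2), (nat_lit 3)], (nat_lit 6), (nat_lit 1), (nat_lit 0), (nat_lit 4)⟩))) (BT.node (nat_lit 14) (BT.node (nat_lit 13) (BT.leaf ⟨[(nat_lit 2), (nat_lit 2)], (nat_lit 1), (nat_lit 0), (nat_lit 0), (nat_lit 4)⟩) (BT.leaf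 ⟨[(nat_lit 3), (nat_lit 1), (nat_lit 3), (nat_lit 1), (nat_lit 3), (nat_lit 1)], (nat_lit 5), (nat_lit 0), (nat_lit 0), (nat_lit 4)⟩)) (BT.node (nat_lit 15) (BT.leaf ⟨[(nat_lit 4), (nat_lit 2), (nat_lit 4), (nat_lit 2), (nat_lit 4), (nat_lit 2)], (nat_lit 8), (nat_lit 0), (nat_lit 0), (nat_lit 4)⟩) (BT.leaf ⟨[(nat_lit 1), (nat_lit 2), (nat_lit 1), (nat_lit 2), (nat_lit 1), (nat_lit 2), (nat_lit 1), (nat_lit 2)], (nat_lit 4), (nat_lit 0), (nat_lit 0), (nat_lit 4)⟩))))) (BT.node (nat_lit 24) (BT.node (nat_lit 20) (BT.node (nat_lit 18) (BT.node (nat_lit 17) (BT.leaf ⟨[(nat_lit 3), (nat_lit 2), (nat_lit 3), (nat_lit 2)], (nat_lit 6), (nat_lit 0), (nat_lit 0), (nat_lit 4)⟩) (BT.leaf ⟨[(nat_lit 1), (nat_lit 2), (nat_lit 1), (nat_lit 3), (nat_lit 1), (nat_lit 2), (nat_lit 1), (nat_lit 2), (nat_lit 3)], (nat_lit 7), (nat_lit 1), (nat_lit 0), (nat_lit 4)⟩)) (BT.node (nat_lit 19) (BT.leaf ⟨[(nat_lit 2), (nat_lit 1), (nat_lit 2),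 (nat_lit 4), (nat_lit 2), (nat_lit 1), (nat_lit 2), (nat_lit 1), (nat_lit 4)], (nat_lit 10), (nat_lit 1), (nat_lit 0), (nat_lit 4)⟩) (BT.leaf ⟨[(nat_lit 2), (nat_lit 1), (nat_lit 2), (nat_lit 1), (nat_lit 2), (nat_lit 1), (nat_lit 2), (nat_lit 1)], (nat_lit 4), (nat_lit 1), (nat_lit 0), (nat_lit 4)⟩))) (BT.node (nat_lit 22) (BT.node (nat_lit 21) (BT.leaf ⟨[(nat_lit 1), (nat_lit 3), (nat_lit 1), (nat_lit 3), (nat_lit 1), (nat_lit 3)], (nat_lit 5), (nat_lit 1), (nat_lit 0), (nat_lit 4)⟩) (BT.leaf ⟨[(nat_lit 4), (nat_lit 1), (nat_lit 4), (nat_lit 1)], (nat_lit 9), (nat_lit 0), (nat_lit 0), (nat_lit 4)⟩)) (BT.node (nat_lit 23) (BT.leaf ⟨[(nat_lit 3), (nat_lit 2), (nat_lit 4), (nat_lit 3), (nat_lit 2), (nat_lit 4), (nat_lit 3), (nat_lit 2), (nat_lit 4)], (nat_lit 12), (nat_lit 2), (nat_lit 0), (nat_lit 4)⟩) (BT.leaf ⟨[(nat_lit 2), (nat_lit 3), (nat_lit 4), (nat_lit 2), (nat_lit 3), (nat_lit 4), (nat_lit 2), (nat_lit 3), (nat_lit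 4)], (nat_lit 29), (nat_lit 2), (nat_lit 0), (nat_lit 4)⟩)))) (BT.node (nat_lit 28) (BT.node (nat_lit 26) (BT.node (nat_lit 25) (BT.leaf ⟨[(nat_lit 3), (nat_lit 1), (nat_lit 4), (nat_lit 2), (nat_lit 3), (nat_lit 1), (nat_lit 4), (nat_lit 2), (nat_lit 3), (nat_lit 1), (nat_lit 4), (nat_lit 2)], (nat_lit 28), (nat_lit 0), (nat_lit 0), (nat_lit 4)⟩) (BT.leaf ⟨[(nat_lit 0), (nat_lit 2), (nat_lit 1), (nat_lit 3), (nat_lit 1), (nat_lit 2), (nat_lit 1), (nat_lit 3), (nat_lit 2), (nat_lit 1)], (nat_lit 24), (nat_lit 2), (nat_lit 1), (nat_lit 4)⟩)) (BT.node (nat_lit 27) (BT.leaf ⟨[(nat_lit 0), (nat_lit 4), (nat_lit 2), (nat_lit 3), (nat_lit 4), (nat_lit 2), (nat_lit 3), (nat_lit 4), (nat_lit 2), (nat_lit 3)], (nat_lit 29), (nat_lit 1), (nat_lit 1), (nat_lit 5)⟩) (BT.leaf ⟨[(nat_lit 0), (nat_lit 4), (nat_lit 1), (nat_lit 4), (nat_lit 1)], (nat_lit 9), (nat_lit 0), (nat_lit 1), (nat_lit 4)⟩))) (BT.node (nat_lit 30) (BT.node (nat_lit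 29) (BT.leaf ⟨[(nat_lit 0), (nat_lit 1), (nat_lit 4), (nat_lit 1), (nat_lit 4)], (nat_lit 9), (nat_lit 1), (nat_lit 1), (nat_lit 4)⟩) (BT.leaf ⟨[(nat_lit 0), (nat_lit 4), (nat_lit 2), (nat_lit 4), (nat_lit 2), (nat_lit 4), (nat_lit 2)], (nat_lit 8), (nat_lit 0), (nat_lit 1), (nat_lit 4)⟩)) (BT.node (nat_lit 31) (BT.leaf ⟨[(nat_lit 0), (nat_lit 3), (nat_lit 2), (nat_lit 4), (nat_lit 1), (nat_lit 3), (nat_lit 2), (nat_lit 4), (nat_lit 1), (nat_lit 3), (nat_lit 2), (nat_lit 4), (nat_lit 1)], (nat_lit 11), (nat_lit 3), (nat_lit 1), (nat_lit 5)⟩) (BT.leaf ⟨[(nat_lit 0), (nat_lit 2), (nat_lit 4), (nat_lit 1), (nat_lit 3), (nat_lit 2), (nat_lit 4), (nat_lit 1), (nat_lit 3), (nat_lit 2), (nat_lit 4), (nat_lit 1), (nat_lit 3)], (nat_lit 11), (nat_lit 0), (nat_lit 1), (nat_lit 5)⟩))))))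
noncomputable def eC1_hcs : List CW := []
noncomputable def eC1_H (x j : Nat) : Bx (Nat → Nat → Nat) := mkH eC1_L eC1_pb.1 eC1_e.get (lmap CW.w eC1_hcs) (nat_lit 1) (nat_lit 2) (nat_lit 5) (nat_lit 128) (nat_lit 8192) (nat_lit 8191) x (eC1_rots.get j)
noncomputable def eC1_F (x b : Nat) : Bool := blkOK eC1_H eC1_ch (nat_lit 2) (nat_lit 128) (nat_lit 64) (nat_lit 8) (nat_lit 255) (nat_lit 18) (nat_lit 262143) x b

theorem eC1_k0_0 : allFrom (eC1_F (nat_lit 0)) (nat_lit 0) (nat_lit 4) = true := by decide +kernel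
theorem eC1_k1_0 : allFrom (eC1_F (nat_lit 1)) (nat_lit 0) (nat_lit 4) = true := by decide +kernel
theorem eC1_k2_0 : allFrom (eC1_F (nat_lit 2)) (nat_lit 0) (nat_lit 4) = true := by decide +kernel
theorem eC1_k3_0 : allFrom (eC1_F (nat_lit 3)) (nat_lit 0) (nat_lit 4) = true := by decide +kernel
theorem eC1_k4_0 : allFrom (eC1_F (nat_lit 4)) (nat_lit 0) (nat_lit 4) = true := by decide +kernel
noncomputable def eC2_c0 : BT (Bx Nat) := (BT.leaf (Bx.mk (nat_lit 0x59e50987b400001ef900000000000c7f01a1cc60382d0791c0f1aa1b64c36ec87b40000361c86439200000c0f0ae1a365dc8b87040000141b90000048700b85e921bb5038ee070c00003cdd6703aed071000003ae4b6038aa864530c8241c40000070618e0d3a21cf303529864910dc141bd00000d868180dea21c04432e0000130c9a018300000d068cf0de8e1b93437c5066c90dc9c19b203720000070ce000004834a806d40000201a27435ec86840000201a85030ea061920d08000034324906a4000000000203320000000003418d4033c0000110c09e18a000001061400000c1991c3320000050c480000000000000110c8a61824030a000000000000000000000000000000000000000000040c1a4187000000000010c0841810c30210604000000000)))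
noncomputable def eC2_c1 : BT (Bx Nat) := (BT.leaf (Bx.mk (nat_lit 0xb0cad61952443b565d200001199e40000000000000000000000000000b0c8f12b6ac32258642810c959704000000000b0c7a00002c31e3e66b94b9600002c31c97060acb6f4252a92e980000acb67099bac318baaf100001683eec3175a0fa0000000002c3158000000001683deb2d4da0f490cc739978000058623b41de0000000005a0edb0c41683b2a3355861eb0c3b61872d073da0e5acb372989ad070cc62a000000000232e35692ca8cb76185ad06cd8615b41af68356b2ca54634b41a3396e2a326d8611acb2532aeab40bd860fb41916183800005a0c30000168302d05fda0bea8c776182ab2c5da0b6a8c4b682cad0585462db0c0f5189ed05458606b414968288000058604a8c336826ac301d6585b412768242a3045a08cb411360806d08100000)))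
noncomputable def eC2_c2 : BT (Bx Nat) := (BT.leaf (Bx.mk (nat_lit 0x7dae000000000000000948bb611340000000000000000002c22400000814b359b1c000000000b0883133964366000000000159af612355843b759d800002437a566b9859f541b62667bd843300001610c9f237ce45e0000159abe961bd842db41f20000255dfd66ab00001610a6d07b464699138761092d079da0f1a88dc000000000000008c8976107ed075cc426908a33289ea23300000b41c800002a23058419a08ab4a8a2a4d856698b41b96836ab34b52435a88ad61052d06a58413a88a16104ad067504369487d39b02c2085a0ca000016831800005840db41856103000005840bb4179682ead05c54434b081200002c2045a0aeb4159682aab343da0a50000161016d0505a09eb413959a12d04bda095a88236100ad0475440ab05036821ad08180000)))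
noncomputable def eC2_c3 : BT (Bx Nat) := (BT.leaf (Bx.mk (nat_lit 0x527510000000001e46c80000ace9000000000000000000000000000000000000000000000000000006c3b200002939fd84b800001612d4000000000000013a3280000584b000001612b80000000000000000002827a0000000000000000000584a70000131368000000000b0945683b80000584a00000000000000050725a09c3683a6c24dda0e6000013a2a2c24cda0e00000159c6ad06f000000000149c92c24ada0d8b09296835800005289eb092568342d067cc4bab4199612427260504b2b091d6831c00005a0c400001412b2c24580000b417a00002d05cd8489b416961222d058da0aface19682aec2435a0a6b090b6828ed050d4493b413b6120ed04c5a096b090568246d047d8301b41156821ed08200000)))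
noncomputable def eC2_c4 : BT (Bx Nat) := (BT.leaf (Bx.mk (nat_lit 0x112ddab3ea585519d6aa00002c2a6000000000000000000058547000000000000003cb64acf8400000000000000000000000275a1ba56c00000000000000161cc000000000000000000000000000000000000000000000000000000000b0a59614aed07c000000000149ebac2945a0f5b0a4c00002c291da0f2b41e121e96c2908000000001515aec28f5a0ea000014ac8ad074527a0b0a356838ed071507b0b0a316837ec28bda0ddb0a2d6836c000000000000014153ac289da0d3b41a559e56c288da0cd000016832c000000000b419200002d062d053cb0a196830400005678eb0a15682eec284da0b7b416b682cea29558507b415b6141ad054da0a70000151472c2825a09fb0a076826ed04cd8502b41296824ac1c0da08db411768222d08280000)))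
noncomputable def eC2_p : BT (Bx Nat) := (BT.leaf (Bx.mk (nat_lit 0xd581d501d4c2d444d381d342d304d301b242b204b202b1c4b1c1b183b101b081b042b004af83af44af41af03af01aec2ae84ae44ae41ae03ad84ad43ad04acc2ac84ac82ac41ac03abc1ab83ab81ab42ab04aac4aac1aa83aa43aa42aa04a9c3a984890288c488c18883888288448803880187c2878487818741870186c386c286848682864386428604860185c485c385848581854385418503850284c484c2848384828444844184048403840263c163836381634363426304630262c362c2628462816244624362426203620261c461c1618461836181414341424104410140c440c340c1408440834082204420432042204100000000)))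
noncomputable def eC2_e0 : BT Nat := (BT.node (nat_lit 4352) (BT.node (nat_lit 2752) (BT.node (nat_lit 1600) (BT.node (nat_lit 512) (BT.node (nat_lit 256) (BT.node (nat_lit 192) (BT.leaf (nat_lit 15109)) (BT.leaf (nat_lit 15625))) (BT.node (nat_lit 320) (BT.leaf (nat_lit 15629)) (BT.leaf (nat_lit 16389)))) (BT.node (nat_lit 1216) (BT.node (nat_lit 576) (BT.leaf (nat_lit 5137)) (BT.leaf (nat_lit 15621))) (BT.node (nat_lit 1280) (BT.leaf (nat_lit 11537)) (BT.node (nat_lit 1344) (BT.leaf (nat_lit 12045)) (BT.leaf (nat_lit 2057)))))) (BT.node (nat_lit 2112) (BT.node (nat_lit 1792) (BT.node (nat_lit 1728) (BT.leaf (nat_lit 24593)) (BT.leaf (nat_lit 15881))) (BT.node (nat_lit 1920) (BT.leaf (nat_lit 24581)) (BT.node (nat_lit 2048) (BT.leaf (nat_lit 15633)) (BT.leaf (nat_lit 17421))))) (BT.node (nat_lit 2304) (BT.node (nat_lit 2240) (BT.leaf (nat_lit 5125)) (BT.leaf (nat_lit 18437))) (BT.node (nat_lit 2496) (BT.leaf (nat_lit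 18953)) (BT.node (nat_lit 2688) (BT.leaf (nat_lit 19469)) (BT.leaf (nat_lit 19977))))))) (BT.node (nat_lit 3520) (BT.node (nat_lit 3072) (BT.node (nat_lit 2944) (BT.node (nat_lit 2880) (BT.leaf (nat_lit 21009)) (BT.leaf (nat_lit 17681))) (BT.node (nat_lit 3008) (BT.leaf (nat_lit 22029)) (BT.leaf (nat_lit 22025)))) (BT.node (nat_lit 3264) (BT.node (nat_lit 3200) (BT.leaf (nat_lit 5381)) (BT.leaf (nat_lit 9229))) (BT.node (nat_lit 3328) (BT.leaf (nat_lit 23561)) (BT.node (nat_lit 3456) (BT.leaf (nat_lit 18189)) (BT.leaf (nat_lit 18193)))))) (BT.node (nat_lit 3968) (BT.node (nat_lit 3776) (BT.node (nat_lit 3648) (BT.leaf (nat_lit 21769)) (BT.leaf (nat_lit 15877))) (BT.node (nat_lit 3840) (BT.leaf (nat_lit 19465)) (BT.node (nat_lit 3904) (BT.leaf (nat_lit 8209)) (BT.leaf (nat_lit 19461))))) (BT.node (nat_lit 4096) (BT.node (nat_lit 4032) (BT.leaf (nat_lit 24845)) (BT.leaf (nat_lit 20745))) (BT.node (nat_lit 4160) (BT.leaf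 (nat_lit 19473)) (BT.node (nat_lit 4224) (BT.leaf (nat_lit 8977)) (BT.leaf (nat_lit 27653)))))))) (BT.node (nat_lit 6016) (BT.node (nat_lit 5056) (BT.node (nat_lit 4672) (BT.node (nat_lit 4544) (BT.node (nat_lit 4416) (BT.leaf (nat_lit 11529)) (BT.leaf (nat_lit 12037))) (BT.node (nat_lit 4608) (BT.leaf (nat_lit 28421)) (BT.leaf (nat_lit 28429)))) (BT.node (nat_lit 4864) (BT.node (nat_lit 4736) (BT.leaf (nat_lit 26373)) (BT.leaf (nat_lit 24069))) (BT.node (nat_lit 4928) (BT.leaf (nat_lit 24841)) (BT.node (nat_lit 4992) (BT.leaf (nat_lit 10757)) (BT.leaf (nat_lit 11793)))))) (BT.node (nat_lit 5440) (BT.node (nat_lit 5184) (BT.node (nat_lit 5120) (BT.leaf (nat_lit 11017)) (BT.leaf (nat_lit 10765))) (BT.node (nat_lit 5248) (BT.leaf (nat_lit 30737)) (BT.node (nat_lit 5376) (BT.leaf (nat_lit 30725)) (BT.leaf (nat_lit 31237))))) (BT.node (nat_lit 5568) (BT.node (nat_lit 5504) (BT.leaf (nat_lit 11781)) (BT.leaf (nat_lit 31493)))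 (BT.node (nat_lit 5760) (BT.leaf (nat_lit 12817)) (BT.node (nat_lit 5824) (BT.leaf (nat_lit 18957)) (BT.leaf (nat_lit 13061))))))) (BT.node (nat_lit 6848) (BT.node (nat_lit 6339) (BT.node (nat_lit 6144) (BT.node (nat_lit 6080) (BT.leaf (nat_lit 22537)) (BT.leaf (nat_lit 28689))) (BT.node (nat_lit 6148) (BT.leaf (nat_lit 25609)) (BT.node (nat_lit 6272) (BT.leaf (nat_lit 468)) (BT.leaf (nat_lit 25617))))) (BT.node (nat_lit 6528) (BT.node (nat_lit 6400) (BT.leaf (nat_lit 452)) (BT.leaf (nat_lit 24837))) (BT.node (nat_lit 6656) (BT.leaf (nat_lit 18697)) (BT.node (nat_lit 6720) (BT.leaf (nat_lit 18705)) (BT.leaf (nat_lit 16141)))))) (BT.node (nat_lit 7232) (BT.node (nat_lit 7040) (BT.node (nat_lit 6912) (BT.leaf (nat_lit 16913)) (BT.leaf (nat_lit 28937))) (BT.node (nat_lit 7104) (BT.leaf (nat_lit 23045)) (BT.node (nat_lit 7168) (BT.leaf (nat_lit 24325)) (BT.leaf (nat_lit 31497))))) (BT.node (nat_lit 7360) (BT.node (nat_lit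 7296) (BT.leaf (nat_lit 22533)) (BT.leaf (nat_lit 27665))) (BT.node (nat_lit 7424) (BT.leaf (nat_lit 27401)) (BT.node (nat_lit 7808) (BT.leaf (nat_lit 20749)) (BT.leaf (nat_lit 24329)))))))))
noncomputable def eC2_e : BT Nat := eC2_e0
noncomputable def eC2_cols : List (BT (Bx Nat)) := [eC2_c0, eC2_c1, eC2_c2, eC2_c3, eC2_c4]
noncomputable def eC2_ch (x j : Nat) : Bx Nat := chunkG eC2_cols (nat_lit 1) x j
noncomputable def eC2_L (x : Nat) : Bx (Nat → Nat) := lookG eC2_ch (nat_lit 8) (nat_lit 255) (nat_lit 19) (nat_lit 524287) x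
noncomputable def eC2_pc (_ j : Nat) : Bx Nat := eC2_p.get j
noncomputable def eC2_pb : Bx (Nat → Nat) := lookG eC2_pc (nat_lit 8) (nat_lit 255) (nat_lit 16) (nat_lit 65535) (nat_lit 0)
noncomputable def eC2_rots : BT CW := (BT.node (nat_lit 16) (BT.node (nat_lit 8) (BT.node (nat_lit 4) (BT.node (nat_lit 2) (BT.node (nat_lit 1) (BT.leaf ⟨[], (nat_lit 1000000), (nat_lit 0), (nat_lit 0), (nat_lit 0)⟩) (BT.leaf ⟨[], (nat_lit 1000000), (nat_lit 0), (nat_lit 0), (nat_lit 1)⟩)) (BT.node (nat_lit 3) (BT.leaf ⟨[], (nat_lit 1000000), (nat_lit 0), (nat_lit 0), (nat_lit 2)⟩) (BT.leaf ⟨[(nat_lit 1), (nat_lit 1)], (nat_lit 0), (nat_lit 0), (nat_lit 0), (nat_lit 3)⟩))) (BT.node (nat_lit 6) (BT.node (nat_lit 5) (BT.leaf ⟨[(nat_lit 2), (nat_lit 2)], (nat_lit 1), (nat_lit 0), (nat_lit 0), (nat_lit 3)⟩) (BT.leaf ⟨[(nat_lit 3), (nat_lit 3)], (nat_lit 2), (nat_lit 0), (nat_lit 0), (nat_lit 3)⟩)) (BT.node (nat_lit 7) (BT.leaf ⟨[(nat_lit 4),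 (nat_lit 4)], (nat_lit 3), (nat_lit 0), (nat_lit 0), (nat_lit 3)⟩) (BT.leaf ⟨[(nat_lit 2), (nat_lit 2)], (nat_lit 1), (nat_lit 0), (nat_lit 0), (nat_lit 4)⟩)))) (BT.node (nat_lit 12) (BT.node (nat_lit 10) (BT.node (nat_lit 9) (BT.leaf ⟨[(nat_lit 3), (nat_lit 3)], (nat_lit 2), (nat_lit 0), (nat_lit 0), (nat_lit 4)⟩) (BT.leaf ⟨[(nat_lit 4), (nat_lit 4)], (nat_lit 3), (nat_lit 0), (nat_lit 0), (nat_lit 4)⟩)) (BT.node (nat_lit 11) (BT.leaf ⟨[(nat_lit 1), (nat_lit 4), (nat_lit 1), (nat_lit 4)], (nat_lit 9), (nat_lit 1), (nat_lit 0), (nat_lit 4)⟩) (BT.leaf ⟨[(nat_lit 1), (nat_lit 1)], (nat_lit 0), (nat_lit 0), (nat_lit 0), (nat_lit 4)⟩))) (BT.node (nat_lit 14) (BT.node (nat_lit 13) (BT.leaf ⟨[(nat_lit 2), (nat_lit 3), (nat_lit 2), (nat_lit 3)], (nat_lit 6), (nat_lit 1), (nat_lit 0), (nat_lit 4)⟩) (BT.leaf ⟨[(nat_lit 3), (nat_lit 1), (nat_lit 3), (nat_lit 1), (nat_lit 3), (nat_lit 1)], (nat_lit 5), (nat_lit 0), (nat_lit 0),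 (nat_lit 4)⟩)) (BT.node (nat_lit 15) (BT.leaf ⟨[(nat_lit 4), (nat_lit 2), (nat_lit 4), (nat_lit 2), (nat_lit 4), (nat_lit 2)], (nat_lit 8), (nat_lit 0), (nat_lit 0), (nat_lit 4)⟩) (BT.leaf ⟨[(nat_lit 1), (nat_lit 2), (nat_lit 1), (nat_lit 2), (nat_lit 1), (nat_lit 2), (nat_lit 1), (nat_lit 2)], (nat_lit 4), (nat_lit 0), (nat_lit 0), (nat_lit 4)⟩))))) (BT.node (nat_lit 24) (BT.node (nat_lit 20) (BT.node (nat_lit 18) (BT.node (nat_lit 17) (BT.leaf ⟨[(nat_lit 3), (nat_lit 2), (nat_lit 3), (nat_lit 2)], (nat_lit 6), (nat_lit 0), (nat_lit 0), (nat_lit 4)⟩) (BT.leaf ⟨[(nat_lit 1), (nat_lit 2), (nat_lit 1), (nat_lit 3), (nat_lit 1), (nat_lit 2), (nat_lit 1), (nat_lit 2), (nat_lit 3)], (nat_lit 7), (nat_lit 1), (nat_lit 0), (nat_lit 4)⟩)) (BT.node (nat_lit 19) (BT.leaf ⟨[(nat_lit 2), (nat_lit 1), (nat_lit 2), (nat_lit 4), (nat_lit 2), (nat_lit 1), (nat_lit 2), (nat_lit 1), (nat_lit 4)], (nat_lit 10), (nat_lit 1), (nat_lit 0),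 (nat_lit 4)⟩) (BT.leaf ⟨[(nat_lit 2), (nat_lit 1), (nat_lit 2), (nat_lit 1), (nat_lit 2), (nat_lit 1), (nat_lit 2), (nat_lit 1)], (nat_lit 4), (nat_lit 1), (nat_lit 0), (nat_lit 4)⟩))) (BT.node (nat_lit 22) (BT.node (nat_lit 21) (BT.leaf ⟨[(nat_lit 1), (nat_lit 3), (nat_lit 1), (nat_lit 3), (nat_lit 1), (nat_lit 3)], (nat_lit 5), (nat_lit 1), (nat_lit 0), (nat_lit 4)⟩) (BT.leaf ⟨[(nat_lit 4), (nat_lit 1), (nat_lit 4), (nat_lit 1)], (nat_lit 9), (nat_lit 0), (nat_lit 0), (nat_lit 4)⟩)) (BT.node (nat_lit 23) (BT.leaf ⟨[(nat_lit 2), (nat_lit 1), (nat_lit 3), (nat_lit 1), (nat_lit 2), (nat_lit 1), (nat_lit 2), (nat_lit 3), (nat_lit 1)], (nat_lit 7), (nat_lit 2), (nat_lit 0), (nat_lit 4)⟩) (BT.leaf ⟨[(nat_lit 2), (nat_lit 4), (nat_lit 2), (nat_lit 1), (nat_lit 2), (nat_lit 1), (nat_lit 4), (nat_lit 2), (nat_lit 1)], (nat_lit 10), (nat_lit 3), (nat_lit 0), (nat_lit 4)⟩)))) (BT.node (nat_lit 28) (BT.node (nat_lit 26) (BT.node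 (nat_lit 25) (BT.leaf ⟨[(nat_lit 2), (nat_lit 4), (nat_lit 2), (nat_lit 4), (nat_lit 2), (nat_lit 4)], (nat_lit 8), (nat_lit 1), (nat_lit 0), (nat_lit 4)⟩) (BT.leaf ⟨[(nat_lit 2), (nat_lit 4), (nat_lit 1), (nat_lit 2), (nat_lit 1), (nat_lit 3), (nat_lit 1), (nat_lit 2), (nat_lit 4), (nat_lit 1), (nat_lit 2), (nat_lit 1), (nat_lit 3), (nat_lit 1), (nat_lit 2), (nat_lit 4), (nat_lit 1), (nat_lit 2), (nat_lit 1), (nat_lit 3), (nat_lit 1)], (nat_lit 12), (nat_lit 1), (nat_lit 0), (nat_lit 4)⟩)) (BT.node (nat_lit 27) (BT.leaf ⟨[(nat_lit 0), (nat_lit 1), (nat_lit 2), (nat_lit 4), (nat_lit 2), (nat_lit 1), (nat_lit 2), (nat_lit 1), (nat_lit 4), (nat_lit 2)], (nat_lit 10), (nat_lit 2), (nat_lit 1), (nat_lit 4)⟩) (BT.leaf ⟨[(nat_lit 0), (nat_lit 4), (nat_lit 2), (nat_lit 1), (nat_lit 3), (nat_lit 1), (nat_lit 2), (nat_lit 4), (nat_lit 2), (nat_lit 1), (nat_lit 3), (nat_lit 1), (nat_lit 2), (nat_lit 4), (nat_lit 2), (nat_lit 1),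 (nat_lit 3), (nat_lit 1), (nat_lit 2)], (nat_lit 11), (nat_lit 2), (nat_lit 1), (nat_lit 4)⟩))) (BT.node (nat_lit 30) (BT.node (nat_lit 29) (BT.leaf ⟨[(nat_lit 0), (nat_lit 2), (nat_lit 4), (nat_lit 2), (nat_lit 1), (nat_lit 3), (nat_lit 1), (nat_lit 2), (nat_lit 4), (nat_lit 2), (nat_lit 1), (nat_lit 3), (nat_lit 1), (nat_lit 2), (nat_lit 4), (nat_lit 2), (nat_lit 1), (nat_lit 3), (nat_lit 1)], (nat_lit 11), (nat_lit 1), (nat_lit 1), (nat_lit 5)⟩) (BT.leaf ⟨[(nat_lit 0), (nat_lit 3), (nat_lit 1), (nat_lit 2), (nat_lit 4), (nat_lit 2), (nat_lit 1), (nat_lit 3), (nat_lit 1), (nat_lit 2), (nat_lit 4), (nat_lit 2), (nat_lit 1), (nat_lit 3), (nat_lit 1), (nat_lit 2), (nat_lit 4), (nat_lit 2), (nat_lit 1)], (nat_lit 11), (nat_lit 5), (nat_lit 1), (nat_lit 5)⟩)) (BT.node (nat_lit 31) (BT.leaf ⟨[(nat_lit 0), (nat_lit 2), (nat_lit 1), (nat_lit 3), (nat_lit 1), (nat_lit 2), (nat_lit 4), (nat_lit 2), (nat_lit 1), (nat_lit 3), (nat_lit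 1), (nat_lit 2), (nat_lit 4), (nat_lit 2), (nat_lit 1), (nat_lit 3), (nat_lit 1), (nat_lit 2), (nat_lit 4)], (nat_lit 11), (nat_lit 3), (nat_lit 1), (nat_lit 5)⟩) (BT.node (nat_lit 32) (BT.leaf ⟨[(nat_lit 1), (nat_lit 3), (nat_lit 1), (nat_lit 3), (nat_lit 1), (nat_lit 3)], (nat_lit 5), (nat_lit 1), (nat_lit 0), (nat_lit 5)⟩) (BT.leaf ⟨[(nat_lit 0), (nat_lit 4), (nat_lit 1), (nat_lit 2), (nat_lit 1), (nat_lit 3), (nat_lit 1), (nat_lit 2), (nat_lit 4), (nat_lit 1), (nat_lit 2), (nat_lit 1), (nat_lit 3), (nat_lit 1), (nat_lit 2), (nat_lit 4), (nat_lit 1), (nat_lit 2), (nat_lit 1), (nat_lit 3), (nat_lit 1), (nat_lit 2)], (nat_lit 12), (nat_lit 2), (nat_lit 1), (nat_lit 5)⟩)))))))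
noncomputable def eC2_hcs : List CW := []
noncomputable def eC2_H (x j : Nat) : Bx (Nat → Nat → Nat) := mkH eC2_L eC2_pb.1 eC2_e.get (lmap CW.w eC2_hcs) (nat_lit 1) (nat_lit 2) (nat_lit 5) (nat_lit 128) (nat_lit 8192) (nat_lit 8191) x (eC2_rots.get j)
noncomputable def eC2_F (x b : Nat) : Bool := blkOK eC2_H eC2_ch (nat_lit 2) (nat_lit 128) (nat_lit 64) (nat_lit 8) (nat_lit 255) (nat_lit 19) (nat_lit 524287) x b

theorem eC2_k0_0 : allFrom (eC2_F (nat_lit 0)) (nat_lit 0) (nat_lit 4) = true := by decide +kernel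
theorem eC2_k1_0 : allFrom (eC2_F (nat_lit 1)) (nat_lit 0) (nat_lit 4) = true := by decide +kernel
theorem eC2_k2_0 : allFrom (eC2_F (nat_lit 2)) (nat_lit 0) (nat_lit 4) = true := by decide +kernel
theorem eC2_k3_0 : allFrom (eC2_F (nat_lit 3)) (nat_lit 0) (nat_lit 4) = true := by decide +kernel
theorem eC2_k4_0 : allFrom (eC2_F (nat_lit 4)) (nat_lit 0) (nat_lit 4) = true := by decide +kernel
theorem TW_ok : TW.ok = true := by decide +kernel
theorem TW_rel : lall TW.relOK RW = true := by decide +kernel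
theorem T36_ok : T36.ok = true := by decide +kernel
theorem T36_rel : lall T36.relOK R36 = true := by decide +kernel
theorem TB_ok : TB.ok = true := by decide +kernel
theorem TB_rel : lall TB.relOK RB = true := by decide +kernel
theorem eW1_all : Cov eW1_F 4 7 0 := by
  have h := Cov.zero eW1_F 4
  have h := h.blk (b := 4) eW1_k0_0 rfl
  have h := h.next (y := 1) rfl rfl
  have h := h.blk (b := 4) eW1_k1_0 rfl
  have h := h.next (y := 2) rfl rfl
  have h := h.blk (b := 4) eW1_k2_0 rfl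
  have h := h.next (y := 3) rfl rfl
  have h := h.blk (b := 4) eW1_k3_0 rfl
  have h := h.next (y := 4) rfl rfl
  have h := h.blk (b := 4) eW1_k4_0 rfl
  have h := h.next (y := 5) rfl rfl
  have h := h.blk (b := 4) eW1_k5_0 rfl
  have h := h.next (y := 6) rfl rfl
  have h := h.blk (b := 4) eW1_k6_0 rfl
  have h := h.next (y := 7) rfl rfl
  exact h

theorem eW1 : Enum RW S3 (gensW 6) 24 :=
  ⟨eW1_cols, eW1_ch, eW1_L, eW1_H, eW1_pb.1, eW1_e.get, [(nat_lit 0), (nat_lit 1), (nat_lit 3), (nat_lit 5), (nat_lit 7), (nat_lit 9), (nat_lit 11)], (nat_lit 63), (nat_lit 6), eW1_rots, eW1_hcs,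
    (nat_lit 25), (nat_lit 7), (nat_lit 32), (nat_lit 64), (nat_lit 2048), (nat_lit 2047), (nat_lit 8), (nat_lit 255), (nat_lit 16), (nat_lit 65535), (nat_lit 1), (nat_lit 4),
    fun _ _ => rfl, fun _ => rfl, fun _ _ => rfl, by decide +kernel, eW1_all.1⟩
theorem eW2_all : Cov eW2_F 4 4 0 := by
  have h := Cov.zero eW2_F 4
  have h := h.blk (b := 4) eW2_k0_0 rfl
  have h := h.next (y := 1) rfl rfl
  have h := h.blk (b := 4) eW2_k1_0 rfl
  have h := h.next (y := 2) rfl rfl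
  have h := h.blk (b := 4) eW2_k2_0 rfl
  have h := h.next (y := 3) rfl rfl
  have h := h.blk (b := 4) eW2_k3_0 rfl
  have h := h.next (y := 4) rfl rfl
  exact h

theorem eW2 : Enum RW S0 S3 48 :=
  ⟨eW2_cols, eW2_ch, eW2_L, eW2_H, eW2_pb.1, eW2_e.get, [(nat_lit 0), (nat_lit 1), (nat_lit 3), (nat_lit 5)], (nat_lit 63), (nat_lit 6), eW2_rots, eW2_hcs,
    (nat_lit 49), (nat_lit 4), (nat_lit 64), (nat_lit 16), (nat_lit 1024), (nat_lit 4095), (nat_lit 8), (nat_lit 255), (nat_lit 14), (nat_lit 16383), (nat_lit 1), (nat_lit 4),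
    fun _ _ => rfl, fun _ => rfl, fun _ _ => rfl, by decide +kernel, eW2_all.1⟩
theorem e36_all : Cov e36_F 4 7 0 := by
  have h := Cov.zero e36_F 4
  have h := h.blk (b := 4) e36_k0_0 rfl
  have h := h.next (y := 1) rfl rfl
  have h := h.blk (b := 4) e36_k1_0 rfl
  have h := h.next (y := 2) rfl rfl
  have h := h.blk (b := 4) e36_k2_0 rfl
  have h := h.next (y := 3) rfl rfl
  have h := h.blk (b := 4) e36_k3_0 rfl
  have h := h.next (y := 4) rfl rfl
  have h := h.blk (b := 4) e36_k4_0 rfl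
  have h := h.next (y := 5) rfl rfl
  have h := h.blk (b := 4) e36_k5_0 rfl
  have h := h.next (y := 6) rfl rfl
  have h := h.blk (b := 4) e36_k6_0 rfl
  have h := h.next (y := 7) rfl rfl
  exact h

theorem e36 : Enum R36 S0 (gensW 4) 36 :=
  ⟨e36_cols, e36_ch, e36_L, e36_H, e36_pb.1, e36_e.get, [(nat_lit 0), (nat_lit 1), (nat_lit 2), (nat_lit 3), (nat_lit 4), (nat_lit 5), (nat_lit 7)], (nat_lit 12), (nat_lit 4), e36_rots, e36_hcs,
    (nat_lit 37), (nat_lit 7), (nat_lit 64), (nat_lit 32), (nat_lit 2048), (nat_lit 4095), (nat_lit 8), (nat_lit 255), (nat_lit 15), (nat_lit 32767), (nat_lit 1), (nat_lit 4),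
    fun _ _ => rfl, fun _ => rfl, fun _ _ => rfl, by decide +kernel, e36_all.1⟩
theorem eB1_all : Cov eB1_F 4 6 0 := by
  have h := Cov.zero eB1_F 4
  have h := h.blk (b := 4) eB1_k0_0 rfl
  have h := h.next (y := 1) rfl rfl
  have h := h.blk (b := 4) eB1_k1_0 rfl
  have h := h.next (y := 2) rfl rfl
  have h := h.blk (b := 4) eB1_k2_0 rfl
  have h := h.next (y := 3) rfl rfl
  have h := h.blk (b := 4) eB1_k3_0 rfl
  have h := h.next (y := 4) rfl rfl
  have h := h.blk (b := 4) eB1_k4_0 rfl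
  have h := h.next (y := 5) rfl rfl
  have h := h.blk (b := 4) eB1_k5_0 rfl
  have h := h.next (y := 6) rfl rfl
  exact h

theorem eB1 : Enum RB S3 (gensW 5) 5 :=
  ⟨eB1_cols, eB1_ch, eB1_L, eB1_H, eB1_pb.1, eB1_e.get, [(nat_lit 0), (nat_lit 1), (nat_lit 3), (nat_lit 5), (nat_lit 7), (nat_lit 9)], (nat_lit 31), (nat_lit 5), eB1_rots, eB1_hcs,
    (nat_lit 6), (nat_lit 6), (nat_lit 64), (nat_lit 64), (nat_lit 4096), (nat_lit 4095), (nat_lit 8), (nat_lit 255), (nat_lit 17), (nat_lit 131071), (nat_lit 1), (nat_lit 4),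
    fun _ _ => rfl, fun _ => rfl, fun _ _ => rfl, by decide +kernel, eB1_all.1⟩
theorem eB2_all : Cov eB2_F 4 4 0 := by
  have h := Cov.zero eB2_F 4
  have h := h.blk (b := 4) eB2_k0_0 rfl
  have h := h.next (y := 1) rfl rfl
  have h := h.blk (b := 4) eB2_k1_0 rfl
  have h := h.next (y := 2) rfl rfl
  have h := h.blk (b := 4) eB2_k2_0 rfl
  have h := h.next (y := 3) rfl rfl
  have h := h.blk (b := 4) eB2_k3_0 rfl
  have h := h.next (y := 4) rfl rfl
  exact h

theorem eB2 : Enum RB S0 S3 24 :=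
  ⟨eB2_cols, eB2_ch, eB2_L, eB2_H, eB2_pb.1, eB2_e.get, [(nat_lit 0), (nat_lit 1), (nat_lit 3), (nat_lit 5)], (nat_lit 31), (nat_lit 5), eB2_rots, eB2_hcs,
    (nat_lit 25), (nat_lit 4), (nat_lit 32), (nat_lit 16), (nat_lit 512), (nat_lit 2047), (nat_lit 8), (nat_lit 255), (nat_lit 12), (nat_lit 4095), (nat_lit 1), (nat_lit 4),
    fun _ _ => rfl, fun _ => rfl, fun _ _ => rfl, by decide +kernel, eB2_all.1⟩
theorem eC1_all : Cov eC1_F 4 5 0 := by
  have h := Cov.zero eC1_F 4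
  have h := h.blk (b := 4) eC1_k0_0 rfl
  have h := h.next (y := 1) rfl rfl
  have h := h.blk (b := 4) eC1_k1_0 rfl
  have h := h.next (y := 2) rfl rfl
  have h := h.blk (b := 4) eC1_k2_0 rfl
  have h := h.next (y := 3) rfl rfl
  have h := h.blk (b := 4) eC1_k3_0 rfl
  have h := h.next (y := 4) rfl rfl
  have h := h.blk (b := 4) eC1_k4_0 rfl
  have h := h.next (y := 5) rfl rfl
  exact h

theorem eC1 : Enum RC1 S0 (gensW 4) 1 :=
  ⟨eC1_cols, eC1_ch, eC1_L, eC1_H, eC1_pb.1, eC1_e.get, [(nat_lit 0), (nat_lit 1), (nat_lit 3), (nat_lit 5), (nat_lit 7)], (nat_lit 15), (nat_lit 4), eC1_rots, eC1_hcs,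
    (nat_lit 2), (nat_lit 5), (nat_lit 128), (nat_lit 64), (nat_lit 8192), (nat_lit 8191), (nat_lit 8), (nat_lit 255), (nat_lit 18), (nat_lit 262143), (nat_lit 1), (nat_lit 4),
    fun _ _ => rfl, fun _ => rfl, fun _ _ => rfl, by decide +kernel, eC1_all.1⟩
theorem eC2_all : Cov eC2_F 4 5 0 := by
  have h := Cov.zero eC2_F 4
  have h := h.blk (b := 4) eC2_k0_0 rfl
  have h := h.next (y := 1) rfl rfl
  have h := h.blk (b := 4) eC2_k1_0 rfl
  have h := h.next (y := 2) rfl rfl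
  have h := h.blk (b := 4) eC2_k2_0 rfl
  have h := h.next (y := 3) rfl rfl
  have h := h.blk (b := 4) eC2_k3_0 rfl
  have h := h.next (y := 4) rfl rfl
  have h := h.blk (b := 4) eC2_k4_0 rfl
  have h := h.next (y := 5) rfl rfl
  exact h

theorem eC2 : Enum RC2 S0 (gensW 4) 1 :=
  ⟨eC2_cols, eC2_ch, eC2_L, eC2_H, eC2_pb.1, eC2_e.get, [(nat_lit 0), (nat_lit 1), (nat_lit 3), (nat_lit 5), (nat_lit 7)], (nat_lit 15), (nat_lit 4), eC2_rots, eC2_hcs,
    (nat_lit 2), (nat_lit 5), (nat_lit 128), (nat_lit 64), (nat_lit 8192), (nat_lit 8191), (nat_lit 8), (nat_lit 255), (nat_lit 19), (nat_lit 524287), (nat_lit 1), (nat_lit 4),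
    fun _ _ => rfl, fun _ => rfl, fun _ _ => rfl, by decide +kernel, eC2_all.1⟩
noncomputable def cjW_cols : List (BT (Bx Nat)) := [(BT.node (nat_lit 9) (BT.node (nat_lit 4) (BT.node (nat_lit 2) (BT.node (nat_lit 1) (BT.leaf (Bx.mk (nat_lit 0x4f6980ad14171ae041d82000000000000000000000001d63850da05000000000000360012da4013c21000000))) (BT.leaf (Bx.mk (nat_lit 0)))) (BT.node (nat_lit 3) (BT.leaf (Bx.mk (nat_lit 0))) (BT.leaf (Bx.mk (nat_lit 0))))) (BT.node (nat_lit 6) (BT.node (nat_lit 5) (BT.leaf (Bx.mk (nat_lit 0x570ae03c0785a6b4c000000000000000000000000000000000000000000000000000000000000000000000000000000000000000000000))) (BT.leaf (Bx.mk (nat_lit 0x21cc392b4568000000000000000000000000000000001c6b8d0000000000000000000000000000a09410760ec000000000013da7b0000000000000000000000628c5000000000000000000000000000000000010020)))) (BT.node (nat_lit 7) (BT.leaf (Bx.mk (nat_lit 0))) (BT.node (nat_lit 8) (BT.leaf (Bx.mk (nat_lit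 0))) (BT.leaf (Bx.mk (nat_lit 0))))))) (BT.node (nat_lit 13) (BT.node (nat_lit 11) (BT.node (nat_lit 10) (BT.leaf (Bx.mk (nat_lit 0x26c4d80e81d000000000000000000000024849000000))) (BT.leaf (Bx.mk (nat_lit 0xc99930000003c078000000000000000000000000000000000000000000000cc19800000000000c01800000000000000000000000000000000000000000000000000000000000000000000000000000000000000000)))) (BT.node (nat_lit 12) (BT.leaf (Bx.mk (nat_lit 0x570ae0000007a6f4c0000000000000000000000000000000000000000000000000000001532a6000001e13c2))) (BT.leaf (Bx.mk (nat_lit 0))))) (BT.node (nat_lit 15) (BT.node (nat_lit 14) (BT.leaf (Bx.mk (nat_lit 0x3add89b25d00000000000248930000080000000000000000000000000000000000000000000000000000000000000000000000000000000000000000))) (BT.leaf (Bx.mk (nat_lit 0x2b056800000000000ae05b00000022b8d0000000000000000000000000000a094800000000000000000000000000013d97a0720ec000002c80b000000000000000000000000000000000010028))))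 (BT.node (nat_lit 16) (BT.leaf (Bx.mk (nat_lit 0xd92b800000049bd30000000000000000000000000001531ac000001e108b0000000000000000000000326b4c000000f0fc80000000000000000000000000000ccfb000000000000c02cb))) (BT.node (nat_lit 17) (BT.leaf (Bx.mk (nat_lit 0x630cd000000000000000006c0db000000000001b83500000000000000000000000608c80000000000084f0b000000000000000008750e4000000000000000086b0f40000000000000000000001a1c29))) (BT.leaf (Bx.mk (nat_lit 0xf39ec00000000000000000fc9fa0000000000000000000000000000fec520000000000000000080c4860cc340000000000000000636c600000000000000000000000000000000018a31c0000000000000000070b08))))))))]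
noncomputable def cjW (x j : Nat) : Bx Nat := chk cjW_cols x j

theorem pW : TW.Pres RW (gensW 6) :=
  ⟨CT.ok_spec TW_ok, lall_iff.1 TW_rel, by decide +kernel, by decide +kernel, by decide +kernel,
    eW1.bound (ug_rels _) (eW2.bound (ug_rels _) (bound_nil _))⟩

instance gW : TW.Grp := pW.grp

theorem p36 : T36.Pres R36 (gensW 4) :=
  ⟨CT.ok_spec T36_ok, lall_iff.1 T36_rel, by decide +kernel, by decide +kernel, by decide +kernel,
    e36.bound (ug_rels _) (bound_nil _)⟩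

instance g36 : T36.Grp := p36.grp

theorem pB : TB.Pres RB (gensW 5) :=
  ⟨CT.ok_spec TB_ok, lall_iff.1 TB_rel, by decide +kernel, by decide +kernel, by decide +kernel,
    eB1.bound (ug_rels _) (eB2.bound (ug_rels _) (bound_nil _))⟩

instance gB : TB.Grp := pB.grp

end CF.XT.L43
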