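import Cfsg.Agent.XT.Chk
import Cfsg.Agent.Comp.Suz.Nets

set_option autoImplicit false
set_option maxRecDepth 1000000
set_option maxHeartbeats 0
set_option Elab.async false

namespace CF.XT.Sz

open CF.Comp CF.Bt

noncomputable def cH : List Lvl := [⟨(nat_lit 3), [[(nat_lit 31)],
  [(nat_lit 33)],
  [(nat_lit 35)],
  [(nat_lit 37)],
  [(nat_lit 39)]], (nat_lit 5)⟩,
  ⟨(nat_lit 1), [[(nat_lit 71)],
  [(nat_lit 73)]], (nat_lit 10)⟩,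
  ⟨(nat_lit 4), [[(nat_lit 75)]], (nat_lit 2)⟩]
noncomputable def cV : List Lvl := [⟨(nat_lit 1), [[(nat_lit 27)],
  [(nat_lit 29)]], (nat_lit 10)⟩,
  ⟨(nat_lit 3), [[(nat_lit 77)],
  [(nat_lit 79)],
  [(nat_lit 81)]], (nat_lit 3)⟩,
  ⟨(nat_lit 4), [[(nat_lit 83)]], (nat_lit 2)⟩]
noncomputable def cY : List Lvl := [⟨(nat_lit 0), [[(nat_lit 45)],
  [(nat_lit 47)],
  [(nat_lit 49)],
  [(nat_lit 51)],
  [(nat_lit 53)],
  [(nat_lit 55)],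
  [(nat_lit 41)]], (nat_lit 2)⟩,
  ⟨(nat_lit 1), [[(nat_lit 85)],
  [(nat_lit 87)],
  [(nat_lit 89)],
  [(nat_lit 91)]], (nat_lit 2)⟩,
  ⟨(nat_lit 3), [[(nat_lit 93)],
  [(nat_lit 95)]], (nat_lit 1)⟩,
  ⟨(nat_lit 4), [[(nat_lit 97)]], (nat_lit 2)⟩]
noncomputable def Tv : Tr := (.base (nat_lit 0x3fdffffafffffffdfbfbffffffffffffffffff7ffffffffffffffffffffff7ffffffffffffffffffffffffffffffffffffffffffffffffffffffffffffffffffffffffffffffffffffffffffffffffffffffffffffffffffffffffffffffffffffffffffffffffffffffffffffffffffffffffffffffffffffffffffffffffffffffffffffffffffffffffffff9fffffffffffffffffcfffffffffffeffffffffedffffffcfffbeffefffc2ffdffffffffdffffffffffffffffdffffffff9ffffffcfffffbf7f8fffffbffffcf9f9ffffffff9f3effffff3efffff7ffffffe) (.focus 0 (.sym [[1], [3]] (.cons [] 8 192 (.base (nat_lit 0x1a9400186ba8400093808228001421c40c1597204178922880010a0856e8b6e9c29f00549001805b201047682b60080d9ff8600045b00880010100574745db0fa21bc5351e917408654302a4c47d0858ff6b010258a901160103a03d36d2c4ea432120e66807461b4160125fc894d4746b8cf09e67d50e0007e16612786556177d6bfb357c1e13ecc818d0725807fa7a39cf7023458683b226e925092d896f2116012282000840200200000804a0603107854b28d63a132e6d80402e6418803ac518188583018022b0b132010d06892941705060490e120002260302432006)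 (.focus 0 (.base (nat_lit 0x20098000000004000020600088000020024020000000000010000000800000002000000000000220000400840000100000040040b2000000000000000000000000000000000000001000040002000000008000000704000012200002012400040000800000000004000108801008000200030100900850200000100800820800820000080000400010802004801000000220080800010c00100200004000000c204000300000008100080000004082000012a04028c42011024c820013a10201088044080890080008000822000000021808001022812c1020007001000430) (.op 4 0 (.focus 0 (.sym [[5], [7], [9]] (.cons [] 4 3 .triv (.cons [2, 3, 1] 3 0 (.base (nat_lit 1) (.op 5 0 (.and 1 0 (.dead0 0)))) .nil)))))))) (.cons [8] 10 0 (.base (nat_lit 0x420000100048081000000000000200000040008000030308000600020004110041010022000041000000000440c0000000000808000010086000000000000000200080200a0400800002100000000000000000000400408000400000000100000000000080000000000004000000000000400000008200040044040000000080000000000000004000800000000040000000000000000000000002100000008000050000000000802000400100000000000000000080000000008000000000000000000000000000000000000000000000020000000180000000004000)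 (.op 5 0 (.and 1 0 (.dead0 0)))) (.cons [9] 11 0 (.base (nat_lit 0x1a9400186ba8400093808228001421c40c1597204178922880010a0856e8b6e9c29f00549001805b201047682b60080d9ff8600045b00880010100574745db0fa21bc5351e917408654302a4c47d0858ff6b010258a901160103a03d36d2c4ea432120e66807461b4160125fc894d4746b8cf09e67d50e0007e16612786556177d6bfb357c1e13ecc818d0725807fa7a39cf7023458683b226e925092d896f2116012282000840200200000804a0603107854b28d63a132e6d80402e6418803ac518188583018022b0b132010d06892941705060490e120002260302432006) (.op 5 0 (.and 1 0 (.dead0 0)))) (.cons [11, 10, 16, 2] 8 0 (.op 5 0 (.and 1 0 (.dead0 0))) (.cons [6, 10, 16, 2] 6 0 (.base (nat_lit 128) (.op 4 1 (.and 1 0 (.dead0 0)))) .nil))))))))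
noncomputable def TvK : List (List Nat) := [[27], [29], [30, 28, 30, 28, 77, 77], [81, 29, 27, 84, 81, 83, 77, 84], [84]]
noncomputable def TvF : List (List Nat) := [[], [1]]
noncomputable def Dv : CD := ⟨cH, TvF, TvK, Tv⟩
noncomputable def Ty : Tr := (.op 5 0 (.focus 0 (.base (nat_lit 0x3fdffffafffffffdfbfbffffffffffffffffff7ffffffffffffffffffffff7ffffffffffffffffffffffffffffffffffffffffffffffffffffffffffffffffffffffffffffffffffffffffffffffffffffffffffffffffffffffffffffffffffffffffffffffffffffffffffffffffffffffffffffffffffffffffffffffffffffffffffffffffffffffffffff9fffffffffffffffffcfffffffffffeffffffffedffffffcfffbeffefffc2ffdffffffffdffffffffffffffffdffffffff9ffffffcfffffbf7f8fffffbffffcf9f9ffffffff9f3effffff3efffff7ffffffe) (.focus 0 (.sym [[1], [3], [5], [7], [9], [11], [13]] (.cons [] 2 24 (.focus 2 (.base (nat_lit 0x1a9400186ba8400093808228001421c40c1597204178922880010a0856e8b6e9c29f00549001805b201047682b60080d9ff8600045b00880010100574745db0fa21bc5351e917408654302a4c47d0858ff6b010258a901160103a03d36d2c4ea432120e66807461b4160125fc894d4746b8cf09e67d50e0007e16612786556177d6bfb357c1e13ecc818d0725807fa7a39cf7023458683b226e925092d896f2116012282000840200200000804a0603107854b28d63a132e6d80402e6418803ac518188583018022b0b132010d06892941705060490e120002260302432006)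 (.focus 0 (.sym [[13], [15], [17]] (.cons [] 2 3 .triv (.cons [1, 4, 1, 1, 6, 1, 1] 2 0 (.base (nat_lit 0x1000000000000080000000000000000000000000000000000000000000000000010) (.focus 0 (.sym [[13]] (.cons [] 2 0 (.base (nat_lit 0x20000000000000) (.op 4 0 (.base (nat_lit 0x1000000000000000) (.and 1 0 (.dead0 0))))) .nil)))) .nil)))))) .nil))))))
noncomputable def TyK : List (List Nat) := [[45], [91, 93, 95], [49], [89, 91, 93], [91, 85, 93, 95, 98], [93, 98], [98], [46, 54, 50, 93, 95, 98], [91, 86, 95, 98]]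
noncomputable def TyF : List (List Nat) := [[], [1]]
noncomputable def Dy : CD := ⟨cH, TyF, TyK, Ty⟩
noncomputable def Tq_1 : Tr := (.cons [16, 1, 13, 9] 1 0 (.op 4 0 (.op 22 0 (.op 16 2 (.and 1 0 (.dead0 0))))) (.cons [16, 2, 12, 1] 1 0 (.op 4 0 (.op 16 0 (.op 22 2 (.and 1 0 (.dead0 0))))) (.cons [1, 7, 11, 1, 9] 1 0 (.op 4 0 (.and 0 3 (.dead0 0))) (.cons [14, 9, 5, 14, 10] 1 0 (.op 4 0 (.and 0 3 (.dead0 0))) (.cons [2, 11, 15, 10, 2] 1 0 (.op 4 0 (.and 0 3 (.dead0 0))) (.cons [2, 8, 9, 15, 9] 1 0 (.op 4 0 (.and 0 3 (.dead0 0))) (.cons [1, 7, 9, 11, 9] 1 0 (.op 4 0 (.and 0 3 (.dead0 0))) (.cons [15, 8, 10, 16, 2] 1 0 (.op 4 0 (.and 0 3 (.dead0 0))) (.cons [15, 9, 14, 8, 10] 1 0 (.op 4 0 (.and 0 3 (.dead0 0))) (.cons [5, 4, 10, 15, 10] 1 0 (.op 16 0 (.op 22 0 (.op 10 2 (.op 28 0 (.and 2 0 (.dead0 0)))))) (.cons [4, 9, 14, 8, 10] 1 0 (.op 16 0 (.op 22 0 (.op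 10 2 (.op 28 0 (.and 2 0 (.dead0 0)))))) (.cons [4, 11, 15, 2, 9] 1 0 (.op 16 0 (.op 22 0 (.op 10 2 (.op 28 0 (.and 2 0 (.dead0 0)))))) (.cons [4, 9, 5, 14, 10] 1 0 (.op 16 0 (.op 22 0 (.op 10 2 (.op 28 0 (.and 2 0 (.dead0 0)))))) (.cons [4, 7, 10, 12, 2] 1 0 (.op 16 0 (.op 22 0 (.op 10 2 (.op 28 0 (.and 2 0 (.dead0 0)))))) (.cons [2, 5, 11, 14, 9] 1 0 (.op 16 0 (.op 22 0 (.op 10 2 (.op 28 0 (.and 2 0 (.dead0 0)))))) (.cons [5, 9, 8, 16, 1] 1 0 (.op 16 0 (.op 22 0 (.op 10 2 (.op 28 0 (.and 2 0 (.dead0 0)))))) (.cons [1, 16, 5, 16, 2] 1 0 (.op 4 0 (.op 16 0 (.op 22 2 (.and 1 0 (.dead0 0))))) (.cons [1, 12, 2, 8, 10] 1 0 (.op 4 0 (.op 28 0 (.op 34 2 (.and 1 0 (.dead0 0))))) (.cons [4, 12, 14, 2, 9] 1 0 (.op 4 0 (.op 22 0 (.op 16 2 (.and 1 0 (.dead0 0))))) (.cons [15, 2, 10, 12, 2] 1 0 (.op 4 0 (.op 22 0 (.op 16 2 (.and 1 0 (.dead0 0))))) (.cons [4, 6, 10, 16,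 2] 1 0 (.op 16 0 (.op 22 0 (.op 10 2 (.op 28 0 (.and 2 0 (.dead0 0)))))) (.cons [10, 16, 6, 9, 4] 1 0 (.op 16 0 (.op 22 0 (.op 10 2 (.op 28 0 (.and 2 0 (.dead0 0)))))) (.cons [11, 4, 14, 11, 1] 1 0 (.op 4 0 (.op 28 0 (.op 34 2 (.and 1 0 (.dead0 0))))) (.cons [4, 6, 10, 15, 10] 1 0 (.op 16 0 (.op 22 0 (.op 10 2 (.op 28 0 (.and 2 0 (.dead0 0)))))) (.cons [16, 10, 14, 8, 10] 1 0 (.op 16 0 (.op 22 0 (.op 10 2 (.op 28 0 (.and 2 0 (.dead0 0)))))) (.cons [13, 15, 6, 9, 1] 1 0 (.op 4 0 (.op 22 0 (.op 16 2 (.and 1 0 (.dead0 0))))) (.cons [3, 9, 14, 8, 10] 1 0 (.op 4 0 (.op 16 0 (.op 22 2 (.and 1 0 (.dead0 0))))) (.cons [4, 8, 15, 10, 2] 1 0 (.op 16 0 (.op 22 0 (.op 10 2 (.op 28 0 (.and 2 0 (.dead0 0)))))) (.cons [11, 6, 9, 14, 9] 1 0 (.op 4 0 (.op 16 0 (.op 22 2 (.and 1 0 (.dead0 0))))) (.cons [3, 11, 9, 15, 9] 1 0 (.op 4 0 (.op 22 0 (.op 16 2 (.and 1 0 (.dead0 0)))))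 (.cons [4, 6, 11, 15, 9] 1 0 (.op 4 0 (.op 28 0 (.op 34 2 (.and 1 0 (.dead0 0))))) (.cons [11, 11, 9, 15, 9] 1 0 (.op 4 0 (.op 16 0 (.op 22 2 (.and 1 0 (.dead0 0))))) (.cons [3, 11, 10, 16, 2] 1 0 (.op 4 0 (.op 22 0 (.op 16 2 (.and 1 0 (.dead0 0))))) (.cons [10, 16, 8, 16, 2] 1 0 (.op 4 0 (.op 28 0 (.op 34 2 (.and 1 0 (.dead0 0))))) (.cons [3, 9, 12, 14, 10] 1 0 (.op 4 0 (.op 22 0 (.op 16 2 (.and 1 0 (.dead0 0))))) (.cons [10, 8, 10, 15, 10] 1 0 (.op 7 0 (.op 10 0 (.op 34 2 (.and 1 0 (.dead0 0))))) (.cons [4, 11, 9, 15, 9] 1 0 (.op 16 0 (.op 22 0 (.op 10 2 (.op 28 0 (.and 2 0 (.dead0 0)))))) (.cons [8, 16, 2, 10, 5] 1 0 (.op 4 0 (.op 16 0 (.op 28 2 (.and 1 0 (.dead0 0))))) (.cons [13, 10, 13, 15, 2] 1 0 (.op 4 0 (.op 16 0 (.op 22 2 (.and 1 0 (.dead0 0))))) (.cons [1, 12, 14, 10, 2] 1 0 (.op 7 0 (.op 28 0 (.op 34 2 (.and 1 0 (.dead0 0))))) .nil))))))))))))))))))))))))))))))))))))))))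
noncomputable def Tq_2 : Tr := (.cons [8, 2, 10, 3] 1 0 (.op 4 0 (.op 16 0 (.op 28 2 (.and 1 0 (.dead0 0))))) (.cons [16, 9, 4, 1] 1 0 (.op 4 0 (.op 28 0 (.op 16 2 (.and 1 0 (.dead0 0))))) (.cons [5, 2, 10, 5] 1 0 (.op 4 0 (.op 22 0 (.op 28 2 (.and 1 0 (.dead0 0))))) (.cons [1, 10, 15, 10] 1 0 (.op 4 0 (.op 10 0 (.op 16 2 (.and 1 0 (.dead0 0))))) (.cons [7, 2, 10, 5] 1 0 (.op 4 0 (.op 22 0 (.op 28 2 (.and 1 0 (.dead0 0))))) (.cons [14, 9, 4, 1] 1 0 (.op 4 0 (.op 28 0 (.op 16 2 (.and 1 0 (.dead0 0))))) (.cons [11, 4, 15, 10] 1 0 (.op 4 0 (.op 28 0 (.op 34 2 (.and 1 0 (.dead0 0))))) (.cons [10, 14, 15, 2] 1 0 (.op 4 0 (.op 10 0 (.op 16 2 (.and 1 0 (.dead0 0))))) (.cons [12, 3, 1, 9] 1 0 (.op 4 0 (.op 22 0 (.op 28 2 (.and 1 0 (.dead0 0))))) (.cons [3, 14, 9, 1] 1 0 (.op 16 0 (.op 22 0 (.op 10 2 (.op 28 0 (.and 2 0 (.dead0 0)))))) (.cons [7, 10, 1, 6] 1 0 (.op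 4 0 (.op 28 0 (.op 22 2 (.and 1 0 (.dead0 0))))) (.cons [13, 2, 12, 1] 1 0 (.op 4 0 (.op 16 0 (.op 28 2 (.and 1 0 (.dead0 0))))) (.cons [4, 11, 14, 9] 1 0 (.op 7 0 (.op 28 0 (.op 34 2 (.and 1 0 (.dead0 0))))) (.cons [10, 1, 11, 9] 1 0 (.op 4 0 (.op 28 0 (.op 22 2 (.and 1 0 (.dead0 0))))) (.cons [9, 2, 14, 9] 1 0 (.op 4 0 (.op 22 0 (.op 34 2 (.and 1 0 (.dead0 0))))) (.cons [10, 3, 12, 10] 1 0 (.op 4 0 (.op 28 0 (.op 10 2 (.and 1 0 (.dead0 0))))) (.cons [7, 2, 11, 1] 1 0 (.op 4 0 (.op 28 0 (.op 22 2 (.and 1 0 (.dead0 0))))) (.cons [7, 2, 10, 3] 1 0 (.op 4 0 (.op 22 0 (.op 28 2 (.and 1 0 (.dead0 0))))) (.cons [16, 5, 15, 2] 1 0 (.op 7 0 (.op 10 0 (.op 34 2 (.and 1 0 (.dead0 0))))) (.cons [3, 12, 8, 10] 1 0 (.op 4 0 (.op 22 0 (.op 34 2 (.and 1 0 (.dead0 0))))) (.cons [7, 12, 14, 2] 1 0 (.op 4 0 (.op 10 0 (.op 34 2 (.and 1 0 (.dead0 0))))) (.cons [8, 10, 11, 3]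 1 0 (.op 7 0 (.op 22 0 (.op 34 2 (.and 1 0 (.dead0 0))))) (.cons [5, 14, 15, 2] 1 0 (.op 7 0 (.op 10 0 (.op 34 2 (.and 1 0 (.dead0 0))))) (.cons [3, 5, 16, 2] 1 0 (.op 4 0 (.op 10 0 (.op 34 2 (.and 1 0 (.dead0 0))))) (.cons [15, 3, 10, 1] 1 0 (.op 4 0 (.op 10 0 (.op 16 2 (.and 1 0 (.dead0 0))))) (.cons [7, 10, 5, 3] 1 0 (.op 4 0 (.op 16 0 (.op 34 2 (.and 1 0 (.dead0 0))))) (.cons [11, 14, 1, 9] 1 0 (.op 4 0 (.op 10 0 (.op 22 2 (.and 1 0 (.dead0 0))))) (.cons [8, 15, 2, 3] 1 0 (.op 4 0 (.op 22 0 (.op 34 2 (.and 1 0 (.dead0 0))))) (.cons [9, 6, 15, 10] 1 0 (.op 4 0 (.op 16 0 (.op 10 2 (.and 1 0 (.dead0 0))))) (.cons [3, 16, 2, 3] 1 0 (.op 4 0 (.op 22 0 (.op 34 2 (.and 1 0 (.dead0 0))))) (.cons [15, 10, 12, 2] 1 0 (.op 4 0 (.op 22 0 (.op 16 2 (.and 1 0 (.dead0 0))))) (.cons [3, 1, 12, 6] 1 0 (.op 10 0 (.and 0 5 (.dead0 0))) (.cons [14, 1, 9, 1] 1 0 (.op 4 0 (.op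 16 0 (.op 28 2 (.and 1 0 (.dead0 0))))) (.cons [12, 10, 1, 5] 1 0 (.op 4 0 (.op 22 0 (.op 28 2 (.and 1 0 (.dead0 0))))) (.cons [1, 15, 11, 9] 1 0 (.op 4 0 (.op 28 0 (.op 22 2 (.and 1 0 (.dead0 0))))) (.cons [10, 15, 10, 6] 1 0 (.op 4 0 (.op 10 0 (.op 16 2 (.and 1 0 (.dead0 0))))) (.cons [10, 11, 9, 5] 1 0 (.op 10 0 (.and 0 7 (.dead0 0))) (.cons [5, 10, 1, 10] 1 0 (.op 10 0 (.and 0 7 (.dead0 0))) (.cons [11, 15, 9, 4] 1 0 (.op 4 0 (.op 28 0 (.op 34 2 (.and 1 0 (.dead0 0))))) (.cons [16, 12, 2, 10] 1 0 (.op 4 0 (.op 22 0 (.op 16 2 (.and 1 0 (.dead0 0))))) Tq_1))))))))))))))))))))))))))))))))))))))))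
noncomputable def Tq_3 : Tr := (.cons [7, 3, 11, 9] 1 0 (.op 4 0 (.op 10 0 (.op 34 2 (.and 1 0 (.dead0 0))))) (.cons [4, 8, 16, 2] 1 0 (.op 7 0 (.op 10 0 (.op 34 2 (.and 1 0 (.dead0 0))))) (.cons [2, 12, 1, 4] 1 0 (.op 4 0 (.op 22 0 (.op 28 2 (.and 1 0 (.dead0 0))))) (.cons [12, 2, 11, 1] 1 0 (.op 4 0 (.op 22 0 (.op 28 2 (.and 1 0 (.dead0 0))))) (.cons [12, 8, 10, 1] 1 0 (.op 16 0 (.op 22 0 (.op 10 2 (.op 28 0 (.and 2 0 (.dead0 0)))))) (.cons [15, 7, 2, 10] 1 0 (.op 4 0 (.op 10 0 (.op 22 2 (.and 1 0 (.dead0 0))))) (.cons [15, 11, 1, 9] 1 0 (.op 4 0 (.op 16 0 (.op 22 2 (.and 1 0 (.dead0 0))))) (.cons [1, 15, 9, 5] 1 0 (.op 4 0 (.op 16 0 (.op 28 2 (.and 1 0 (.dead0 0))))) (.cons [15, 9, 13, 9] 1 0 (.op 4 0 (.op 16 0 (.op 22 2 (.and 1 0 (.dead0 0))))) (.cons [10, 14, 16, 2] 1 0 (.op 4 0 (.op 22 0 (.op 10 2 (.and 1 0 (.dead0 0))))) (.cons [11, 2, 10, 2] 1 0 (.op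 4 0 (.op 22 0 (.op 10 2 (.and 1 0 (.dead0 0))))) (.cons [8, 3, 16, 2] 1 0 (.op 7 0 (.op 16 0 (.op 34 2 (.and 1 0 (.dead0 0))))) (.cons [2, 3, 14, 10] 1 0 (.op 4 0 (.op 28 0 (.op 16 2 (.and 1 0 (.dead0 0))))) (.cons [8, 13, 10, 1] 1 0 (.op 4 0 (.op 28 0 (.op 16 2 (.and 1 0 (.dead0 0))))) (.cons [9, 11, 3, 10] 1 0 (.op 4 0 (.op 22 0 (.op 10 2 (.and 1 0 (.dead0 0))))) (.cons [7, 13, 11, 1] 1 0 (.op 7 0 (.op 10 0 (.op 34 2 (.and 1 0 (.dead0 0))))) (.cons [6, 4, 14, 9] 1 0 (.op 4 0 (.op 22 0 (.op 34 2 (.and 1 0 (.dead0 0))))) (.cons [10, 15, 10, 3] 1 0 (.op 4 0 (.op 10 0 (.op 16 2 (.and 1 0 (.dead0 0))))) (.cons [15, 12, 1, 9] 1 0 (.op 4 0 (.op 16 0 (.op 10 2 (.and 1 0 (.dead0 0))))) (.cons [6, 15, 6, 9] 1 0 (.op 7 0 (.op 28 0 (.op 34 2 (.and 1 0 (.dead0 0))))) (.cons [4, 11, 15, 9] 1 0 (.op 4 0 (.op 28 0 (.op 34 2 (.and 1 0 (.dead0 0))))) (.cons [16, 12, 16, 2]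 1 0 (.op 4 0 (.op 28 0 (.op 34 2 (.and 1 0 (.dead0 0))))) (.cons [15, 11, 14, 9] 1 0 (.op 4 0 (.op 10 0 (.op 34 2 (.and 1 0 (.dead0 0))))) (.cons [15, 9, 11, 9] 1 0 (.op 4 0 (.op 16 0 (.op 22 2 (.and 1 0 (.dead0 0))))) (.cons [7, 15, 10, 2] 1 0 (.op 4 0 (.op 22 0 (.op 10 2 (.and 1 0 (.dead0 0))))) (.cons [8, 16, 2, 5] 1 0 (.op 7 0 (.op 10 0 (.op 34 2 (.and 1 0 (.dead0 0))))) (.cons [10, 12, 8, 2] 1 0 (.op 4 0 (.op 22 0 (.op 10 2 (.and 1 0 (.dead0 0))))) (.cons [11, 9, 1, 5] 1 0 (.op 4 0 (.op 10 0 (.op 22 2 (.and 1 0 (.dead0 0))))) (.cons [13, 11, 1, 9] 1 0 (.op 4 0 (.op 16 0 (.op 22 2 (.and 1 0 (.dead0 0))))) (.cons [10, 3, 13, 9] 1 0 (.op 4 0 (.op 22 0 (.op 10 2 (.and 1 0 (.dead0 0))))) (.cons [13, 10, 12, 2] 1 0 (.op 4 0 (.op 22 0 (.op 16 2 (.and 1 0 (.dead0 0))))) (.cons [6, 14, 7, 9] 1 0 (.op 4 0 (.op 10 0 (.op 34 2 (.and 1 0 (.dead0 0))))) (.cons [10,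 12, 2, 3] 1 0 (.op 4 0 (.op 22 0 (.op 10 2 (.and 1 0 (.dead0 0))))) (.cons [10, 3, 8, 1] 1 0 (.op 4 0 (.op 10 0 (.op 28 2 (.and 1 0 (.dead0 0))))) (.cons [13, 2, 9, 3] 1 0 (.op 4 0 (.op 22 0 (.op 28 2 (.and 1 0 (.dead0 0))))) (.cons [12, 1, 16, 1] 1 0 (.op 4 0 (.op 22 0 (.op 28 2 (.and 1 0 (.dead0 0))))) (.cons [13, 6, 9, 3] 1 0 (.op 7 0 (.op 10 0 (.op 34 2 (.and 1 0 (.dead0 0))))) (.cons [11, 10, 1, 4] 1 0 (.op 4 0 (.op 28 0 (.op 10 2 (.and 1 0 (.dead0 0))))) (.cons [12, 12, 10, 6] 1 0 (.op 7 0 (.op 16 0 (.op 34 2 (.and 1 0 (.dead0 0))))) (.cons [12, 8, 3, 9] 1 0 (.op 4 0 (.op 22 0 (.op 34 2 (.and 1 0 (.dead0 0))))) Tq_2))))))))))))))))))))))))))))))))))))))))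
noncomputable def Tq_4 : Tr := (.cons [10, 13, 11, 1] 1 0 (.op 4 0 (.op 10 0 (.op 22 2 (.and 1 0 (.dead0 0))))) (.cons [3, 2, 10, 3] 1 0 (.op 4 0 (.op 28 0 (.op 10 2 (.and 1 0 (.dead0 0))))) (.cons [16, 5, 10, 1] 1 0 (.op 4 0 (.op 22 0 (.op 16 2 (.and 1 0 (.dead0 0))))) (.cons [11, 10, 2, 10] 1 0 (.op 4 0 (.op 22 0 (.op 10 2 (.and 1 0 (.dead0 0))))) (.cons [1, 15, 5, 10] 1 0 (.op 4 0 (.op 16 0 (.op 22 2 (.and 1 0 (.dead0 0))))) (.cons [6, 4, 15, 10] 1 0 (.op 7 0 (.op 10 0 (.op 34 2 (.and 1 0 (.dead0 0))))) (.cons [9, 13, 9, 3] 1 0 (.op 4 0 (.op 10 0 (.op 22 2 (.and 1 0 (.dead0 0))))) (.cons [16, 5, 10, 3] 1 0 (.op 4 0 (.op 10 0 (.op 34 2 (.and 1 0 (.dead0 0))))) (.cons [2, 12, 1, 6] 1 0 (.op 4 0 (.op 22 0 (.op 28 2 (.and 1 0 (.dead0 0))))) (.cons [8, 10, 5, 3] 1 0 (.op 7 0 (.op 22 0 (.op 34 2 (.and 1 0 (.dead0 0))))) (.cons [5, 2, 10, 3] 1 0 (.op 4 0 (.op 22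 0 (.op 28 2 (.and 1 0 (.dead0 0))))) (.cons [16, 12, 1, 9] 1 0 (.op 4 0 (.op 16 0 (.op 28 2 (.and 1 0 (.dead0 0))))) (.cons [8, 14, 15, 2] 1 0 (.op 4 0 (.op 10 0 (.op 34 2 (.and 1 0 (.dead0 0))))) (.cons [10, 14, 8, 10] 1 0 (.op 16 0 (.op 22 0 (.op 10 2 (.op 28 0 (.and 2 0 (.dead0 0)))))) (.cons [10, 14, 2, 9] 1 0 (.op 4 0 (.op 16 0 (.op 28 2 (.and 1 0 (.dead0 0))))) (.cons [7, 5, 16, 1] 1 0 (.op 4 0 (.op 10 0 (.op 34 2 (.and 1 0 (.dead0 0))))) (.cons [5, 10, 14, 10] 1 0 (.op 16 0 (.op 22 0 (.op 10 2 (.op 28 0 (.and 2 0 (.dead0 0)))))) (.cons [9, 15, 10, 3] 1 0 (.op 10 0 (.op 22 0 (.op 4 2 (.op 28 0 (.and 2 0 (.dead0 0)))))) (.cons [2, 11, 14, 9] 1 0 (.op 16 0 (.op 22 0 (.op 10 2 (.op 28 0 (.and 2 0 (.dead0 0)))))) (.cons [4, 9, 1, 4] 1 0 (.op 4 0 (.op 10 0 (.op 28 2 (.and 1 0 (.dead0 0))))) (.cons [9, 6, 4, 10] 1 0 (.op 4 0 (.op 22 0 (.op 10 2 (.and 1 0 (.dead0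 0))))) (.cons [8, 3, 9, 8] 1 0 (.op 10 0 (.op 22 0 (.op 7 2 (.op 28 0 (.and 2 0 (.dead0 0)))))) (.cons [11, 3, 9, 8] 1 0 (.op 4 0 (.op 16 0 (.op 34 2 (.and 1 0 (.dead0 0))))) (.cons [5, 1, 16, 1] 1 0 (.op 4 0 (.op 28 0 (.op 22 2 (.and 1 0 (.dead0 0))))) (.cons [5, 10, 1, 5] 1 0 (.op 4 0 (.op 28 0 (.op 22 2 (.and 1 0 (.dead0 0))))) (.cons [9, 15, 9, 4] 1 0 (.op 4 0 (.op 16 0 (.op 10 2 (.and 1 0 (.dead0 0))))) (.cons [10, 16, 8, 2] 1 0 (.op 4 0 (.op 16 0 (.op 10 2 (.and 1 0 (.dead0 0))))) (.cons [9, 6, 16, 2] 1 0 (.op 4 0 (.op 10 0 (.op 16 2 (.and 1 0 (.dead0 0))))) (.cons [9, 15, 9, 5] 1 0 (.op 4 0 (.op 16 0 (.op 10 2 (.and 1 0 (.dead0 0))))) (.cons [9, 3, 11, 10] 1 0 (.op 34 0 (.op 4 1 (.and 1 0 (.dead0 0)))) (.cons [10, 12, 2, 5] 1 0 (.op 4 0 (.op 22 0 (.op 10 2 (.and 1 0 (.dead0 0))))) (.cons [11, 13, 9, 1] 1 0 (.op 4 0 (.op 10 0 (.op 22 2 (.and 1 0 (.dead0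 0))))) (.cons [8, 10, 1, 5] 1 0 (.op 4 0 (.op 28 0 (.op 16 2 (.and 1 0 (.dead0 0))))) (.cons [14, 10, 15, 10] 1 0 (.op 4 0 (.op 22 0 (.op 16 2 (.and 1 0 (.dead0 0))))) (.cons [11, 3, 10, 2] 1 0 (.op 4 0 (.op 10 0 (.op 22 2 (.and 1 0 (.dead0 0))))) (.cons [9, 8, 3, 9] 1 0 (.op 4 0 (.op 16 0 (.op 10 2 (.and 1 0 (.dead0 0))))) (.cons [8, 3, 9, 1] 1 0 (.op 4 0 (.op 28 0 (.op 16 2 (.and 1 0 (.dead0 0))))) (.cons [3, 15, 10, 3] 1 0 (.op 7 0 (.op 22 0 (.op 34 2 (.and 1 0 (.dead0 0))))) (.cons [8, 5, 9, 8] 1 0 (.op 7 0 (.op 22 0 (.op 34 2 (.and 1 0 (.dead0 0))))) (.cons [4, 15, 7, 9] 1 0 (.op 7 0 (.op 22 0 (.op 34 2 (.and 1 0 (.dead0 0))))) Tq_3))))))))))))))))))))))))))))))))))))))))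
noncomputable def Tq_5 : Tr := (.cons [11, 15, 14, 1] 1 0 (.op 4 0 (.op 16 0 (.op 34 2 (.and 1 0 (.dead0 0))))) (.cons [14, 5, 10, 2] 1 0 (.op 4 0 (.op 28 0 (.op 16 2 (.and 1 0 (.dead0 0))))) (.cons [1, 10, 11, 1] 1 0 (.op 34 0 (.op 4 1 (.and 1 0 (.dead0 0)))) (.cons [8, 16, 2, 3] 1 0 (.op 7 0 (.op 10 0 (.op 34 2 (.and 1 0 (.dead0 0))))) (.cons [13, 10, 14, 2] 1 0 (.op 4 0 (.op 28 0 (.op 22 2 (.and 1 0 (.dead0 0))))) (.cons [10, 14, 10, 8] 1 0 (.op 4 0 (.op 16 0 (.op 10 2 (.and 1 0 (.dead0 0))))) (.cons [12, 2, 10, 5] 1 0 (.op 4 0 (.op 28 0 (.op 22 2 (.and 1 0 (.dead0 0))))) (.cons [13, 2, 9, 7] 1 0 (.op 4 0 (.op 22 0 (.op 28 2 (.and 1 0 (.dead0 0))))) (.cons [1, 15, 6, 9] 1 0 (.op 4 0 (.op 16 0 (.op 22 2 (.and 1 0 (.dead0 0))))) (.cons [9, 12, 12, 2] 1 0 (.op 4 0 (.op 10 0 (.op 22 2 (.and 1 0 (.dead0 0))))) (.cons [16, 6, 9, 1] 1 0 (.op 4 0 (.op 22 0 (.op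 16 2 (.and 1 0 (.dead0 0))))) (.cons [1, 15, 9, 4] 1 0 (.op 4 0 (.op 16 0 (.op 28 2 (.and 1 0 (.dead0 0))))) (.cons [11, 1, 9, 6] 1 0 (.op 4 0 (.op 10 0 (.op 22 2 (.and 1 0 (.dead0 0))))) (.cons [8, 12, 8, 10] 1 0 (.op 7 0 (.op 10 0 (.op 34 2 (.and 1 0 (.dead0 0))))) (.cons [11, 4, 2, 10] 1 0 (.op 4 0 (.op 22 0 (.op 10 2 (.and 1 0 (.dead0 0))))) (.cons [10, 6, 13, 9] 1 0 (.op 4 0 (.op 10 0 (.op 22 2 (.and 1 0 (.dead0 0))))) (.cons [3, 7, 2, 10] 1 0 (.op 4 0 (.op 22 0 (.op 28 2 (.and 1 0 (.dead0 0))))) (.cons [1, 11, 9, 5] 1 0 (.op 4 0 (.op 28 0 (.op 22 2 (.and 1 0 (.dead0 0))))) (.cons [2, 11, 15, 9] 1 0 (.op 16 0 (.op 22 0 (.op 10 2 (.op 28 0 (.and 2 0 (.dead0 0)))))) (.cons [4, 16, 1, 4] 1 0 (.op 16 0 (.op 22 0 (.op 7 2 (.op 28 0 (.and 2 0 (.dead0 0)))))) (.cons [6, 11, 15, 9] 1 0 (.op 4 0 (.op 28 0 (.op 34 2 (.and 1 0 (.dead0 0))))) (.cons [9, 3, 12, 10]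 1 0 (.op 10 0 (.op 16 0 (.op 7 2 (.op 22 0 (.and 2 0 (.dead0 0)))))) (.cons [3, 1, 11, 1] 1 0 (.op 16 0 (.and 0 11 (.dead0 0))) (.cons [8, 15, 14, 2] 1 0 (.op 4 0 (.op 22 0 (.op 34 2 (.and 1 0 (.dead0 0))))) (.cons [5, 15, 14, 1] 1 0 (.op 10 0 (.and 0 7 (.dead0 0))) (.cons [2, 10, 3, 1] 1 0 (.op 34 0 (.op 4 1 (.and 1 0 (.dead0 0)))) (.cons [5, 13, 15, 2] 1 0 (.op 10 0 (.op 16 0 (.op 7 2 (.op 28 0 (.and 2 0 (.dead0 0)))))) (.cons [11, 15, 7, 9] 1 0 (.op 4 0 (.op 28 0 (.op 34 2 (.and 1 0 (.dead0 0))))) (.cons [13, 12, 5, 1] 1 0 (.op 7 0 (.op 10 0 (.op 34 2 (.and 1 0 (.dead0 0))))) (.cons [9, 16, 9, 4] 1 0 (.op 4 0 (.op 10 0 (.op 28 2 (.and 1 0 (.dead0 0))))) (.cons [6, 9, 15, 10] 1 0 (.op 4 0 (.op 10 0 (.op 34 2 (.and 1 0 (.dead0 0))))) (.cons [15, 1, 9, 1] 1 0 (.op 4 0 (.op 16 0 (.op 10 2 (.and 1 0 (.dead0 0))))) (.cons [7, 11, 15, 9] 1 0 (.op 4 0 (.op 28 0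 (.op 34 2 (.and 1 0 (.dead0 0))))) (.cons [14, 15, 2, 9] 1 0 (.op 4 0 (.op 16 0 (.op 22 2 (.and 1 0 (.dead0 0))))) (.cons [12, 1, 15, 10] 1 0 (.op 4 0 (.op 10 0 (.op 34 2 (.and 1 0 (.dead0 0))))) (.cons [9, 8, 4, 10] 1 0 (.op 4 0 (.op 10 0 (.op 16 2 (.and 1 0 (.dead0 0))))) (.cons [11, 8, 16, 1] 1 0 (.op 7 0 (.op 28 0 (.op 34 2 (.and 1 0 (.dead0 0))))) (.cons [15, 5, 10, 1] 1 0 (.op 4 0 (.op 22 0 (.op 10 2 (.and 1 0 (.dead0 0))))) (.cons [5, 15, 10, 5] 1 0 (.op 7 0 (.op 10 0 (.op 34 2 (.and 1 0 (.dead0 0))))) (.cons [11, 14, 9, 1] 1 0 (.op 4 0 (.op 10 0 (.op 22 2 (.and 1 0 (.dead0 0))))) Tq_4))))))))))))))))))))))))))))))))))))))))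
noncomputable def Tq_6 : Tr := (.cons [11, 16, 4, 1] 1 0 (.op 4 0 (.op 28 0 (.op 34 2 (.and 1 0 (.dead0 0))))) (.cons [4, 14, 11, 1] 1 0 (.op 10 0 (.op 22 0 (.op 7 2 (.op 28 0 (.and 2 0 (.dead0 0)))))) (.cons [5, 11, 16, 1] 1 0 (.op 16 0 (.op 22 0 (.op 7 2 (.op 28 0 (.and 2 0 (.dead0 0)))))) (.cons [10, 12, 3, 10] 1 0 (.op 4 0 (.op 34 0 (.op 22 1 (.and 1 0 (.dead0 0))))) (.cons [5, 11, 4, 10] 1 0 (.op 16 0 (.op 22 0 (.op 7 2 (.op 28 0 (.and 2 0 (.dead0 0)))))) (.cons [12, 1, 10, 7] 1 0 (.op 10 0 (.op 16 0 (.op 4 2 (.op 22 0 (.and 2 0 (.dead0 0)))))) (.cons [11, 1, 16, 1] 1 0 (.op 4 0 (.op 28 0 (.op 10 2 (.and 1 0 (.dead0 0))))) (.cons [2, 10, 15, 10] 1 0 (.op 4 0 (.op 10 0 (.op 16 2 (.and 1 0 (.dead0 0))))) (.cons [9, 11, 14, 9] 1 0 (.op 7 0 (.op 28 0 (.op 34 2 (.and 1 0 (.dead0 0))))) (.cons [14, 12, 1, 9] 1 0 (.op 4 0 (.op 16 0 (.op 28 2 (.and 1 0 (.dead0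 0))))) (.cons [5, 11, 6, 1] 1 0 (.op 7 0 (.op 16 0 (.op 34 2 (.and 1 0 (.dead0 0))))) (.cons [6, 11, 14, 9] 1 0 (.op 7 0 (.op 28 0 (.op 34 2 (.and 1 0 (.dead0 0))))) (.cons [10, 4, 8, 10] 1 0 (.op 4 0 (.op 10 0 (.op 16 2 (.and 1 0 (.dead0 0))))) (.cons [6, 13, 10, 1] 1 0 (.op 34 0 (.op 7 1 (.and 1 0 (.dead0 0)))) (.cons [1, 11, 14, 9] 1 0 (.op 4 0 (.op 16 0 (.op 22 2 (.and 1 0 (.dead0 0))))) (.cons [11, 4, 10, 1] 1 0 (.op 4 0 (.op 10 0 (.op 22 2 (.and 1 0 (.dead0 0))))) (.cons [16, 7, 10, 1] 1 0 (.op 4 0 (.op 22 0 (.op 16 2 (.and 1 0 (.dead0 0))))) (.cons [16, 1, 11, 9] 1 0 (.op 4 0 (.op 22 0 (.op 16 2 (.and 1 0 (.dead0 0))))) (.cons [12, 3, 12, 10] 1 0 (.op 10 0 (.and 0 7 (.dead0 0))) (.cons [6, 15, 14, 2] 1 0 (.op 16 0 (.op 22 0 (.op 7 2 (.op 28 0 (.and 2 0 (.dead0 0)))))) (.cons [14, 10, 16, 2] 1 0 (.op 4 0 (.op 16 0 (.op 22 2 (.and 1 0 (.dead0 0))))) (.cons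 [4, 16, 10, 3] 1 0 (.op 34 0 (.op 10 1 (.and 1 0 (.dead0 0)))) (.cons [10, 13, 15, 2] 1 0 (.op 4 0 (.op 10 0 (.op 22 2 (.and 1 0 (.dead0 0))))) (.cons [10, 12, 16, 2] 1 0 (.op 16 0 (.op 22 0 (.op 10 2 (.op 28 0 (.and 2 0 (.dead0 0)))))) (.cons [5, 15, 2, 9] 1 0 (.op 16 0 (.op 22 0 (.op 10 2 (.op 28 0 (.and 2 0 (.dead0 0)))))) (.cons [7, 13, 10, 3] 1 0 (.op 4 0 (.op 10 0 (.op 34 2 (.and 1 0 (.dead0 0))))) (.cons [9, 3, 12, 1] 1 0 (.op 4 0 (.op 22 0 (.op 10 2 (.and 1 0 (.dead0 0))))) (.cons [2, 10, 12, 2] 1 0 (.op 4 0 (.op 22 0 (.op 10 2 (.and 1 0 (.dead0 0))))) (.cons [10, 6, 16, 2] 1 0 (.op 10 0 (.and 0 9 (.dead0 0))) (.cons [8, 14, 10, 1] 1 0 (.op 4 0 (.op 28 0 (.op 16 2 (.and 1 0 (.dead0 0))))) (.cons [4, 1, 16, 1] 1 0 (.op 34 0 (.op 7 1 (.and 1 0 (.dead0 0)))) (.cons [6, 11, 16, 9] 1 0 (.op 10 0 (.op 16 0 (.op 7 2 (.op 28 0 (.and 2 0 (.dead0 0)))))) (.cons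 [7, 1, 10, 5] 1 0 (.op 10 0 (.op 16 0 (.op 4 2 (.op 28 0 (.and 2 0 (.dead0 0)))))) (.cons [8, 2, 11, 1] 1 0 (.op 4 0 (.op 28 0 (.op 16 2 (.and 1 0 (.dead0 0))))) (.cons [12, 10, 15, 10] 1 0 (.op 4 0 (.op 28 0 (.op 16 2 (.and 1 0 (.dead0 0))))) (.cons [10, 14, 9, 4] 1 0 (.op 10 0 (.and 0 9 (.dead0 0))) (.cons [3, 14, 2, 9] 1 0 (.op 4 0 (.op 16 0 (.op 28 2 (.and 1 0 (.dead0 0))))) (.cons [16, 5, 14, 2] 1 0 (.op 10 0 (.op 22 0 (.op 7 2 (.op 28 0 (.and 2 0 (.dead0 0)))))) (.cons [9, 2, 12, 10] 1 0 (.op 16 0 (.op 22 0 (.op 7 2 (.op 28 0 (.and 2 0 (.dead0 0)))))) (.cons [2, 15, 5, 10] 1 0 (.op 16 0 (.op 22 0 (.op 10 2 (.op 28 0 (.and 2 0 (.dead0 0)))))) Tq_5))))))))))))))))))))))))))))))))))))))))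
noncomputable def Tq_7 : Tr := (.cons [7, 16, 1, 5] 1 0 (.op 10 0 (.op 16 0 (.op 7 2 (.op 28 0 (.and 2 0 (.dead0 0)))))) (.cons [11, 14, 4, 10] 1 0 (.op 7 0 (.op 16 0 (.op 34 2 (.and 1 0 (.dead0 0))))) (.cons [5, 11, 14, 9] 1 0 (.op 7 0 (.op 28 0 (.op 34 2 (.and 1 0 (.dead0 0))))) (.cons [14, 10, 14, 10] 1 0 (.op 4 0 (.op 16 0 (.op 22 2 (.and 1 0 (.dead0 0))))) (.cons [5, 15, 1, 5] 1 0 (.op 4 0 (.op 34 0 (.op 16 1 (.and 1 0 (.dead0 0))))) (.cons [12, 1, 14, 9] 1 0 (.op 16 0 (.op 22 0 (.op 10 2 (.op 28 0 (.and 2 0 (.dead0 0)))))) (.cons [15, 11, 4, 10] 1 0 (.op 4 0 (.op 28 0 (.op 34 2 (.and 1 0 (.dead0 0))))) (.cons [8, 12, 2, 5] 1 0 (.op 10 0 (.and 0 9 (.dead0 0))) (.cons [8, 15, 5, 10] 1 0 (.op 7 0 (.op 28 0 (.op 34 2 (.and 1 0 (.dead0 0))))) (.cons [13, 11, 14, 9] 1 0 (.op 7 0 (.op 28 0 (.op 34 2 (.and 1 0 (.dead0 0))))) (.cons [14, 3, 1, 9] 1 0 (.op 16 0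 (.op 22 0 (.op 10 2 (.op 28 0 (.and 2 0 (.dead0 0)))))) (.cons [6, 16, 2, 5] 1 0 (.op 10 0 (.op 22 0 (.op 4 2 (.op 28 0 (.and 2 0 (.dead0 0)))))) (.cons [15, 5, 10, 8] 1 0 (.op 7 0 (.op 28 0 (.op 34 2 (.and 1 0 (.dead0 0))))) (.cons [7, 1, 10, 3] 1 0 (.op 10 0 (.op 16 0 (.op 4 2 (.op 28 0 (.and 2 0 (.dead0 0)))))) (.cons [16, 5, 16, 2] 1 0 (.op 7 0 (.op 28 0 (.op 34 2 (.and 1 0 (.dead0 0))))) (.cons [5, 11, 15, 9] 1 0 (.op 4 0 (.op 28 0 (.op 34 2 (.and 1 0 (.dead0 0))))) (.cons [1, 4, 11, 1] 1 0 (.op 16 0 (.op 22 0 (.op 10 2 (.op 28 0 (.and 2 0 (.dead0 0)))))) (.cons [3, 11, 8, 1] 1 0 (.op 16 0 (.op 22 0 (.op 4 2 (.op 28 0 (.and 2 0 (.dead0 0)))))) (.cons [5, 1, 12, 6] 1 0 (.op 4 0 (.op 34 0 (.op 10 1 (.and 1 0 (.dead0 0))))) (.cons [1, 11, 15, 9] 1 0 (.op 4 0 (.op 22 0 (.op 16 2 (.and 1 0 (.dead0 0))))) (.cons [9, 15, 14, 2] 1 0 (.op 16 0 (.op 22 0 (.op 10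 2 (.op 28 0 (.and 2 0 (.dead0 0)))))) (.cons [4, 16, 8, 2] 1 0 (.op 10 0 (.op 22 0 (.op 4 2 (.op 28 0 (.and 2 0 (.dead0 0)))))) (.cons [8, 1, 3, 9] 1 0 (.op 4 0 (.op 16 0 (.op 28 2 (.and 1 0 (.dead0 0))))) (.cons [10, 16, 12, 1] 1 0 (.op 16 0 (.op 22 0 (.op 10 2 (.op 28 0 (.and 2 0 (.dead0 0)))))) (.cons [7, 10, 16, 1] 1 0 (.op 10 0 (.op 16 0 (.op 7 2 (.op 28 0 (.and 2 0 (.dead0 0)))))) (.cons [7, 3, 9, 8] 1 0 (.op 10 0 (.op 16 0 (.op 4 2 (.op 28 0 (.and 2 0 (.dead0 0)))))) (.cons [2, 8, 10, 4] 1 0 (.op 4 0 (.op 16 0 (.op 28 2 (.and 1 0 (.dead0 0))))) (.cons [7, 15, 14, 2] 1 0 (.op 7 0 (.op 16 0 (.op 34 2 (.and 1 0 (.dead0 0))))) (.cons [12, 4, 14, 2] 1 0 (.op 4 0 (.op 16 0 (.op 34 2 (.and 1 0 (.dead0 0))))) (.cons [15, 7, 1, 5] 1 0 (.op 4 0 (.op 34 0 (.op 16 1 (.and 1 0 (.dead0 0))))) (.cons [9, 14, 2, 9] 1 0 (.op 4 0 (.op 16 0 (.op 28 2 (.and 1 0 (.dead0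 0))))) (.cons [16, 3, 2, 10] 1 0 (.op 4 0 (.op 16 0 (.op 28 2 (.and 1 0 (.dead0 0))))) (.cons [9, 14, 15, 2] 1 0 (.op 10 0 (.op 22 0 (.op 4 2 (.op 28 0 (.and 2 0 (.dead0 0)))))) (.cons [7, 11, 9, 6] 1 0 (.op 10 0 (.op 22 0 (.op 4 2 (.op 28 0 (.and 2 0 (.dead0 0)))))) (.cons [3, 1, 9, 1] 1 0 (.op 34 0 (.op 4 1 (.and 1 0 (.dead0 0)))) (.cons [9, 2, 16, 10] 1 0 (.op 34 0 (.op 4 1 (.and 1 0 (.dead0 0)))) (.cons [3, 12, 14, 2] 1 0 (.op 7 0 (.op 16 0 (.op 34 2 (.and 1 0 (.dead0 0))))) (.cons [9, 8, 16, 1] 1 0 (.op 4 0 (.op 10 0 (.op 16 2 (.and 1 0 (.dead0 0))))) (.cons [15, 6, 9, 1] 1 0 (.op 4 0 (.op 22 0 (.op 10 2 (.and 1 0 (.dead0 0))))) (.cons [8, 1, 11, 1] 1 0 (.op 10 0 (.op 22 0 (.op 4 2 (.op 28 0 (.and 2 0 (.dead0 0)))))) Tq_6))))))))))))))))))))))))))))))))))))))))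
noncomputable def Tq_8 : Tr := (.cons [9, 16, 4, 1] 1 0 (.op 4 0 (.op 16 0 (.op 10 2 (.and 1 0 (.dead0 0))))) (.cons [1, 4, 10, 5] 1 0 (.op 16 0 (.op 22 0 (.op 10 2 (.op 28 0 (.and 2 0 (.dead0 0)))))) (.cons [7, 15, 14, 1] 1 0 (.op 10 0 (.op 16 0 (.op 4 2 (.op 28 0 (.and 2 0 (.dead0 0)))))) (.cons [12, 4, 10, 5] 1 0 (.op 10 0 (.op 16 0 (.op 7 2 (.op 22 0 (.and 2 0 (.dead0 0)))))) (.cons [3, 1, 12, 10] 1 0 (.op 10 0 (.op 16 0 (.op 7 2 (.op 22 0 (.and 2 0 (.dead0 0)))))) (.cons [9, 15, 1, 10] 1 0 (.op 34 0 (.op 4 1 (.and 1 0 (.dead0 0)))) (.cons [9, 12, 10, 7] 1 0 (.op 34 0 (.op 4 1 (.and 1 0 (.dead0 0)))) (.cons [11, 9, 11, 1] 1 0 (.op 16 0 (.op 22 0 (.op 10 2 (.op 28 0 (.and 2 0 (.dead0 0)))))) (.cons [8, 10, 8, 3] 1 0 (.op 7 0 (.op 22 0 (.op 34 2 (.and 1 0 (.dead0 0))))) (.cons [14, 4, 11, 1] 1 0 (.op 4 0 (.op 34 0 (.op 28 1 (.and 1 0 (.dead0 0))))) (.cons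 [9, 7, 13, 9] 1 0 (.op 4 0 (.op 10 0 (.op 16 2 (.and 1 0 (.dead0 0))))) (.cons [16, 11, 10, 8] 1 0 (.op 10 0 (.op 22 0 (.op 4 2 (.op 28 0 (.and 2 0 (.dead0 0)))))) (.cons [15, 4, 11, 9] 1 0 (.op 4 0 (.op 28 0 (.op 34 2 (.and 1 0 (.dead0 0))))) (.cons [8, 11, 8, 1] 1 0 (.op 4 0 (.op 22 0 (.op 34 2 (.and 1 0 (.dead0 0))))) (.cons [10, 16, 4, 2] 1 0 (.op 34 0 (.op 28 1 (.and 1 0 (.dead0 0)))) (.cons [15, 1, 10, 6] 1 0 (.op 34 0 (.op 10 1 (.and 1 0 (.dead0 0)))) (.cons [10, 3, 11, 10] 1 0 (.op 16 0 (.op 22 0 (.op 10 2 (.op 28 0 (.and 2 0 (.dead0 0)))))) (.cons [5, 3, 9, 8] 1 0 (.op 10 0 (.and 0 7 (.dead0 0))) (.cons [9, 12, 10, 4] 1 0 (.op 34 0 (.op 4 1 (.and 1 0 (.dead0 0)))) (.cons [9, 16, 14, 1] 1 0 (.op 34 0 (.op 4 1 (.and 1 0 (.dead0 0)))) (.cons [15, 9, 11, 10] 1 0 (.op 4 0 (.op 16 0 (.op 10 2 (.and 1 0 (.dead0 0))))) (.cons [4, 15, 12, 1] 1 0 (.op 7 0 (.op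 28 0 (.op 34 2 (.and 1 0 (.dead0 0))))) (.cons [16, 12, 1, 10] 1 0 (.op 10 0 (.op 22 0 (.op 7 2 (.op 28 0 (.and 2 0 (.dead0 0)))))) (.cons [2, 10, 14, 10] 1 0 (.op 4 0 (.op 16 0 (.op 10 2 (.and 1 0 (.dead0 0))))) (.cons [8, 11, 16, 9] 1 0 (.op 10 0 (.op 22 0 (.op 7 2 (.op 28 0 (.and 2 0 (.dead0 0)))))) (.cons [4, 16, 4, 2] 1 0 (.op 16 0 (.op 22 0 (.op 7 2 (.op 28 0 (.and 2 0 (.dead0 0)))))) (.cons [15, 10, 3, 1] 1 0 (.op 4 0 (.op 10 0 (.op 16 2 (.and 1 0 (.dead0 0))))) (.cons [10, 16, 14, 2] 1 0 (.op 4 0 (.op 16 0 (.op 10 2 (.and 1 0 (.dead0 0))))) (.cons [2, 14, 7, 10] 1 0 (.op 4 0 (.op 28 0 (.op 16 2 (.and 1 0 (.dead0 0))))) (.cons [4, 10, 15, 10] 1 0 (.op 4 0 (.op 10 0 (.op 16 2 (.and 1 0 (.dead0 0))))) (.cons [7, 12, 3, 10] 1 0 (.op 4 0 (.op 34 0 (.op 16 1 (.and 1 0 (.dead0 0))))) (.cons [11, 10, 3, 10] 1 0 (.op 16 0 (.op 22 0 (.op 10 2 (.op 28 0 (.and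 2 0 (.dead0 0)))))) (.cons [4, 2, 10, 3] 1 0 (.op 34 0 (.op 4 1 (.and 1 0 (.dead0 0)))) (.cons [8, 16, 12, 10] 1 0 (.op 10 0 (.op 22 0 (.op 7 2 (.op 28 0 (.and 2 0 (.dead0 0)))))) (.cons [5, 11, 4, 2] 1 0 (.op 7 0 (.op 16 0 (.op 34 2 (.and 1 0 (.dead0 0))))) (.cons [15, 10, 15, 10] 1 0 (.op 4 0 (.op 28 0 (.op 16 2 (.and 1 0 (.dead0 0))))) (.cons [15, 11, 10, 8] 1 0 (.op 16 0 (.op 22 0 (.op 7 2 (.op 28 0 (.and 2 0 (.dead0 0)))))) (.cons [9, 3, 12, 7] 1 0 (.op 16 0 (.op 22 0 (.op 4 2 (.op 28 0 (.and 2 0 (.dead0 0)))))) (.cons [6, 10, 16, 1] 1 0 (.op 10 0 (.op 16 0 (.op 4 2 (.op 28 0 (.and 2 0 (.dead0 0)))))) (.cons [8, 15, 9, 8] 1 0 (.op 10 0 (.op 16 0 (.op 4 2 (.op 28 0 (.and 2 0 (.dead0 0)))))) Tq_7))))))))))))))))))))))))))))))))))))))))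
noncomputable def Tq_9 : Tr := (.cons [8, 9, 15, 9] 1 0 (.op 4 0 (.and 0 3 (.dead0 0))) (.cons [5, 11, 16, 9] 1 0 (.op 10 0 (.and 0 7 (.dead0 0))) (.cons [10, 3, 12, 6] 1 0 (.op 16 0 (.and 0 11 (.dead0 0))) (.cons [15, 10, 4, 8] 1 0 (.op 10 0 (.and 0 9 (.dead0 0))) (.cons [1, 15, 14, 1] 1 0 (.op 16 0 (.op 22 0 (.op 10 2 (.op 28 0 (.and 2 0 (.dead0 0)))))) (.cons [15, 10, 3, 5] 1 0 (.op 10 0 (.and 0 9 (.dead0 0))) (.cons [6, 15, 2, 9] 1 0 (.op 4 0 (.and 0 3 (.dead0 0))) (.cons [14, 1, 10, 1] 1 0 (.op 10 0 (.and 0 9 (.dead0 0))) (.cons [1, 16, 1, 5] 1 0 (.op 16 0 (.op 22 0 (.op 10 2 (.op 28 0 (.and 2 0 (.dead0 0)))))) (.cons [11, 15, 10, 2] 1 0 (.op 4 0 (.and 0 3 (.dead0 0))) (.cons [7, 11, 1, 9] 1 0 (.op 4 0 (.and 0 3 (.dead0 0))) (.cons [11, 10, 15, 10] 1 0 (.op 4 0 (.and 0 3 (.dead0 0))) (.cons [2, 15, 12, 1] 1 0 (.op 16 0 (.op 22 0 (.op 10 2 (.op 28 0 (.and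 2 0 (.dead0 0)))))) (.cons [12, 14, 10, 2] 1 0 (.op 16 0 (.op 22 0 (.op 10 2 (.op 28 0 (.and 2 0 (.dead0 0)))))) (.cons [11, 3, 10, 8] 1 0 (.op 10 0 (.op 16 0 (.op 4 2 (.op 28 0 (.and 2 0 (.dead0 0)))))) (.cons [9, 4, 16, 10] 1 0 (.op 34 0 (.op 4 1 (.and 1 0 (.dead0 0)))) (.cons [6, 4, 11, 1] 1 0 (.op 10 0 (.op 16 0 (.op 7 2 (.op 28 0 (.and 2 0 (.dead0 0)))))) (.cons [5, 10, 16, 2] 1 0 (.op 16 0 (.op 22 0 (.op 10 2 (.op 28 0 (.and 2 0 (.dead0 0)))))) (.cons [11, 1, 12, 10] 1 0 (.op 4 0 (.op 34 0 (.op 22 1 (.and 1 0 (.dead0 0))))) (.cons [2, 15, 6, 9] 1 0 (.op 16 0 (.op 22 0 (.op 10 2 (.op 28 0 (.and 2 0 (.dead0 0)))))) (.cons [12, 14, 2, 9] 1 0 (.op 16 0 (.op 22 0 (.op 10 2 (.op 28 0 (.and 2 0 (.dead0 0)))))) (.cons [10, 1, 3, 9] 1 0 (.op 34 0 (.op 4 1 (.and 1 0 (.dead0 0)))) (.cons [10, 5, 14, 10] 1 0 (.op 16 0 (.op 22 0 (.op 10 2 (.op 28 0 (.and 2 0 (.dead0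 0)))))) (.cons [8, 11, 15, 1] 1 0 (.op 4 0 (.op 34 0 (.op 22 1 (.and 1 0 (.dead0 0))))) (.cons [5, 11, 10, 4] 1 0 (.op 4 0 (.op 34 0 (.op 22 1 (.and 1 0 (.dead0 0))))) (.cons [10, 8, 14, 10] 1 0 (.op 16 0 (.op 22 0 (.op 10 2 (.op 28 0 (.and 2 0 (.dead0 0)))))) (.cons [5, 10, 15, 10] 1 0 (.op 16 0 (.op 22 0 (.op 10 2 (.op 28 0 (.and 2 0 (.dead0 0)))))) (.cons [10, 3, 1, 9] 1 0 (.op 34 0 (.op 7 1 (.and 1 0 (.dead0 0)))) (.cons [9, 4, 9, 6] 1 0 (.op 16 0 (.op 22 0 (.op 10 2 (.op 28 0 (.and 2 0 (.dead0 0)))))) (.cons [3, 14, 15, 1] 1 0 (.op 4 0 (.op 34 0 (.op 22 1 (.and 1 0 (.dead0 0))))) (.cons [12, 2, 8, 10] 1 0 (.op 16 0 (.op 22 0 (.op 10 2 (.op 28 0 (.and 2 0 (.dead0 0)))))) (.cons [6, 16, 12, 9] 1 0 (.op 10 0 (.op 16 0 (.op 4 2 (.op 22 0 (.and 2 0 (.dead0 0)))))) (.cons [7, 3, 9, 6] 1 0 (.op 10 0 (.op 16 0 (.op 4 2 (.op 28 0 (.and 2 0 (.dead0 0)))))) (.cons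 [5, 16, 10, 3] 1 0 (.op 10 0 (.op 16 0 (.op 7 2 (.op 22 0 (.and 2 0 (.dead0 0)))))) (.cons [12, 7, 13, 9] 1 0 (.op 7 0 (.op 22 0 (.op 34 2 (.and 1 0 (.dead0 0))))) (.cons [12, 16, 1, 5] 1 0 (.op 10 0 (.op 16 0 (.op 7 2 (.op 22 0 (.and 2 0 (.dead0 0)))))) (.cons [4, 6, 16, 2] 1 0 (.op 4 0 (.op 22 0 (.op 34 2 (.and 1 0 (.dead0 0))))) (.cons [5, 2, 12, 2] 1 0 (.op 10 0 (.op 16 0 (.op 4 2 (.op 28 0 (.and 2 0 (.dead0 0)))))) (.cons [8, 11, 9, 3] 1 0 (.op 34 0 (.op 28 1 (.and 1 0 (.dead0 0)))) (.cons [8, 14, 15, 1] 1 0 (.op 10 0 (.op 16 0 (.op 7 2 (.op 22 0 (.and 2 0 (.dead0 0)))))) Tq_8))))))))))))))))))))))))))))))))))))))))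
noncomputable def Tq_10 : Tr := (.cons [13, 12, 10, 6] 1 0 (.op 4 0 (.op 34 0 (.op 22 1 (.and 1 0 (.dead0 0))))) (.cons [2, 12, 10, 8] 1 0 (.op 16 0 (.op 22 0 (.op 10 2 (.op 28 0 (.and 2 0 (.dead0 0)))))) (.cons [1, 13, 12, 10] 1 0 (.op 4 0 (.op 34 0 (.op 22 1 (.and 1 0 (.dead0 0))))) (.cons [13, 10, 3, 10] 1 0 (.op 16 0 (.op 22 0 (.op 10 2 (.op 28 0 (.and 2 0 (.dead0 0)))))) (.cons [6, 2, 12, 10] 1 0 (.op 16 0 (.op 22 0 (.op 10 2 (.op 28 0 (.and 2 0 (.dead0 0)))))) (.cons [2, 13, 10, 1] 1 0 (.op 34 0 (.op 28 1 (.and 1 0 (.dead0 0)))) (.cons [13, 11, 8, 1] 1 0 (.op 10 0 (.and 0 7 (.dead0 0))) (.cons [2, 3, 12, 7] 1 0 (.op 10 0 (.and 0 5 (.dead0 0))) (.cons [1, 3, 9, 8] 1 0 (.op 16 0 (.op 22 0 (.op 10 2 (.op 28 0 (.and 2 0 (.dead0 0)))))) (.cons [6, 10, 3, 10] 1 0 (.op 16 0 (.op 22 0 (.op 10 2 (.op 28 0 (.and 2 0 (.dead0 0)))))) (.cons [13, 15, 2, 3] 1 0 (.op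 10 0 (.and 0 7 (.dead0 0))) (.cons [14, 1, 11, 1] 1 0 (.op 34 0 (.op 28 1 (.and 1 0 (.dead0 0)))) (.cons [11, 7, 3, 9] 1 0 (.op 10 0 (.and 0 7 (.dead0 0))) (.cons [13, 10, 16, 1] 1 0 (.op 34 0 (.op 28 1 (.and 1 0 (.dead0 0)))) (.cons [1, 11, 15, 1] 1 0 (.op 4 0 (.op 34 0 (.op 16 1 (.and 1 0 (.dead0 0))))) (.cons [16, 12, 10, 6] 1 0 (.op 4 0 (.op 34 0 (.op 28 1 (.and 1 0 (.dead0 0))))) (.cons [14, 2, 10, 3] 1 0 (.op 16 0 (.op 22 0 (.op 10 2 (.op 28 0 (.and 2 0 (.dead0 0)))))) (.cons [16, 2, 10, 5] 1 0 (.op 16 0 (.op 22 0 (.op 10 2 (.op 28 0 (.and 2 0 (.dead0 0)))))) (.cons [2, 12, 10, 6] 1 0 (.op 16 0 (.op 22 0 (.op 10 2 (.op 28 0 (.and 2 0 (.dead0 0)))))) (.cons [16, 1, 10, 5] 1 0 (.op 34 0 (.op 16 1 (.and 1 0 (.dead0 0)))) (.cons [16, 1, 11, 1] 1 0 (.op 4 0 (.op 34 0 (.op 16 1 (.and 1 0 (.dead0 0))))) (.cons [6, 10, 16, 2] 1 0 (.op 4 0 (.and 0 3 (.dead0 0)))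 (.cons [7, 12, 7, 9] 1 0 (.op 34 0 (.op 16 1 (.and 1 0 (.dead0 0)))) (.cons [9, 2, 10, 3] 1 0 (.op 34 0 (.op 10 1 (.and 1 0 (.dead0 0)))) (.cons [1, 3, 12, 6] 1 0 (.op 4 0 (.op 34 0 (.op 10 1 (.and 1 0 (.dead0 0))))) (.cons [1, 3, 9, 6] 1 0 (.op 16 0 (.op 22 0 (.op 10 2 (.op 28 0 (.and 2 0 (.dead0 0)))))) (.cons [16, 10, 3, 10] 1 0 (.op 16 0 (.op 22 0 (.op 10 2 (.op 28 0 (.and 2 0 (.dead0 0)))))) (.cons [14, 12, 10, 6] 1 0 (.op 4 0 (.op 34 0 (.op 16 1 (.and 1 0 (.dead0 0))))) (.cons [1, 12, 3, 10] 1 0 (.op 4 0 (.op 34 0 (.op 22 1 (.and 1 0 (.dead0 0))))) (.cons [9, 14, 8, 10] 1 0 (.op 4 0 (.and 0 3 (.dead0 0))) (.cons [7, 9, 11, 9] 1 0 (.op 4 0 (.and 0 3 (.dead0 0))) (.cons [16, 3, 9, 8] 1 0 (.op 34 0 (.op 16 1 (.and 1 0 (.dead0 0)))) (.cons [10, 7, 16, 1] 1 0 (.op 10 0 (.and 0 7 (.dead0 0))) (.cons [3, 13, 12, 10] 1 0 (.op 4 0 (.op 34 0 (.op 22 1 (.and 1 0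 (.dead0 0))))) (.cons [14, 11, 4, 2] 1 0 (.op 10 0 (.and 0 9 (.dead0 0))) (.cons [14, 11, 8, 1] 1 0 (.op 10 0 (.and 0 9 (.dead0 0))) (.cons [2, 3, 9, 6] 1 0 (.op 16 0 (.and 0 11 (.dead0 0))) (.cons [8, 10, 16, 2] 1 0 (.op 4 0 (.and 0 3 (.dead0 0))) (.cons [15, 3, 9, 6] 1 0 (.op 34 0 (.op 10 1 (.and 1 0 (.dead0 0)))) (.cons [13, 2, 10, 3] 1 0 (.op 16 0 (.op 22 0 (.op 10 2 (.op 28 0 (.and 2 0 (.dead0 0)))))) Tq_9))))))))))))))))))))))))))))))))))))))))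
noncomputable def Tq_11 : Tr := (.cons [5, 4, 9] 1 0 (.op 7 0 (.op 16 0 (.op 34 2 (.and 1 0 (.dead0 0))))) (.cons [5, 16, 2] 1 0 (.op 4 0 (.op 10 0 (.op 34 2 (.and 1 0 (.dead0 0))))) (.cons [10, 3, 1] 1 0 (.op 4 0 (.op 10 0 (.op 28 2 (.and 1 0 (.dead0 0))))) (.cons [11, 3, 9] 1 0 (.op 4 0 (.op 16 0 (.op 34 2 (.and 1 0 (.dead0 0))))) (.cons [8, 10, 1] 1 0 (.op 4 0 (.op 28 0 (.op 16 2 (.and 1 0 (.dead0 0))))) (.cons [10, 14, 2] 1 0 (.op 4 0 (.op 10 0 (.op 28 2 (.and 1 0 (.dead0 0))))) (.cons [4, 16, 2] 1 0 (.op 10 0 (.op 22 0 (.op 4 2 (.op 28 0 (.and 2 0 (.dead0 0)))))) (.cons [6, 15, 10] 1 0 (.op 10 0 (.op 22 0 (.op 7 2 (.op 28 0 (.and 2 0 (.dead0 0)))))) (.cons [13, 2, 10] 1 0 (.op 16 0 (.op 22 0 (.op 10 2 (.op 28 0 (.and 2 0 (.dead0 0)))))) (.cons [7, 15, 2] 1 0 (.op 7 0 (.op 16 0 (.op 34 2 (.and 1 0 (.dead0 0))))) (.cons [9, 14, 9] 1 0 (.op 4 0 (.op 10 0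 (.op 16 2 (.and 1 0 (.dead0 0))))) (.cons [10, 12, 10] 1 0 (.op 16 0 (.op 22 0 (.op 10 2 (.op 28 0 (.and 2 0 (.dead0 0)))))) (.cons [2, 11, 9] 1 0 (.op 7 0 (.op 16 0 (.op 34 2 (.and 1 0 (.dead0 0))))) (.cons [7, 12, 1] 1 0 (.op 7 0 (.op 22 0 (.op 34 2 (.and 1 0 (.dead0 0))))) (.cons [10, 16, 10] 1 0 (.op 4 0 (.op 28 0 (.op 10 2 (.and 1 0 (.dead0 0))))) (.cons [9, 5, 2] 1 0 (.op 4 0 (.op 10 0 (.op 28 2 (.and 1 0 (.dead0 0))))) (.cons [7, 2, 3] 1 0 (.op 10 0 (.and 0 5 (.dead0 0))) (.cons [11, 16, 2] 1 0 (.op 7 0 (.op 22 0 (.op 34 2 (.and 1 0 (.dead0 0))))) (.cons [11, 1, 9] 1 0 (.op 4 0 (.op 10 0 (.op 22 2 (.and 1 0 (.dead0 0))))) (.cons [9, 11, 9] 1 0 (.op 4 0 (.op 10 0 (.op 22 2 (.and 1 0 (.dead0 0))))) (.cons [16, 12, 1] 1 0 (.op 4 0 (.op 10 0 (.op 34 2 (.and 1 0 (.dead0 0))))) (.cons [15, 5, 10] 1 0 (.op 7 0 (.op 28 0 (.op 34 2 (.and 1 0 (.dead0 0))))) (.cons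 [12, 15, 9] 1 0 (.op 4 0 (.op 22 0 (.op 34 2 (.and 1 0 (.dead0 0))))) (.cons [15, 2, 9] 1 0 (.op 4 0 (.op 16 0 (.op 10 2 (.and 1 0 (.dead0 0))))) (.cons [4, 1, 9] 1 0 (.op 4 0 (.op 10 0 (.op 28 2 (.and 1 0 (.dead0 0))))) (.cons [12, 15, 10] 1 0 (.op 4 0 (.op 10 0 (.op 34 2 (.and 1 0 (.dead0 0))))) (.cons [16, 4, 9] 1 0 (.op 10 0 (.and 0 5 (.dead0 0))) (.cons [11, 10, 1] 1 0 (.op 4 0 (.op 28 0 (.op 10 2 (.and 1 0 (.dead0 0))))) (.cons [16, 2, 10] 1 0 (.op 16 0 (.op 22 0 (.op 10 2 (.op 28 0 (.and 2 0 (.dead0 0)))))) (.cons [12, 14, 9] 1 0 (.op 7 0 (.op 22 0 (.op 34 2 (.and 1 0 (.dead0 0))))) (.cons [14, 10, 2] 1 0 (.op 4 0 (.op 28 0 (.op 16 2 (.and 1 0 (.dead0 0))))) (.cons [1, 13, 9] 1 0 (.op 4 0 (.op 28 0 (.op 22 2 (.and 1 0 (.dead0 0))))) (.cons [2, 12, 1] 1 0 (.op 4 0 (.op 22 0 (.op 28 2 (.and 1 0 (.dead0 0))))) (.cons [2, 10, 4] 1 0 (.op 16 0 (.op 22 0 (.op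 10 2 (.op 28 0 (.and 2 0 (.dead0 0)))))) (.cons [5, 3, 9] 1 0 (.op 10 0 (.and 0 7 (.dead0 0))) (.cons [6, 1, 9] 1 0 (.op 4 0 (.op 28 0 (.op 22 2 (.and 1 0 (.dead0 0))))) (.cons [13, 8, 10] 1 0 (.op 7 0 (.op 16 0 (.op 34 2 (.and 1 0 (.dead0 0))))) (.cons [15, 12, 1] 1 0 (.op 7 0 (.op 28 0 (.op 34 2 (.and 1 0 (.dead0 0))))) (.cons [5, 11, 1] 1 0 (.op 7 0 (.op 16 0 (.op 34 2 (.and 1 0 (.dead0 0))))) (.cons [6, 11, 9] 1 0 (.op 10 0 (.and 0 7 (.dead0 0))) Tq_10))))))))))))))))))))))))))))))))))))))))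
noncomputable def Tq_12 : Tr := (.cons [1, 14, 9] 1 0 (.op 4 0 (.op 28 0 (.op 16 2 (.and 1 0 (.dead0 0))))) (.cons [12, 5, 1] 1 0 (.op 4 0 (.op 16 0 (.op 34 2 (.and 1 0 (.dead0 0))))) (.cons [7, 3, 9] 1 0 (.op 10 0 (.op 16 0 (.op 4 2 (.op 28 0 (.and 2 0 (.dead0 0)))))) (.cons [5, 15, 2] 1 0 (.op 7 0 (.op 16 0 (.op 34 2 (.and 1 0 (.dead0 0))))) (.cons [2, 8, 9] 1 0 (.op 4 0 (.op 28 0 (.op 10 2 (.and 1 0 (.dead0 0))))) (.cons [3, 9, 1] 1 0 (.op 16 0 (.op 22 0 (.op 10 2 (.op 28 0 (.and 2 0 (.dead0 0)))))) (.cons [5, 1, 9] 1 0 (.op 16 0 (.op 22 0 (.op 10 2 (.op 28 0 (.and 2 0 (.dead0 0)))))) (.cons [8, 16, 2] 1 0 (.op 7 0 (.op 10 0 (.op 34 2 (.and 1 0 (.dead0 0))))) (.cons [9, 12, 7] 1 0 (.op 16 0 (.op 22 0 (.op 4 2 (.op 28 0 (.and 2 0 (.dead0 0)))))) (.cons [7, 10, 1] 1 0 (.op 4 0 (.op 28 0 (.op 22 2 (.and 1 0 (.dead0 0))))) (.cons [12, 2, 10] 1 0 (.op 4 0 (.op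 28 0 (.op 22 2 (.and 1 0 (.dead0 0))))) (.cons [1, 11, 9] 1 0 (.op 4 0 (.op 28 0 (.op 22 2 (.and 1 0 (.dead0 0))))) (.cons [4, 16, 10] 1 0 (.op 34 0 (.op 10 1 (.and 1 0 (.dead0 0)))) (.cons [9, 1, 9] 1 0 (.op 16 0 (.op 22 0 (.op 10 2 (.op 28 0 (.and 2 0 (.dead0 0)))))) (.cons [1, 9, 1] 1 0 (.op 4 0 (.op 28 0 (.op 10 2 (.and 1 0 (.dead0 0))))) (.cons [8, 15, 2] 1 0 (.op 4 0 (.op 22 0 (.op 34 2 (.and 1 0 (.dead0 0))))) (.cons [6, 14, 9] 1 0 (.op 4 0 (.op 10 0 (.op 34 2 (.and 1 0 (.dead0 0))))) (.cons [8, 9, 2] 1 0 (.op 34 0 (.op 16 1 (.and 1 0 (.dead0 0)))) (.cons [14, 9, 8] 1 0 (.op 10 0 (.op 22 0 (.op 4 2 (.op 28 0 (.and 2 0 (.dead0 0)))))) (.cons [9, 16, 2] 1 0 (.op 10 0 (.op 22 0 (.op 7 2 (.op 28 0 (.and 2 0 (.dead0 0)))))) (.cons [15, 10, 6] 1 0 (.op 10 0 (.and 0 9 (.dead0 0))) (.cons [8, 12, 1] 1 0 (.op 16 0 (.and 0 11 (.dead0 0))) (.cons [2, 15, 10] 1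 0 (.op 10 0 (.and 0 9 (.dead0 0))) (.cons [5, 10, 4] 1 0 (.op 4 0 (.op 16 0 (.op 34 2 (.and 1 0 (.dead0 0))))) (.cons [12, 14, 10] 1 0 (.op 7 0 (.op 10 0 (.op 34 2 (.and 1 0 (.dead0 0))))) (.cons [5, 10, 2] 1 0 (.op 4 0 (.op 10 0 (.op 28 2 (.and 1 0 (.dead0 0))))) (.cons [2, 9, 8] 1 0 (.op 4 0 (.op 28 0 (.op 10 2 (.and 1 0 (.dead0 0))))) (.cons [8, 1, 9] 1 0 (.op 34 0 (.op 7 1 (.and 1 0 (.dead0 0)))) (.cons [3, 10, 3] 1 0 (.op 16 0 (.op 22 0 (.op 7 2 (.op 28 0 (.and 2 0 (.dead0 0)))))) (.cons [7, 10, 3] 1 0 (.op 4 0 (.op 16 0 (.op 34 2 (.and 1 0 (.dead0 0))))) (.cons [12, 16, 2] 1 0 (.op 7 0 (.op 10 0 (.op 34 2 (.and 1 0 (.dead0 0))))) (.cons [9, 13, 9] 1 0 (.op 4 0 (.op 10 0 (.op 22 2 (.and 1 0 (.dead0 0))))) (.cons [8, 10, 5] 1 0 (.op 7 0 (.op 22 0 (.op 34 2 (.and 1 0 (.dead0 0))))) (.cons [8, 10, 4] 1 0 (.op 7 0 (.op 22 0 (.op 34 2 (.and 1 0 (.dead0 0)))))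 (.cons [8, 10, 3] 1 0 (.op 7 0 (.op 22 0 (.op 34 2 (.and 1 0 (.dead0 0))))) (.cons [13, 2, 9] 1 0 (.op 4 0 (.op 22 0 (.op 28 2 (.and 1 0 (.dead0 0))))) (.cons [6, 9, 1] 1 0 (.op 4 0 (.op 28 0 (.op 22 2 (.and 1 0 (.dead0 0))))) (.cons [4, 9, 1] 1 0 (.op 4 0 (.op 10 0 (.op 28 2 (.and 1 0 (.dead0 0))))) (.cons [2, 9, 7] 1 0 (.op 4 0 (.op 28 0 (.op 10 2 (.and 1 0 (.dead0 0))))) (.cons [8, 14, 10] 1 0 (.op 7 0 (.op 10 0 (.op 34 2 (.and 1 0 (.dead0 0))))) Tq_11))))))))))))))))))))))))))))))))))))))))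
noncomputable def Tq_13 : Tr := (.cons [14, 1, 6] 1 0 (.op 34 0 (.op 16 1 (.and 1 0 (.dead0 0)))) (.cons [2, 9, 4] 1 0 (.op 4 0 (.op 28 0 (.op 10 2 (.and 1 0 (.dead0 0))))) (.cons [3, 2, 10] 1 0 (.op 4 0 (.op 28 0 (.op 10 2 (.and 1 0 (.dead0 0))))) (.cons [6, 4, 9] 1 0 (.op 16 0 (.op 22 0 (.op 7 2 (.op 28 0 (.and 2 0 (.dead0 0)))))) (.cons [1, 9, 6] 1 0 (.op 34 0 (.op 7 1 (.and 1 0 (.dead0 0)))) (.cons [7, 10, 5] 1 0 (.op 4 0 (.op 16 0 (.op 34 2 (.and 1 0 (.dead0 0))))) (.cons [9, 4, 1] 1 0 (.op 4 0 (.op 10 0 (.op 28 2 (.and 1 0 (.dead0 0))))) (.cons [9, 12, 5] 1 0 (.op 16 0 (.op 22 0 (.op 4 2 (.op 28 0 (.and 2 0 (.dead0 0)))))) (.cons [2, 14, 9] 1 0 (.op 4 0 (.op 22 0 (.op 34 2 (.and 1 0 (.dead0 0))))) (.cons [13, 11, 10] 1 0 (.op 10 0 (.op 16 0 (.op 7 2 (.op 22 0 (.and 2 0 (.dead0 0)))))) (.cons [8, 12, 9] 1 0 (.op 10 0 (.op 16 0 (.op 4 2 (.op 22 0 (.and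 2 0 (.dead0 0)))))) (.cons [11, 10, 8] 1 0 (.op 10 0 (.op 16 0 (.op 7 2 (.op 22 0 (.and 2 0 (.dead0 0)))))) (.cons [3, 15, 1] 1 0 (.op 4 0 (.op 34 0 (.op 16 1 (.and 1 0 (.dead0 0))))) (.cons [8, 15, 1] 1 0 (.op 4 0 (.op 34 0 (.op 22 1 (.and 1 0 (.dead0 0))))) (.cons [1, 9, 3] 1 0 (.op 34 0 (.op 7 1 (.and 1 0 (.dead0 0)))) (.cons [8, 9, 4] 1 0 (.op 16 0 (.op 22 0 (.op 4 2 (.op 28 0 (.and 2 0 (.dead0 0)))))) (.cons [8, 16, 1] 1 0 (.op 10 0 (.op 22 0 (.op 4 2 (.op 28 0 (.and 2 0 (.dead0 0)))))) (.cons [10, 12, 6] 1 0 (.op 16 0 (.and 0 11 (.dead0 0))) (.cons [9, 15, 9] 1 0 (.op 4 0 (.op 16 0 (.op 10 2 (.and 1 0 (.dead0 0))))) (.cons [1, 15, 10] 1 0 (.op 10 0 (.and 0 9 (.dead0 0))) (.cons [10, 12, 2] 1 0 (.op 4 0 (.op 22 0 (.op 10 2 (.and 1 0 (.dead0 0))))) (.cons [15, 10, 2] 1 0 (.op 4 0 (.op 10 0 (.op 16 2 (.and 1 0 (.dead0 0))))) (.cons [10, 2, 3] 1 0 (.op 4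 0 (.op 10 0 (.op 28 2 (.and 1 0 (.dead0 0))))) (.cons [5, 2, 9] 1 0 (.op 4 0 (.op 28 0 (.op 10 2 (.and 1 0 (.dead0 0))))) (.cons [5, 14, 10] 1 0 (.op 4 0 (.op 10 0 (.op 34 2 (.and 1 0 (.dead0 0))))) (.cons [2, 8, 10] 1 0 (.op 4 0 (.op 16 0 (.op 28 2 (.and 1 0 (.dead0 0))))) (.cons [8, 11, 1] 1 0 (.op 4 0 (.op 22 0 (.op 34 2 (.and 1 0 (.dead0 0))))) (.cons [3, 16, 2] 1 0 (.op 4 0 (.op 22 0 (.op 34 2 (.and 1 0 (.dead0 0))))) (.cons [11, 2, 10] 1 0 (.op 4 0 (.op 10 0 (.op 28 2 (.and 1 0 (.dead0 0))))) (.cons [15, 6, 9] 1 0 (.op 7 0 (.op 28 0 (.op 34 2 (.and 1 0 (.dead0 0))))) (.cons [16, 10, 2] 1 0 (.op 4 0 (.op 28 0 (.op 16 2 (.and 1 0 (.dead0 0))))) (.cons [10, 7, 2] 1 0 (.op 4 0 (.op 10 0 (.op 28 2 (.and 1 0 (.dead0 0))))) (.cons [10, 14, 10] 1 0 (.op 4 0 (.op 16 0 (.op 10 2 (.and 1 0 (.dead0 0))))) (.cons [6, 8, 10] 1 0 (.op 7 0 (.op 22 0 (.op 34 2 (.and 1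 0 (.dead0 0))))) (.cons [15, 3, 9] 1 0 (.op 34 0 (.op 10 1 (.and 1 0 (.dead0 0)))) (.cons [5, 2, 3] 1 0 (.op 10 0 (.op 16 0 (.op 4 2 (.op 22 0 (.and 2 0 (.dead0 0)))))) (.cons [4, 2, 10] 1 0 (.op 34 0 (.op 4 1 (.and 1 0 (.dead0 0)))) (.cons [9, 7, 5] 1 0 (.op 16 0 (.op 22 0 (.op 4 2 (.op 28 0 (.and 2 0 (.dead0 0)))))) (.cons [7, 15, 1] 1 0 (.op 10 0 (.op 16 0 (.op 7 2 (.op 22 0 (.and 2 0 (.dead0 0)))))) (.cons [6, 16, 10] 1 0 (.op 4 0 (.op 34 0 (.op 22 1 (.and 1 0 (.dead0 0))))) Tq_12))))))))))))))))))))))))))))))))))))))))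
noncomputable def Tq_14 : Tr := (.cons [13, 9, 8] 1 0 (.op 10 0 (.op 16 0 (.op 7 2 (.op 28 0 (.and 2 0 (.dead0 0)))))) (.cons [12, 1, 4] 1 0 (.op 4 0 (.op 16 0 (.op 34 2 (.and 1 0 (.dead0 0))))) (.cons [5, 16, 9] 1 0 (.op 34 0 (.op 22 1 (.and 1 0 (.dead0 0)))) (.cons [14, 9, 4] 1 0 (.op 10 0 (.op 22 0 (.op 4 2 (.op 28 0 (.and 2 0 (.dead0 0)))))) (.cons [6, 14, 10] 1 0 (.op 10 0 (.op 22 0 (.op 4 2 (.op 28 0 (.and 2 0 (.dead0 0)))))) (.cons [12, 10, 4] 1 0 (.op 34 0 (.op 10 1 (.and 1 0 (.dead0 0)))) (.cons [11, 16, 1] 1 0 (.op 7 0 (.op 16 0 (.op 34 2 (.and 1 0 (.dead0 0))))) (.cons [10, 13, 2] 1 0 (.op 4 0 (.op 10 0 (.op 28 2 (.and 1 0 (.dead0 0))))) (.cons [3, 10, 8] 1 0 (.op 16 0 (.op 22 0 (.op 7 2 (.op 28 0 (.and 2 0 (.dead0 0)))))) (.cons [7, 2, 10] 1 0 (.op 4 0 (.op 22 0 (.op 28 2 (.and 1 0 (.dead0 0))))) (.cons [7, 12, 10] 1 0 (.op 34 0 (.op 10 1 (.and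 1 0 (.dead0 0)))) (.cons [13, 9, 5] 1 0 (.op 10 0 (.op 16 0 (.op 7 2 (.op 28 0 (.and 2 0 (.dead0 0)))))) (.cons [7, 16, 1] 1 0 (.op 10 0 (.op 16 0 (.op 7 2 (.op 28 0 (.and 2 0 (.dead0 0)))))) (.cons [9, 11, 8] 1 0 (.op 16 0 (.op 22 0 (.op 4 2 (.op 28 0 (.and 2 0 (.dead0 0)))))) (.cons [14, 1, 4] 1 0 (.op 34 0 (.op 16 1 (.and 1 0 (.dead0 0)))) (.cons [5, 10, 1] 1 0 (.op 4 0 (.op 28 0 (.op 22 2 (.and 1 0 (.dead0 0))))) (.cons [4, 8, 10] 1 0 (.op 10 0 (.and 0 9 (.dead0 0))) (.cons [11, 10, 5] 1 0 (.op 10 0 (.op 16 0 (.op 7 2 (.op 22 0 (.and 2 0 (.dead0 0)))))) (.cons [3, 12, 1] 1 0 (.op 10 0 (.op 16 0 (.op 4 2 (.op 28 0 (.and 2 0 (.dead0 0)))))) (.cons [15, 9, 4] 1 0 (.op 10 0 (.op 22 0 (.op 7 2 (.op 28 0 (.and 2 0 (.dead0 0)))))) (.cons [15, 9, 5] 1 0 (.op 10 0 (.op 22 0 (.op 7 2 (.op 28 0 (.and 2 0 (.dead0 0)))))) (.cons [12, 1, 9] 1 0 (.op 4 0 (.op 28 0 (.op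 10 2 (.and 1 0 (.dead0 0))))) (.cons [6, 3, 9] 1 0 (.op 10 0 (.op 16 0 (.op 7 2 (.op 28 0 (.and 2 0 (.dead0 0)))))) (.cons [2, 9, 3] 1 0 (.op 4 0 (.op 28 0 (.op 10 2 (.and 1 0 (.dead0 0))))) (.cons [10, 16, 2] 1 0 (.op 4 0 (.op 16 0 (.op 10 2 (.and 1 0 (.dead0 0))))) (.cons [11, 10, 6] 1 0 (.op 10 0 (.op 16 0 (.op 7 2 (.op 22 0 (.and 2 0 (.dead0 0)))))) (.cons [11, 10, 3] 1 0 (.op 10 0 (.op 16 0 (.op 7 2 (.op 22 0 (.and 2 0 (.dead0 0)))))) (.cons [15, 9, 8] 1 0 (.op 10 0 (.op 22 0 (.op 7 2 (.op 28 0 (.and 2 0 (.dead0 0)))))) (.cons [7, 11, 2] 1 0 (.op 34 0 (.op 16 1 (.and 1 0 (.dead0 0)))) (.cons [3, 16, 9] 1 0 (.op 4 0 (.op 34 0 (.op 10 1 (.and 1 0 (.dead0 0))))) (.cons [16, 9, 2] 1 0 (.op 10 0 (.op 22 0 (.op 7 2 (.op 28 0 (.and 2 0 (.dead0 0)))))) (.cons [14, 1, 9] 1 0 (.op 34 0 (.op 7 1 (.and 1 0 (.dead0 0)))) (.cons [8, 15, 9] 1 0 (.op 10 0 (.op 16 0 (.op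 4 2 (.op 28 0 (.and 2 0 (.dead0 0)))))) (.cons [5, 10, 8] 1 0 (.op 4 0 (.op 16 0 (.op 34 2 (.and 1 0 (.dead0 0))))) (.cons [6, 15, 2] 1 0 (.op 16 0 (.op 22 0 (.op 7 2 (.op 28 0 (.and 2 0 (.dead0 0)))))) (.cons [6, 11, 1] 1 0 (.op 16 0 (.op 22 0 (.op 7 2 (.op 28 0 (.and 2 0 (.dead0 0)))))) (.cons [16, 3, 2] 1 0 (.op 10 0 (.op 22 0 (.op 7 2 (.op 28 0 (.and 2 0 (.dead0 0)))))) (.cons [4, 11, 9] 1 0 (.op 7 0 (.op 16 0 (.op 34 2 (.and 1 0 (.dead0 0))))) (.cons [13, 6, 2] 1 0 (.op 34 0 (.op 16 1 (.and 1 0 (.dead0 0)))) (.cons [15, 1, 10] 1 0 (.op 34 0 (.op 10 1 (.and 1 0 (.dead0 0)))) Tq_13))))))))))))))))))))))))))))))))))))))))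
noncomputable def Tq_15 : Tr := (.cons [11, 3, 10] 1 0 (.op 10 0 (.op 16 0 (.op 4 2 (.op 28 0 (.and 2 0 (.dead0 0)))))) (.cons [4, 6, 1] 1 0 (.op 10 0 (.op 16 0 (.op 4 2 (.op 22 0 (.and 2 0 (.dead0 0)))))) (.cons [10, 15, 10] 1 0 (.op 4 0 (.op 10 0 (.op 16 2 (.and 1 0 (.dead0 0))))) (.cons [6, 16, 2] 1 0 (.op 10 0 (.op 22 0 (.op 4 2 (.op 28 0 (.and 2 0 (.dead0 0)))))) (.cons [9, 12, 2] 1 0 (.op 10 0 (.op 16 0 (.op 4 2 (.op 28 0 (.and 2 0 (.dead0 0)))))) (.cons [14, 9, 1] 1 0 (.op 34 0 (.op 7 1 (.and 1 0 (.dead0 0)))) (.cons [9, 15, 2] 1 0 (.op 16 0 (.op 22 0 (.op 10 2 (.op 28 0 (.and 2 0 (.dead0 0)))))) (.cons [9, 3, 9] 1 0 (.op 4 0 (.op 34 0 (.op 28 1 (.and 1 0 (.dead0 0))))) (.cons [11, 14, 9] 1 0 (.op 7 0 (.op 28 0 (.op 34 2 (.and 1 0 (.dead0 0))))) (.cons [5, 2, 5] 1 0 (.op 10 0 (.op 16 0 (.op 4 2 (.op 22 0 (.and 2 0 (.dead0 0)))))) (.cons [10, 1, 4] 1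 0 (.op 16 0 (.op 22 0 (.op 10 2 (.op 28 0 (.and 2 0 (.dead0 0)))))) (.cons [6, 12, 2] 1 0 (.op 34 0 (.op 28 1 (.and 1 0 (.dead0 0)))) (.cons [16, 4, 1] 1 0 (.op 10 0 (.op 22 0 (.op 7 2 (.op 28 0 (.and 2 0 (.dead0 0)))))) (.cons [6, 13, 9] 1 0 (.op 10 0 (.and 0 7 (.dead0 0))) (.cons [11, 4, 10] 1 0 (.op 7 0 (.op 16 0 (.op 34 2 (.and 1 0 (.dead0 0))))) (.cons [7, 13, 2] 1 0 (.op 10 0 (.and 0 5 (.dead0 0))) (.cons [5, 15, 1] 1 0 (.op 4 0 (.op 34 0 (.op 16 1 (.and 1 0 (.dead0 0))))) (.cons [4, 15, 1] 1 0 (.op 4 0 (.op 34 0 (.op 16 1 (.and 1 0 (.dead0 0))))) (.cons [7, 1, 5] 1 0 (.op 4 0 (.op 34 0 (.op 10 1 (.and 1 0 (.dead0 0))))) (.cons [5, 10, 3] 1 0 (.op 4 0 (.op 16 0 (.op 34 2 (.and 1 0 (.dead0 0))))) (.cons [10, 11, 8] 1 0 (.op 16 0 (.and 0 11 (.dead0 0))) (.cons [3, 10, 5] 1 0 (.op 16 0 (.op 22 0 (.op 7 2 (.op 28 0 (.and 2 0 (.dead0 0)))))) (.cons [4, 14,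 2] 1 0 (.op 4 0 (.op 34 0 (.op 10 1 (.and 1 0 (.dead0 0))))) (.cons [9, 1, 5] 1 0 (.op 34 0 (.op 7 1 (.and 1 0 (.dead0 0)))) (.cons [10, 11, 1] 1 0 (.op 16 0 (.op 22 0 (.op 7 2 (.op 28 0 (.and 2 0 (.dead0 0)))))) (.cons [4, 15, 10] 1 0 (.op 10 0 (.op 22 0 (.op 7 2 (.op 28 0 (.and 2 0 (.dead0 0)))))) (.cons [11, 9, 3] 1 0 (.op 10 0 (.op 16 0 (.op 7 2 (.op 28 0 (.and 2 0 (.dead0 0)))))) (.cons [7, 11, 10] 1 0 (.op 4 0 (.op 34 0 (.op 22 1 (.and 1 0 (.dead0 0))))) (.cons [15, 4, 1] 1 0 (.op 16 0 (.op 22 0 (.op 4 2 (.op 28 0 (.and 2 0 (.dead0 0)))))) (.cons [14, 7, 9] 1 0 (.op 10 0 (.op 22 0 (.op 4 2 (.op 28 0 (.and 2 0 (.dead0 0)))))) (.cons [1, 10, 7] 1 0 (.op 4 0 (.op 34 0 (.op 28 1 (.and 1 0 (.dead0 0))))) (.cons [3, 10, 1] 1 0 (.op 4 0 (.op 10 0 (.op 28 2 (.and 1 0 (.dead0 0))))) (.cons [11, 15, 9] 1 0 (.op 4 0 (.op 28 0 (.op 34 2 (.and 1 0 (.dead0 0))))) (.cons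 [14, 2, 9] 1 0 (.op 4 0 (.op 16 0 (.op 28 2 (.and 1 0 (.dead0 0))))) (.cons [12, 1, 10] 1 0 (.op 10 0 (.op 16 0 (.op 4 2 (.op 22 0 (.and 2 0 (.dead0 0)))))) (.cons [11, 10, 4] 1 0 (.op 10 0 (.op 16 0 (.op 7 2 (.op 22 0 (.and 2 0 (.dead0 0)))))) (.cons [8, 3, 2] 1 0 (.op 34 0 (.op 16 1 (.and 1 0 (.dead0 0)))) (.cons [15, 1, 6] 1 0 (.op 4 0 (.op 34 0 (.op 16 1 (.and 1 0 (.dead0 0))))) (.cons [11, 8, 10] 1 0 (.op 10 0 (.op 22 0 (.op 4 2 (.op 28 0 (.and 2 0 (.dead0 0)))))) (.cons [10, 2, 10] 1 0 (.op 34 0 (.op 4 1 (.and 1 0 (.dead0 0)))) Tq_14))))))))))))))))))))))))))))))))))))))))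
noncomputable def Tq_16 : Tr := (.cons [12, 12, 2] 1 0 (.op 10 0 (.op 16 0 (.op 7 2 (.op 28 0 (.and 2 0 (.dead0 0)))))) (.cons [11, 13, 2] 1 0 (.op 34 0 (.op 22 1 (.and 1 0 (.dead0 0)))) (.cons [16, 1, 4] 1 0 (.op 34 0 (.op 28 1 (.and 1 0 (.dead0 0)))) (.cons [11, 8, 9] 1 0 (.op 10 0 (.op 16 0 (.op 7 2 (.op 28 0 (.and 2 0 (.dead0 0)))))) (.cons [6, 12, 9] 1 0 (.op 10 0 (.op 16 0 (.op 4 2 (.op 22 0 (.and 2 0 (.dead0 0)))))) (.cons [2, 10, 2] 1 0 (.op 34 0 (.op 4 1 (.and 1 0 (.dead0 0)))) (.cons [3, 1, 9] 1 0 (.op 16 0 (.op 22 0 (.op 10 2 (.op 28 0 (.and 2 0 (.dead0 0)))))) (.cons [11, 9, 5] 1 0 (.op 10 0 (.op 16 0 (.op 7 2 (.op 28 0 (.and 2 0 (.dead0 0)))))) (.cons [14, 15, 9] 1 0 (.op 10 0 (.op 16 0 (.op 4 2 (.op 28 0 (.and 2 0 (.dead0 0)))))) (.cons [16, 9, 4] 1 0 (.op 10 0 (.op 16 0 (.op 4 2 (.op 22 0 (.and 2 0 (.dead0 0)))))) (.cons [9, 11, 1] 1 0 (.op 16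 0 (.op 22 0 (.op 10 2 (.op 28 0 (.and 2 0 (.dead0 0)))))) (.cons [7, 5, 2] 1 0 (.op 34 0 (.op 22 1 (.and 1 0 (.dead0 0)))) (.cons [3, 10, 2] 1 0 (.op 34 0 (.op 7 1 (.and 1 0 (.dead0 0)))) (.cons [4, 14, 9] 1 0 (.op 4 0 (.op 22 0 (.op 34 2 (.and 1 0 (.dead0 0))))) (.cons [4, 15, 2] 1 0 (.op 4 0 (.op 34 0 (.op 28 1 (.and 1 0 (.dead0 0))))) (.cons [8, 11, 9] 1 0 (.op 34 0 (.op 28 1 (.and 1 0 (.dead0 0)))) (.cons [13, 1, 10] 1 0 (.op 4 0 (.op 34 0 (.op 28 1 (.and 1 0 (.dead0 0))))) (.cons [12, 10, 3] 1 0 (.op 34 0 (.op 10 1 (.and 1 0 (.dead0 0)))) (.cons [9, 4, 9] 1 0 (.op 16 0 (.op 22 0 (.op 10 2 (.op 28 0 (.and 2 0 (.dead0 0)))))) (.cons [1, 3, 9] 1 0 (.op 16 0 (.op 22 0 (.op 10 2 (.op 28 0 (.and 2 0 (.dead0 0)))))) (.cons [15, 6, 2] 1 0 (.op 34 0 (.op 22 1 (.and 1 0 (.dead0 0)))) (.cons [7, 12, 9] 1 0 (.op 34 0 (.op 16 1 (.and 1 0 (.dead0 0)))) (.cons [16, 3,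 9] 1 0 (.op 34 0 (.op 16 1 (.and 1 0 (.dead0 0)))) (.cons [9, 1, 4] 1 0 (.op 34 0 (.op 7 1 (.and 1 0 (.dead0 0)))) (.cons [4, 10, 5] 1 0 (.op 34 0 (.op 28 1 (.and 1 0 (.dead0 0)))) (.cons [13, 1, 6] 1 0 (.op 34 0 (.op 22 1 (.and 1 0 (.dead0 0)))) (.cons [14, 4, 10] 1 0 (.op 34 0 (.op 28 1 (.and 1 0 (.dead0 0)))) (.cons [3, 14, 10] 1 0 (.op 4 0 (.op 22 0 (.op 34 2 (.and 1 0 (.dead0 0))))) (.cons [5, 8, 10] 1 0 (.op 7 0 (.op 22 0 (.op 34 2 (.and 1 0 (.dead0 0))))) (.cons [5, 14, 2] 1 0 (.op 10 0 (.op 16 0 (.op 4 2 (.op 22 0 (.and 2 0 (.dead0 0)))))) (.cons [4, 2, 5] 1 0 (.op 4 0 (.op 34 0 (.op 10 1 (.and 1 0 (.dead0 0))))) (.cons [9, 8, 1] 1 0 (.op 34 0 (.op 7 1 (.and 1 0 (.dead0 0)))) (.cons [1, 16, 10] 1 0 (.op 16 0 (.op 22 0 (.op 10 2 (.op 28 0 (.and 2 0 (.dead0 0)))))) (.cons [3, 8, 1] 1 0 (.op 10 0 (.and 0 5 (.dead0 0))) (.cons [8, 11, 10] 1 0 (.op 4 0 (.op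 34 0 (.op 16 1 (.and 1 0 (.dead0 0))))) (.cons [16, 6, 2] 1 0 (.op 34 0 (.op 22 1 (.and 1 0 (.dead0 0)))) (.cons [3, 11, 2] 1 0 (.op 34 0 (.op 22 1 (.and 1 0 (.dead0 0)))) (.cons [12, 1, 5] 1 0 (.op 4 0 (.op 16 0 (.op 34 2 (.and 1 0 (.dead0 0))))) (.cons [9, 3, 5] 1 0 (.op 16 0 (.op 22 0 (.op 4 2 (.op 28 0 (.and 2 0 (.dead0 0)))))) (.cons [4, 16, 1] 1 0 (.op 16 0 (.op 22 0 (.op 7 2 (.op 28 0 (.and 2 0 (.dead0 0)))))) Tq_15))))))))))))))))))))))))))))))))))))))))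
noncomputable def Tq_17 : Tr := (.cons [14, 12, 9] 1 0 (.op 4 0 (.op 34 0 (.op 10 1 (.and 1 0 (.dead0 0))))) (.cons [14, 4, 2] 1 0 (.op 34 0 (.op 16 1 (.and 1 0 (.dead0 0)))) (.cons [13, 12, 10] 1 0 (.op 4 0 (.op 34 0 (.op 22 1 (.and 1 0 (.dead0 0))))) (.cons [1, 12, 7] 1 0 (.op 4 0 (.op 34 0 (.op 10 1 (.and 1 0 (.dead0 0))))) (.cons [15, 10, 1] 1 0 (.op 16 0 (.op 22 0 (.op 10 2 (.op 28 0 (.and 2 0 (.dead0 0)))))) (.cons [12, 10, 6] 1 0 (.op 34 0 (.op 10 1 (.and 1 0 (.dead0 0)))) (.cons [3, 11, 10] 1 0 (.op 34 0 (.op 10 1 (.and 1 0 (.dead0 0)))) (.cons [2, 12, 6] 1 0 (.op 10 0 (.and 0 5 (.dead0 0))) (.cons [14, 10, 1] 1 0 (.op 16 0 (.op 22 0 (.op 10 2 (.op 28 0 (.and 2 0 (.dead0 0)))))) (.cons [12, 14, 1] 1 0 (.op 34 0 (.op 16 1 (.and 1 0 (.dead0 0)))) (.cons [12, 10, 8] 1 0 (.op 34 0 (.op 10 1 (.and 1 0 (.dead0 0)))) (.cons [2, 11, 1] 1 0 (.op 16 0 (.op 22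 0 (.op 10 2 (.op 28 0 (.and 2 0 (.dead0 0)))))) (.cons [4, 12, 1] 1 0 (.op 10 0 (.and 0 7 (.dead0 0))) (.cons [13, 15, 2] 1 0 (.op 10 0 (.and 0 7 (.dead0 0))) (.cons [16, 14, 1] 1 0 (.op 34 0 (.op 10 1 (.and 1 0 (.dead0 0)))) (.cons [5, 11, 10] 1 0 (.op 4 0 (.op 34 0 (.op 22 1 (.and 1 0 (.dead0 0))))) (.cons [10, 4, 8] 1 0 (.op 16 0 (.and 0 11 (.dead0 0))) (.cons [10, 8, 5] 1 0 (.op 16 0 (.and 0 11 (.dead0 0))) (.cons [14, 12, 10] 1 0 (.op 4 0 (.op 34 0 (.op 16 1 (.and 1 0 (.dead0 0))))) (.cons [15, 1, 5] 1 0 (.op 4 0 (.op 34 0 (.op 16 1 (.and 1 0 (.dead0 0))))) (.cons [2, 12, 5] 1 0 (.op 10 0 (.and 0 5 (.dead0 0))) (.cons [10, 3, 5] 1 0 (.op 16 0 (.and 0 11 (.dead0 0))) (.cons [15, 10, 5] 1 0 (.op 10 0 (.and 0 9 (.dead0 0))) (.cons [14, 11, 1] 1 0 (.op 10 0 (.and 0 9 (.dead0 0))) (.cons [1, 11, 8] 1 0 (.op 4 0 (.op 34 0 (.op 10 1 (.and 1 0 (.dead0 0))))) (.cons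 [1, 11, 3] 1 0 (.op 4 0 (.op 34 0 (.op 10 1 (.and 1 0 (.dead0 0))))) (.cons [16, 10, 1] 1 0 (.op 16 0 (.op 22 0 (.op 10 2 (.op 28 0 (.and 2 0 (.dead0 0)))))) (.cons [14, 15, 2] 1 0 (.op 10 0 (.and 0 9 (.dead0 0))) (.cons [5, 9, 8] 1 0 (.op 16 0 (.and 0 11 (.dead0 0))) (.cons [6, 16, 1] 1 0 (.op 10 0 (.op 16 0 (.op 4 2 (.op 28 0 (.and 2 0 (.dead0 0)))))) (.cons [9, 1, 6] 1 0 (.op 34 0 (.op 7 1 (.and 1 0 (.dead0 0)))) (.cons [7, 11, 8] 1 0 (.base (nat_lit 0x420000100048081000000000000200000040008000030308000600020004110041010022000041000000000440c0000000000808000010086000000000000000200080200a0400800002100000000000000000000400408000400000000100000000000080000000000004000000000000400000008200040044040000000080000000000000004000800000000040000000000000000000000002100000008000050000000000802000400100000000000000000080000000008000000000000000000000000000000000000000000000020000000180000000004000)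 (.and 0 3 (.dead0 0))) (.cons [13, 9, 1] 1 0 (.op 34 0 (.op 7 1 (.and 1 0 (.dead0 0)))) (.cons [11, 9, 7] 1 0 (.op 10 0 (.op 16 0 (.op 7 2 (.op 28 0 (.and 2 0 (.dead0 0)))))) (.cons [4, 12, 10] 1 0 (.op 10 0 (.op 16 0 (.op 7 2 (.op 22 0 (.and 2 0 (.dead0 0)))))) (.cons [9, 12, 10] 1 0 (.op 34 0 (.op 4 1 (.and 1 0 (.dead0 0)))) (.cons [8, 11, 2] 1 0 (.op 10 0 (.op 16 0 (.op 4 2 (.op 22 0 (.and 2 0 (.dead0 0)))))) (.cons [4, 11, 1] 1 0 (.op 4 0 (.op 34 0 (.op 28 1 (.and 1 0 (.dead0 0))))) (.cons [12, 12, 5] 1 0 (.base (nat_lit 0x420000100048081000000000000200000040008000030308000600020004110041010022000041000000000440c0000000000808000010086000000000000000200080200a0400800002100000000000000000000400408000400000000100000000000080000000000004000000000000400000008200040044040000000080000000000000004000800000000040000000000000000000000002100000008000050000000000802000400100000000000000000080000000008000000000000000000000000000000000000000000000020000000180000000004000)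 (.and 0 3 (.dead0 0))) (.cons [14, 11, 10] 1 0 (.op 10 0 (.op 16 0 (.op 7 2 (.op 22 0 (.and 2 0 (.dead0 0)))))) Tq_16))))))))))))))))))))))))))))))))))))))))
noncomputable def Tq_18 : Tr := (.cons [16, 9] 1 0 (.op 10 0 (.op 16 0 (.op 4 2 (.op 22 0 (.and 2 0 (.dead0 0)))))) (.cons [9, 3] 1 0 (.op 16 0 (.op 22 0 (.op 4 2 (.op 28 0 (.and 2 0 (.dead0 0)))))) (.cons [6, 9] 1 0 (.op 4 0 (.op 16 0 (.op 34 2 (.and 1 0 (.dead0 0))))) (.cons [2, 9] 1 0 (.op 4 0 (.op 28 0 (.op 10 2 (.and 1 0 (.dead0 0))))) (.cons [10, 2] 1 0 (.op 4 0 (.op 10 0 (.op 28 2 (.and 1 0 (.dead0 0))))) (.cons [12, 1] 1 0 (.op 4 0 (.op 16 0 (.op 34 2 (.and 1 0 (.dead0 0))))) (.cons [8, 2] 1 0 (.op 10 0 (.and 0 5 (.dead0 0))) (.cons [11, 16, 10] 1 0 (.op 4 0 (.op 34 0 (.op 22 1 (.and 1 0 (.dead0 0))))) (.cons [14, 15, 1] 1 0 (.op 4 0 (.op 34 0 (.op 22 1 (.and 1 0 (.dead0 0))))) (.cons [9, 1, 10]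 1 0 (.op 4 0 (.op 34 0 (.op 28 1 (.and 1 0 (.dead0 0))))) (.cons [3, 12, 7] 1 0 (.base (nat_lit 0x20098000000004000020600088000020024020000000000010000000800000002000000000000220000400840000100000040040b2000000000000000000000000000000000000001000040002000000008000000704000012200002012400040000800000000004000108801008000200030100900850200000100800820800820000080000400010802004801000000220080800010c00100200004000000c204000300000008100080000004082000012a04028c42011024c820013a10201088044080890080008000822000000021808001022812c1020007001000430) (.op 4 0 (.and 10 0 (.base (nat_lit 0x40000c00000000000000001000200000000000000000000200000000000000000000000000000000008000000000000000000210040000000000000000000000000000200000040000000000000110000000000000000000840000000000000000000000000000000000100000000000000002000000010400000000000000000040080000000000000000000000100040000008a0000000100000200000080000040000000000020000000000000000000000000000000000000000000000000000000000000000000000000000000000000000000000000000000000000)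 (.op 10 0 (.and 2 0 (.dead0 0))))))) (.cons [12, 7, 9] 1 0 (.op 34 0 (.op 22 1 (.and 1 0 (.dead0 0)))) (.cons [11, 16, 9] 1 0 (.op 4 0 (.op 34 0 (.op 28 1 (.and 1 0 (.dead0 0))))) (.cons [12, 9, 7] 1 0 (.op 34 0 (.op 22 1 (.and 1 0 (.dead0 0)))) (.cons [3, 9, 8] 1 0 (.op 4 0 (.op 34 0 (.op 28 1 (.and 1 0 (.dead0 0))))) (.cons [1, 16, 1] 1 0 (.op 16 0 (.op 22 0 (.op 10 2 (.op 28 0 (.and 2 0 (.dead0 0)))))) (.cons [10, 1, 10] 1 0 (.op 4 0 (.op 34 0 (.op 28 1 (.and 1 0 (.dead0 0))))) (.cons [10, 3, 10] 1 0 (.op 16 0 (.op 22 0 (.op 10 2 (.op 28 0 (.and 2 0 (.dead0 0)))))) (.cons [16, 4, 2] 1 0 (.op 34 0 (.op 28 1 (.and 1 0 (.dead0 0)))) (.cons [1, 11, 2] 1 0 (.op 34 0 (.op 22 1 (.and 1 0 (.dead0 0)))) (.cons [16, 12, 10] 1 0 (.op 4 0 (.op 34 0 (.op 28 1 (.and 1 0 (.dead0 0))))) (.cons [2, 10, 3] 1 0 (.op 16 0 (.op 22 0 (.op 10 2 (.op 28 0 (.and 2 0 (.dead0 0))))))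 (.cons [10, 16, 1] 1 0 (.op 34 0 (.op 28 1 (.and 1 0 (.dead0 0)))) (.cons [2, 11, 2] 1 0 (.op 34 0 (.op 22 1 (.and 1 0 (.dead0 0)))) (.cons [7, 16, 2] 1 0 (.op 10 0 (.and 0 7 (.dead0 0))) (.cons [11, 15, 1] 1 0 (.op 4 0 (.op 34 0 (.op 16 1 (.and 1 0 (.dead0 0))))) (.cons [2, 11, 8] 1 0 (.op 10 0 (.and 0 5 (.dead0 0))) (.cons [13, 10, 1] 1 0 (.op 16 0 (.op 22 0 (.op 10 2 (.op 28 0 (.and 2 0 (.dead0 0)))))) (.cons [1, 11, 1] 1 0 (.op 34 0 (.op 28 1 (.and 1 0 (.dead0 0)))) (.cons [13, 12, 9] 1 0 (.op 34 0 (.op 16 1 (.and 1 0 (.dead0 0)))) (.cons [8, 12, 10] 1 0 (.op 34 0 (.op 10 1 (.and 1 0 (.dead0 0)))) (.cons [14, 1, 5] 1 0 (.op 34 0 (.op 16 1 (.and 1 0 (.dead0 0)))) (.cons [13, 1, 5] 1 0 (.op 34 0 (.op 22 1 (.and 1 0 (.dead0 0)))) (.cons [15, 4, 2] 1 0 (.op 4 0 (.op 34 0 (.op 16 1 (.and 1 0 (.dead0 0))))) (.cons [9, 12, 9] 1 0 (.op 34 0 (.op 22 1 (.and 1 0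 (.dead0 0)))) (.cons [2, 12, 10] 1 0 (.op 16 0 (.op 22 0 (.op 10 2 (.op 28 0 (.and 2 0 (.dead0 0)))))) (.cons [1, 10, 5] 1 0 (.op 4 0 (.op 34 0 (.op 28 1 (.and 1 0 (.dead0 0))))) (.cons [2, 10, 5] 1 0 (.op 16 0 (.op 22 0 (.op 10 2 (.op 28 0 (.and 2 0 (.dead0 0)))))) (.cons [15, 14, 1] 1 0 (.op 4 0 (.op 34 0 (.op 28 1 (.and 1 0 (.dead0 0))))) (.cons [16, 1, 5] 1 0 (.op 34 0 (.op 28 1 (.and 1 0 (.dead0 0)))) Tq_17))))))))))))))))))))))))))))))))))))))))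
noncomputable def Tq_19 : Tr := (.cons [15, 1] 1 0 (.op 4 0 (.op 34 0 (.op 16 1 (.and 1 0 (.dead0 0))))) (.cons [2, 3] 1 0 (.op 10 0 (.and 0 5 (.dead0 0))) (.cons [10, 5] 1 0 (.op 16 0 (.and 0 11 (.dead0 0))) (.cons [10, 3] 1 0 (.op 16 0 (.and 0 11 (.dead0 0))) (.cons [13, 9] 1 0 (.op 10 0 (.op 16 0 (.op 7 2 (.op 28 0 (.and 2 0 (.dead0 0)))))) (.cons [1, 9] 1 0 (.op 34 0 (.op 7 1 (.and 1 0 (.dead0 0)))) (.cons [3, 2] 1 0 (.op 10 0 (.op 16 0 (.op 4 2 (.op 22 0 (.and 2 0 (.dead0 0)))))) (.cons [1, 10] 1 0 (.op 4 0 (.op 34 0 (.op 28 1 (.and 1 0 (.dead0 0))))) (.cons [3, 5] 1 0 (.base (nat_lit 0x420000100048081000000000000200000040008000030308000600020004110041010022000041000000000440c0000000000808000010086000000000000000200080200a0400800002100000000000000000000400408000400000000100000000000080000000000004000000000000400000008200040044040000000080000000000000004000800000000040000000000000000000000002100000008000050000000000802000400100000000000000000080000000008000000000000000000000000000000000000000000000020000000180000000004000)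 (.and 0 3 (.dead0 0))) (.cons [5, 2] 1 0 (.op 10 0 (.op 16 0 (.op 4 2 (.op 22 0 (.and 2 0 (.dead0 0)))))) (.cons [11, 10] 1 0 (.op 10 0 (.op 16 0 (.op 7 2 (.op 22 0 (.and 2 0 (.dead0 0)))))) (.cons [6, 2] 1 0 (.op 34 0 (.op 22 1 (.and 1 0 (.dead0 0)))) (.cons [8, 10] 1 0 (.op 7 0 (.op 22 0 (.op 34 2 (.and 1 0 (.dead0 0))))) (.cons [6, 1] 1 0 (.op 4 0 (.op 34 0 (.op 10 1 (.and 1 0 (.dead0 0))))) (.cons [9, 8] 1 0 (.op 16 0 (.op 22 0 (.op 4 2 (.op 28 0 (.and 2 0 (.dead0 0)))))) (.cons [14, 9] 1 0 (.op 10 0 (.op 22 0 (.op 4 2 (.op 28 0 (.and 2 0 (.dead0 0)))))) (.cons [15, 9] 1 0 (.op 10 0 (.op 22 0 (.op 7 2 (.op 28 0 (.and 2 0 (.dead0 0)))))) (.cons [4, 10] 1 0 (.op 34 0 (.op 28 1 (.and 1 0 (.dead0 0)))) (.cons [8, 1] 1 0 (.op 4 0 (.op 34 0 (.op 10 1 (.and 1 0 (.dead0 0))))) (.cons [2, 6] 1 0 (.op 10 0 (.and 0 5 (.dead0 0))) (.cons [3, 9] 1 0 (.op 4 0 (.op 34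 0 (.op 28 1 (.and 1 0 (.dead0 0))))) (.cons [7, 9] 1 0 (.op 16 0 (.op 22 0 (.op 4 2 (.op 28 0 (.and 2 0 (.dead0 0)))))) (.cons [15, 10] 1 0 (.op 10 0 (.and 0 9 (.dead0 0))) (.cons [3, 1] 1 0 (.op 10 0 (.and 0 5 (.dead0 0))) (.cons [11, 9] 1 0 (.op 10 0 (.op 16 0 (.op 7 2 (.op 28 0 (.and 2 0 (.dead0 0)))))) (.cons [9, 6] 1 0 (.op 16 0 (.op 22 0 (.op 4 2 (.op 28 0 (.and 2 0 (.dead0 0)))))) (.cons [10, 8] 1 0 (.op 16 0 (.and 0 11 (.dead0 0))) (.cons [5, 1] 1 0 (.op 4 0 (.op 34 0 (.op 10 1 (.and 1 0 (.dead0 0))))) (.cons [7, 5] 1 0 (.base (nat_lit 0x420000100048081000000000000200000040008000030308000600020004110041010022000041000000000440c0000000000808000010086000000000000000200080200a0400800002100000000000000000000400408000400000000100000000000080000000000004000000000000400000008200040044040000000080000000000000004000800000000040000000000000000000000002100000008000050000000000802000400100000000000000000080000000008000000000000000000000000000000000000000000000020000000180000000004000)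 (.and 0 3 (.dead0 0))) (.cons [9, 4] 1 0 (.op 16 0 (.op 22 0 (.op 4 2 (.op 28 0 (.and 2 0 (.dead0 0)))))) (.cons [10, 4] 1 0 (.op 16 0 (.and 0 11 (.dead0 0))) (.cons [8, 3] 1 0 (.base (nat_lit 0x420000100048081000000000000200000040008000030308000600020004110041010022000041000000000440c0000000000808000010086000000000000000200080200a0400800002100000000000000000000400408000400000000100000000000080000000000004000000000000400000008200040044040000000080000000000000004000800000000040000000000000000000000002100000008000050000000000802000400100000000000000000080000000008000000000000000000000000000000000000000000000020000000180000000004000) (.and 0 3 (.dead0 0))) (.cons [2, 10] 1 0 (.op 16 0 (.op 22 0 (.op 10 2 (.op 28 0 (.and 2 0 (.dead0 0)))))) (.cons [3, 10] 1 0 (.op 16 0 (.op 22 0 (.op 7 2 (.op 28 0 (.and 2 0 (.dead0 0)))))) (.cons [5, 10] 1 0 (.op 4 0 (.op 16 0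 (.op 34 2 (.and 1 0 (.dead0 0))))) (.cons [4, 1] 1 0 (.op 10 0 (.op 16 0 (.op 4 2 (.op 22 0 (.and 2 0 (.dead0 0)))))) (.cons [9, 2] 1 0 (.op 10 0 (.op 16 0 (.op 4 2 (.op 22 0 (.and 2 0 (.dead0 0)))))) (.cons [8, 9] 1 0 (.op 16 0 (.op 22 0 (.op 4 2 (.op 28 0 (.and 2 0 (.dead0 0)))))) (.cons [10, 7] 1 0 (.op 16 0 (.and 0 11 (.dead0 0))) (.cons [9, 1] 1 0 (.op 34 0 (.op 7 1 (.and 1 0 (.dead0 0)))) Tq_18))))))))))))))))))))))))))))))))))))))))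
noncomputable def Tq : Tr := (.base (nat_lit 0x3fdffffafffffffdfbfbffffffffffffffffff7ffffffffffffffffffffff7ffffffffffffffffffffffffffffffffffffffffffffffffffffffffffffffffffffffffffffffffffffffffffffffffffffffffffffffffffffffffffffffffffffffffffffffffffffffffffffffffffffffffffffffffffffffffffffffffffffffffffffffffffffffffffff9fffffffffffffffffcfffffffffffeffffffffedffffffcfffbeffefffc2ffdffffffffdffffffffffffffffdffffffff9ffffffcfffffbf7f8fffffbffffcf9f9ffffffff9f3effffff3efffff7ffffffe) (.focus 0 (.op 2 0 (.op 11 0 (.xor 1 0 (.focus 0 (.op 14 0 (.xor 3 0 (.focus 0 (.op 17 0 (.xor 5 0 (.focus 0 (.op 20 0 (.xor 7 0 (.focus 0 (.op 23 0 (.xor 9 0 (.focus 0 (.sym [[1]] (.cons [] 1 1 (.base (nat_lit 0x1000040000000000000010080000002040000000000000000000000000000000000000000000010000000000000000000040000000020000000000000000000000000000000000000000600000200000000000000000040000000005800000000000000022000000000000050000100000000000000000010000000000002000080000000080000000000001000000010000000000a0000000000400000000010100000000000000000000000000000000000000000000000000000000000000000000000000000000000000000000000000000000000000000)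 (.op 4 0 (.focus 0 (.base (nat_lit 0xc0004028000000200100028000000020800300000000000000000000000000090000040010000201000008a000040020000000000004000840000200480010000000000000002000100200000200000008c20000000000c04000008020000800001801000002490402020000b09000000000802000c0000002101000020001000400140040204200000040804000000044010000000080450608000004000100000a80400000800000080141c00104800110100040000103d10080011001060010240622004410841840280129420862000003000e001010800080300) (.op 22 0 (.focus 0 (.focus 13 (.focus 11 (.op 16 1 (.xor 16 0 (.focus 0 (.cons [] 0 1 (.focus 2 (.base (nat_lit 0x1000000000000080000000000000000000000000000000000000000000000000010) (.focus 0 (.cons [] 0 1 .triv .nil)))) (.cons [1, 4, 5, 2] 0 0 (.op 4 0 (.op 34 0 (.op 22 1 (.and 1 0 (.dead0 0))))) .nil))))))))))))) (.cons [2] 1 0 (.op 10 0 (.and 0 5 (.dead0 0))) (.cons [3] 1 0 (.base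 (nat_lit 0x20098000000004000020600088000020024020000000000010000000800000002000000000000220000400840000100000040040b2000000000000000000000000000000000000001000040002000000008000000704000012200002012400040000800000000004000108801008000200030100900850200000100800820800820000080000400010802004801000000220080800010c00100200004000000c204000300000008100080000004082000012a04028c42011024c820013a10201088044080890080008000822000000021808001022812c1020007001000430) (.op 4 0 (.and 6 0 (.base (nat_lit 0x40000c00000000000000001000200000000000000000000200000000000000000000000000000000008000000000000000000210040000000000000000000000000000200000040000000000000110000000000000000000840000000000000000000000000000000000100000000000000002000000010400000000000000000040080000000000000000000000100040000008a0000000100000200000080000040000000000020000000000000000000000000000000000000000000000000000000000000000000000000000000000000000000000000000000000000)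 (.op 10 0 (.and 2 0 (.dead0 0))))))) (.cons [1] 1 0 (.op 4 0 (.op 34 0 (.op 10 1 (.and 1 0 (.dead0 0))))) (.cons [5] 1 0 (.base (nat_lit 0x20098000000004000020600088000020024020000000000010000000800000002000000000000220000400840000100000040040b2000000000000000000000000000000000000001000040002000000008000000704000012200002012400040000800000000004000108801008000200030100900850200000100800820800820000080000400010802004801000000220080800010c00100200004000000c204000300000008100080000004082000012a04028c42011024c820013a10201088044080890080008000822000000021808001022812c1020007001000430) (.op 4 0 (.and 10 0 (.base (nat_lit 0x40000c00000000000000001000200000000000000000000200000000000000000000000000000000008000000000000000000210040000000000000000000000000000200000040000000000000110000000000000000000840000000000000000000000000000000000100000000000000002000000010400000000000000000040080000000000000000000000100040000008a0000000100000200000080000040000000000020000000000000000000000000000000000000000000000000000000000000000000000000000000000000000000000000000000000000)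 (.op 10 0 (.and 2 0 (.dead0 0))))))) (.cons [8] 1 0 (.base (nat_lit 0x420000100048081000000000000200000040008000030308000600020004110041010022000041000000000440c0000000000808000010086000000000000000200080200a0400800002100000000000000000000400408000400000000100000000000080000000000004000000000000400000008200040044040000000080000000000000004000800000000040000000000000000000000002100000008000050000000000802000400100000000000000000080000000008000000000000000000000000000000000000000000000020000000180000000004000) (.and 0 3 (.dead0 0))) (.cons [4] 1 0 (.base (nat_lit 0x420000100048081000000000000200000040008000030308000600020004110041010022000041000000000440c0000000000808000010086000000000000000200080200a0400800002100000000000000000000400408000400000000100000000000080000000000004000000000000400000008200040044040000000080000000000000004000800000000040000000000000000000000002100000008000050000000000802000400100000000000000000080000000008000000000000000000000000000000000000000000000020000000180000000004000)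 (.and 0 3 (.dead0 0))) (.cons [7] 1 0 (.base (nat_lit 0x420000100048081000000000000200000040008000030308000600020004110041010022000041000000000440c0000000000808000010086000000000000000200080200a0400800002100000000000000000000400408000400000000100000000000080000000000004000000000000400000008200040044040000000080000000000000004000800000000040000000000000000000000002100000008000050000000000802000400100000000000000000080000000008000000000000000000000000000000000000000000000020000000180000000004000) (.and 0 3 (.dead0 0))) (.cons [9] 1 0 (.op 16 0 (.op 22 0 (.op 4 2 (.op 28 0 (.and 2 0 (.dead0 0)))))) (.cons [10] 1 0 (.op 16 0 (.and 0 11 (.dead0 0))) (.cons [11, 8] 1 0 (.base (nat_lit 0x20098000000004000020600088000020024020000000000010000000800000002000000000000220000400840000100000040040b2000000000000000000000000000000000000001000040002000000008000000704000012200002012400040000800000000004000108801008000200030100900850200000100800820800820000080000400010802004801000000220080800010c00100200004000000c204000300000008100080000004082000012a04028c42011024c820013a10201088044080890080008000822000000021808001022812c1020007001000430)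 (.op 4 0 (.and 10 0 (.base (nat_lit 0x40000c00000000000000001000200000000000000000000200000000000000000000000000000000008000000000000000000210040000000000000000000000000000200000040000000000000110000000000000000000840000000000000000000000000000000000100000000000000002000000010400000000000000000040080000000000000000000000100040000008a0000000100000200000080000040000000000020000000000000000000000000000000000000000000000000000000000000000000000000000000000000000000000000000000000000) (.op 10 0 (.and 2 0 (.dead0 0))))))) (.cons [8, 5] 1 0 (.base (nat_lit 0x20098000000004000020600088000020024020000000000010000000800000002000000000000220000400840000100000040040b2000000000000000000000000000000000000001000040002000000008000000704000012200002012400040000800000000004000108801008000200030100900850200000100800820800820000080000400010802004801000000220080800010c00100200004000000c204000300000008100080000004082000012a04028c42011024c820013a10201088044080890080008000822000000021808001022812c1020007001000430)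 (.op 4 0 (.and 8 0 (.base (nat_lit 0x40000c00000000000000001000200000000000000000000200000000000000000000000000000000008000000000000000000210040000000000000000000000000000200000040000000000000110000000000000000000840000000000000000000000000000000000100000000000000002000000010400000000000000000040080000000000000000000000100040000008a0000000100000200000080000040000000000020000000000000000000000000000000000000000000000000000000000000000000000000000000000000000000000000000000000000) (.op 10 0 (.and 2 0 (.dead0 0))))))) (.cons [11, 2] 1 0 (.op 34 0 (.op 22 1 (.and 1 0 (.dead0 0)))) (.cons [16, 1] 1 0 (.op 34 0 (.op 28 1 (.and 1 0 (.dead0 0)))) (.cons [12, 9] 1 0 (.op 34 0 (.op 22 1 (.and 1 0 (.dead0 0)))) (.cons [14, 2] 1 0 (.op 10 0 (.and 0 5 (.dead0 0))) (.cons [12, 6] 1 0 (.base (nat_lit 0x20098000000004000020600088000020024020000000000010000000800000002000000000000220000400840000100000040040b2000000000000000000000000000000000000001000040002000000008000000704000012200002012400040000800000000004000108801008000200030100900850200000100800820800820000080000400010802004801000000220080800010c00100200004000000c204000300000008100080000004082000012a04028c42011024c820013a10201088044080890080008000822000000021808001022812c1020007001000430)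 (.op 4 0 (.and 10 0 (.base (nat_lit 0x40000c00000000000000001000200000000000000000000200000000000000000000000000000000008000000000000000000210040000000000000000000000000000200000040000000000000110000000000000000000840000000000000000000000000000000000100000000000000002000000010400000000000000000040080000000000000000000000100040000008a0000000100000200000080000040000000000020000000000000000000000000000000000000000000000000000000000000000000000000000000000000000000000000000000000000) (.op 10 0 (.and 2 0 (.dead0 0))))))) (.cons [12, 10] 1 0 (.op 34 0 (.op 10 1 (.and 1 0 (.dead0 0)))) (.cons [12, 5] 1 0 (.base (nat_lit 0x20098000000004000020600088000020024020000000000010000000800000002000000000000220000400840000100000040040b2000000000000000000000000000000000000001000040002000000008000000704000012200002012400040000800000000004000108801008000200030100900850200000100800820800820000080000400010802004801000000220080800010c00100200004000000c204000300000008100080000004082000012a04028c42011024c820013a10201088044080890080008000822000000021808001022812c1020007001000430)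 (.op 4 0 (.and 8 0 (.base (nat_lit 0x40000c00000000000000001000200000000000000000000200000000000000000000000000000000008000000000000000000210040000000000000000000000000000200000040000000000000110000000000000000000840000000000000000000000000000000000100000000000000002000000010400000000000000000040080000000000000000000000100040000008a0000000100000200000080000040000000000020000000000000000000000000000000000000000000000000000000000000000000000000000000000000000000000000000000000000) (.op 10 0 (.and 2 0 (.dead0 0))))))) (.cons [2, 5] 1 0 (.op 10 0 (.and 0 5 (.dead0 0))) (.cons [10, 1] 1 0 (.op 16 0 (.op 22 0 (.op 10 2 (.op 28 0 (.and 2 0 (.dead0 0)))))) (.cons [1, 5] 1 0 (.op 4 0 (.op 34 0 (.op 10 1 (.and 1 0 (.dead0 0))))) (.cons [4, 2] 1 0 (.op 4 0 (.op 34 0 (.op 10 1 (.and 1 0 (.dead0 0))))) (.cons [14, 1] 1 0 (.op 34 0 (.op 16 1 (.and 1 0 (.dead0 0)))) Tq_19)))))))))))))))))))))))))))))))))))))))))))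
noncomputable def TqK : List (List Nat) := [[1]]
noncomputable def TqF : List (List Nat) := [[], [1], [1, 1], [3], [5], [7], [9], [11], [13]]
noncomputable def Dq : CD := ⟨cH, TqF, TqK, Tq⟩
noncomputable def Ta : Tr := (.sym [[1], [3], [5], [7], [9]] (.cons [] 5 61440 (.base (nat_lit 0x1fffffffffffffffffffffffffffffffffffffffffffffffffffffffffffffffffffffffffffffffffffffffffffffffffffffffe) (.focus 0 (.sym [[1], [11], [13]] (.cons [] 5 192 (.focus 1 (.op 4 0 (.focus 0 (.cons [] 0 192 (.focus 3 (.base (nat_lit 0x1d805087e001b9aa38143c00c210392be3013a200d23a83070850fbe023978d0a0a83e601b8d181323444e22afc62d279928180c8) (.focus 0 (.sym [[1], [15], [17]] (.cons [] 4 3 (.focus 5 (.base (nat_lit 0x10000000000000c0000000000000000000000000000000000000000000000000010) (.focus 0 (.op 2 0 (.op 4 1 (.xor 1 0 (.focus 0 (.sym [[19]] (.cons [] 2 1 (.focus 10 (.base (nat_lit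 0x20000000000000000000000000000000000000000000000000000000002000000000000000000000000000000020) (.focus 0 (.op 4 0 (.xor 5 0 (.focus 0 (.cons [] 0 1 .triv .nil))))))) .nil))))))))) (.cons [3] 4 0 (.focus 5 (.base (nat_lit 0x10000000000000c0000000000000000000000000000000000000000000000000010) (.focus 0 (.op 2 0 (.op 4 1 (.xor 1 0 (.focus 0 (.sym [[21]] (.cons [] 2 0 (.focus 10 (.base (nat_lit 0x20000000000000000000000000000000000000000000000000000000002000000000000000000000000000000020) (.focus 0 (.op 4 0 (.xor 5 0 (.focus 0 (.cons [] 0 0 (.base (nat_lit 128) (.op 4 10 (.and 1 0 (.dead0 0)))) .nil))))))) .nil))))))))) (.cons [8, 4] 2 0 (.base (nat_lit 0x10000000000000c0000000000000000000000000000000000000000000000000010) (.op 5 0 (.and 1 0 (.dead 0)))) (.cons [5, 3] 2 0 (.op 5 0 (.and 1 0 (.dead0 0))) .nil)))))))) .nil)))) (.cons [3, 11] 4 0 (.base (nat_lit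 0x1ffa5de7ffa5fbff3adebe4ffffd7f7ff3197bed3fe7edbef6870ffe9f7f7cfae7b9bfefffddf8ff7ffedff6ffee6df7fd2b9c2ec) (.op 5 0 (.and 1 0 (.dead 0)))) (.cons [16, 7] 3 0 (.op 5 0 (.and 1 0 (.dead0 0))) (.cons [19, 16, 11] 4 0 (.base (nat_lit 0x1ffa5de7ffa5fbff3adebe4ffffd7f7ff3197bed3fe7edbef6870ffe9f7f7cfae7b9bfefffddf8ff7ffedff6ffee6df7fd2b9c2ec) (.op 5 0 (.and 1 0 (.dead 0)))) .nil))))))) (.cons [11, 1] 5 0 (.op 5 0 (.and 1 0 (.dead0 0))) .nil)))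
noncomputable def TaK : List (List Nat) := [[23, 21, 15, 19, 26], [21, 13, 21, 13, 24, 15, 19, 26], [15, 13, 23, 17, 13, 11, 1, 22, 17, 15, 17, 19, 19, 15, 19, 23, 25], [18, 18, 9, 17, 23, 22, 15, 18, 23, 21, 15, 19, 23, 26], [17, 9, 18, 13, 23, 13, 19, 11, 9, 19, 23, 21, 19, 22, 24, 25], [18, 18, 9, 17, 23, 22, 15, 18, 21, 23, 20, 24, 20, 25], [7, 18, 11, 15, 22, 17, 15, 17, 24, 19, 24, 15, 19, 23], [19, 19, 15, 19, 24, 26], [15, 21, 19, 26], [22, 24], [19, 23, 20, 24]]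
noncomputable def TaF : List (List Nat) := [[], [1]]
noncomputable def Da : CD := ⟨Suz.C, TaF, TaK, Ta⟩
noncomputable def sT : List (List Nat) := [[(nat_lit 13)],
  [(nat_lit 23)],
  [(nat_lit 25)],
  [(nat_lit 15)],
  [(nat_lit 17)],
  [(nat_lit 19)],
  [(nat_lit 21)],
  [(nat_lit 5)],
  [(nat_lit 7)],
  [(nat_lit 9)],
  [(nat_lit 11)],
  [(nat_lit 3)],
  [(nat_lit 1)]]
noncomputable def cT : List Lvl := [⟨(nat_lit 420), [[(nat_lit 1)],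
  [(nat_lit 3)],
  [(nat_lit 11)],
  [(nat_lit 9)],
  [(nat_lit 7)],
  [(nat_lit 5)],
  [(nat_lit 21)],
  [(nat_lit 19)],
  [(nat_lit 17)],
  [(nat_lit 15)],
  [(nat_lit 25)],
  [(nat_lit 23)],
  [(nat_lit 13)]], (nat_lit 1)⟩,
  ⟨(nat_lit 1), [[(nat_lit 65)],
  [(nat_lit 99)],
  [(nat_lit 101)]], (nat_lit 1)⟩]
noncomputable def kT : List (List Nat × List (List Nat)) := [([23], [[23, 21, 17, 13, 1], [23, 19, 17, 15, 13, 3], [21, 19, 15, 13, 5], [21, 19, 13, 7], [21, 19, 17, 13, 9], [23, 21, 17, 13, 11], [13], [15], [17], [19], [23, 21], [23]]), ([21, 19, 17, 11, 5, 3], [[19, 15, 13, 11, 3, 1], [3], [21, 19, 5], [21, 7, 3], [9, 5, 3], [21, 17], [21, 13], [21, 17, 15, 13, 11], [21, 19, 11], [19], [21]]), ([19, 7, 3, 1], [[19, 17, 3], [19, 1], [19, 7, 5, 3, 1], [17, 7], [17, 13], [19, 17, 11], [17, 9], [15, 13, 11, 9], [17], [19]]), ([15], [[1], [15, 3], [15, 5],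 [7], [9], [17, 15, 11], [13], [15], [17]]), ([13], [[1], [13, 3], [15, 13, 5], [7], [9], [15, 13, 11], [13], [15]]), ([11], [[1], [3], [13, 11, 5], [7], [9], [11], [13]]), ([9], [[11, 9, 1], [3], [11, 9, 5], [7], [9], [11]]), ([], [[9, 1], [9, 3], [9, 5], [7], [9]]), ([], [[7, 1], [7, 3], [5], [7]]), ([], [[5, 1], [3], [5]]), ([], [[1], [3]]), ([], [[1]]), ([], [])]
noncomputable def uT : List (List Nat) := [[(nat_lit 25)],
  [(nat_lit 23)],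
  [(nat_lit 21)],
  [(nat_lit 19)],
  [(nat_lit 17)],
  [(nat_lit 15)],
  [(nat_lit 13)],
  [(nat_lit 11)],
  [(nat_lit 9)],
  [(nat_lit 7)],
  [(nat_lit 5)],
  [(nat_lit 3)],
  [(nat_lit 1)],
  [(nat_lit 23), (nat_lit 21), (nat_lit 19), (nat_lit 17), (nat_lit 15), (nat_lit 1)],
  [(nat_lit 23), (nat_lit 17), (nat_lit 13), (nat_lit 11), (nat_lit 5)],
  [(nat_lit 25), (nat_lit 23), (nat_lit 21), (nat_lit 13), (nat_lit 7), (nat_lit 3)]]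
noncomputable def PT : PD := ⟨sT, kT, cT, uT⟩
noncomputable def sQ : List (List Nat) := [[(nat_lit 13)],
  [(nat_lit 5)],
  [(nat_lit 7)],
  [(nat_lit 9)],
  [(nat_lit 11)],
  [(nat_lit 3)],
  [(nat_lit 1)]]
noncomputable def cQ : List Lvl := [⟨(nat_lit 7), [[(nat_lit 1)],
  [(nat_lit 3)],
  [(nat_lit 11)],
  [(nat_lit 9)],
  [(nat_lit 7)],
  [(nat_lit 5)],
  [(nat_lit 13)]], (nat_lit 1)⟩,
  ⟨(nat_lit 1), [[(nat_lit 103)]], (nat_lit 1)⟩]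
noncomputable def kQ : List (List Nat × List (List Nat)) := [([11], [[1], [3], [5], [7], [11, 9], [11]]), ([], [[9, 1], [9, 3], [9, 5], [7], [9]]), ([], [[7, 1], [7, 3], [5], [7]]), ([], [[5, 1], [3], [5]]), ([], [[1], [3]]), ([], [[1]]), ([], [])]
noncomputable def uQ : List (List Nat) := [[(nat_lit 13)],
  [(nat_lit 11)],
  [(nat_lit 9)],
  [(nat_lit 7)],
  [(nat_lit 5)],
  [(nat_lit 3)],
  [(nat_lit 1)],
  [(nat_lit 13), (nat_lit 9), (nat_lit 7), (nat_lit 5), (nat_lit 3)]]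
noncomputable def PQ : PD := ⟨sQ, kQ, cQ, uQ⟩
noncomputable def sP : List (List Nat) := [[(nat_lit 15)],
  [(nat_lit 17)],
  [(nat_lit 19)],
  [(nat_lit 21)],
  [(nat_lit 3)],
  [(nat_lit 1)]]
noncomputable def cP : List Lvl := [⟨(nat_lit 420), [[(nat_lit 1)],
  [(nat_lit 3)],
  [(nat_lit 21)],
  [(nat_lit 19)],
  [(nat_lit 17)],
  [(nat_lit 15)]], (nat_lit 1)⟩]
noncomputable def kP : List (List Nat × List (List Nat)) := [([7], [[1], [7, 3], [7, 5], [7], [9]]), ([5], [[1], [5, 3], [5], [7]]), ([3], [[1], [3], [5]]), ([1], [[1], [3]]), ([], [[1]]), ([], [])]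
noncomputable def uP : List (List Nat) := [[(nat_lit 11)],
  [(nat_lit 9)],
  [(nat_lit 7)],
  [(nat_lit 5)],
  [(nat_lit 3)],
  [(nat_lit 1)]]
noncomputable def PP : PD := ⟨sP, kP, cP, uP⟩
noncomputable def FT : FD := ⟨1000000007, (.node 507783603 (.node 252015057 (.node 124353078 (.node 64283162 (.node 42899111 (.node 23633238 (.node 13439188 (.node 5432251 (.node 4801418 (.leaf ⟨2530447, [33, 32, 38, 33], 2⟩) (.leaf ⟨4801418, [35, 34, 40, 31, 34, 36, 39, 38], 2⟩)) (.node 11784878 (.leaf ⟨5432251, [32, 36, 32, 40, 34, 36, 32, 39, 38], 2⟩) (.leaf ⟨11784878, [36, 32, 37, 39, 32, 35, 40, 38], 2⟩))) (.node 17550944 (.node 15565766 (.leaf ⟨13439188, [36, 32, 40, 34, 36, 39, 38], 2⟩) (.leaf ⟨15565766, [39, 36], 1⟩)) (.node 17632690 (.leaf ⟨17550944, [37, 39, 32, 36, 33], 1⟩) (.node 21239602 (.leaf ⟨17632690, [36, 33, 39, 31, 35, 40, 38], 2⟩) (.leaf ⟨21239602, [35,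 34, 31, 39, 38, 33, 39, 38], 2⟩))))) (.node 31196563 (.node 26774018 (.node 24225837 (.leaf ⟨23633238, [38, 40, 35, 31], 2⟩) (.leaf ⟨24225837, [39, 33, 32, 38], 2⟩)) (.node 26820945 (.leaf ⟨26774018, [38, 35, 32], 2⟩) (.node 28790289 (.leaf ⟨26820945, [36, 31, 40, 36, 31, 35, 40, 38], 2⟩) (.leaf ⟨28790289, [36, 39, 34, 32, 39, 37], 3⟩)))) (.node 38543834 (.node 33681981 (.leaf ⟨31196563, [40], 1⟩) (.leaf ⟨33681981, [32, 36, 32, 37, 39, 37, 33], 2⟩)) (.node 42110054 (.leaf ⟨38543834, [38, 36], 2⟩) (.node 42615482 (.leaf ⟨42110054, [38, 31, 40, 31], 2⟩) (.leaf ⟨42615482, [31, 39, 38], 2⟩)))))) (.node 50636966 (.node 46845641 (.node 43379649 (.node 42994607 (.leaf ⟨42899111, [32, 36, 33, 39, 31, 37, 39], 2⟩) (.leaf ⟨42994607, [36, 39, 38], 1⟩)) (.node 44152144 (.leaf ⟨43379649, [32, 36, 33, 39, 38, 31, 40, 33, 38], 2⟩) (.node 44398505 (.leaf ⟨44152144, [37, 39,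 32, 36, 39], 1⟩) (.leaf ⟨44398505, [36, 32, 39, 32, 35, 40, 34, 38], 2⟩)))) (.node 47874385 (.node 47450202 (.leaf ⟨46845641, [35, 32, 40, 31, 39], 3⟩) (.leaf ⟨47450202, [37, 34, 39, 31, 36, 39, 38], 2⟩)) (.node 47882858 (.leaf ⟨47874385, [34, 36, 39, 32, 36], 3⟩) (.node 48740269 (.leaf ⟨47882858, [36, 32, 33, 39, 36, 32, 40, 38], 2⟩) (.leaf ⟨48740269, [36, 40, 34], 1⟩))))) (.node 57612385 (.node 53427952 (.node 51452850 (.leaf ⟨50636966, [32, 36, 32, 39, 32, 36, 39, 32, 38], 2⟩) (.leaf ⟨51452850, [31, 39, 32, 38], 2⟩)) (.node 53984547 (.leaf ⟨53427952, [32, 36, 33, 40, 35, 31, 40, 38], 2⟩) (.node 55014226 (.leaf ⟨53984547, [36, 31, 39, 31, 35, 40, 38], 2⟩) (.leaf ⟨55014226, [32, 34, 36, 32, 39, 32, 37, 34], 2⟩)))) (.node 60632133 (.node 58862669 (.leaf ⟨57612385, [37, 40], 1⟩) (.leaf ⟨58862669, [32, 36, 38, 33, 39, 31, 37, 34], 2⟩)) (.node 63660369 (.leaf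 ⟨60632133, [34, 38, 31, 40], 2⟩) (.node 63976585 (.leaf ⟨63660369, [36, 31, 37, 39, 31, 39, 37, 34], 2⟩) (.leaf ⟨63976585, [36, 39, 32, 37], 1⟩))))))) (.node 91706138 (.node 80336564 (.node 67628574 (.node 67325025 (.node 64324450 (.leaf ⟨64283162, [38, 40, 36, 37], 3⟩) (.leaf ⟨64324450, [40, 34, 38, 31], 2⟩)) (.node 67506148 (.leaf ⟨67325025, [35, 34, 39, 31, 37, 34], 2⟩) (.leaf ⟨67506148, [32, 34, 36, 32, 38, 39, 37, 33], 2⟩))) (.node 72411416 (.node 71069835 (.leaf ⟨67628574, [37, 39], 1⟩) (.leaf ⟨71069835, [35, 32, 40, 32, 40, 37, 33, 32], 2⟩)) (.node 79801136 (.leaf ⟨72411416, [32, 36, 32, 40, 34, 37, 36, 32], 2⟩) (.node 80278421 (.leaf ⟨79801136, [37, 39, 32, 36, 33, 39], 1⟩) (.leaf ⟨80278421, [32, 36, 32, 39, 32, 38, 40, 33, 38], 2⟩))))) (.node 88777543 (.node 81478525 (.node 81475032 (.leaf ⟨80336564, [32, 36, 32, 40, 34, 37, 40, 32, 40], 2⟩) (.leaf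 ⟨81475032, [36, 32, 40, 34, 35, 40, 34, 38, 31], 2⟩)) (.node 82856122 (.leaf ⟨81478525, [32, 36, 32, 39, 32, 37, 36], 2⟩) (.node 86359904 (.leaf ⟨82856122, [34, 36, 32, 39, 38, 33, 39, 38], 2⟩) (.leaf ⟨86359904, [35, 40, 32, 40], 3⟩)))) (.node 90297247 (.node 89538345 (.leaf ⟨88777543, [35, 34, 31, 40, 34, 36, 37], 2⟩) (.leaf ⟨89538345, [32, 36, 33, 39, 32, 37, 40, 33], 2⟩)) (.node 91176167 (.leaf ⟨90297247, [36, 32, 38, 39, 32, 37, 36], 2⟩) (.node 91493537 (.leaf ⟨91176167, [32, 36, 32, 40, 34, 36, 31, 39, 38], 2⟩) (.leaf ⟨91493537, [32, 38, 33], 2⟩)))))) (.node 106403500 (.node 98995820 (.node 95125822 (.node 92446346 (.leaf ⟨91706138, [34, 36, 39, 33], 3⟩) (.leaf ⟨92446346, [36, 40, 34, 38, 40], 1⟩)) (.node 96229280 (.leaf ⟨95125822, [35, 40, 32, 40, 36, 38, 33], 2⟩) (.node 98876323 (.leaf ⟨96229280, [32, 34, 35, 34, 39, 31, 35, 40, 38], 2⟩) (.leaf ⟨98876323,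 [38, 35], 2⟩)))) (.node 101205150 (.node 100694181 (.leaf ⟨98995820, [32, 36, 39, 32, 34, 37, 39], 2⟩) (.leaf ⟨100694181, [34, 35, 34, 39, 31, 36, 37], 2⟩)) (.node 101848753 (.leaf ⟨101205150, [36, 32, 40, 34, 36, 38, 40, 31], 2⟩) (.node 105379686 (.leaf ⟨101848753, [36, 32, 39, 36, 33, 37, 39, 37], 2⟩) (.leaf ⟨105379686, [40, 32], 1⟩))))) (.node 118261798 (.node 115252504 (.node 111617869 (.leaf ⟨106403500, [34, 37, 34, 39, 31, 36, 39, 38], 2⟩) (.leaf ⟨111617869, [36, 31, 36, 39, 36, 31, 40, 38, 31], 2⟩)) (.node 116532837 (.leaf ⟨115252504, [32, 36, 33, 38, 39, 31, 37, 39], 2⟩) (.node 116849967 (.leaf ⟨116532837, [36, 39, 32, 34, 35, 40, 38], 2⟩) (.leaf ⟨116849967, [36, 32, 39, 33, 36, 39, 32, 33, 38], 2⟩)))) (.node 120014404 (.node 118288789 (.leaf ⟨118261798, [36, 32, 39, 36, 32, 40, 36, 38], 2⟩) (.leaf ⟨118288789, [34, 36, 32, 39], 3⟩)) (.node 120529078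 (.leaf ⟨120014404, [32, 36, 32, 39, 32, 37, 40, 31, 35], 2⟩) (.node 121165679 (.leaf ⟨120529078, [34, 36, 39, 32, 34], 3⟩) (.leaf ⟨121165679, [36, 33, 39, 32, 37, 33], 2⟩)))))))) (.node 188939612 (.node 149605980 (.node 132956895 (.node 129244776 (.node 126754586 (.node 125229392 (.leaf ⟨124353078, [36, 32, 40, 31, 39, 37], 3⟩) (.leaf ⟨125229392, [32, 34, 36, 32, 39, 36, 33, 38, 40], 2⟩)) (.node 128927484 (.leaf ⟨126754586, [36, 31, 39, 31, 36, 37], 2⟩) (.leaf ⟨128927484, [34, 36, 31, 40, 36, 31, 37, 39], 2⟩))) (.node 130339620 (.node 129685654 (.leaf ⟨129244776, [35, 34, 39, 31, 40, 36, 37], 2⟩) (.leaf ⟨129685654, [37, 34, 39, 31, 35, 40, 38], 2⟩)) (.node 130946264 (.leaf ⟨130339620, [32, 36, 38, 33, 39, 32, 37, 40, 33], 2⟩) (.node 131638401 (.leaf ⟨130946264, [36, 39, 32, 34, 37, 34], 2⟩) (.leaf ⟨131638401, [36, 32, 39, 36, 32, 40, 36, 33, 38], 2⟩))))) (.node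 139200189 (.node 134640408 (.node 133636078 (.leaf ⟨132956895, [34, 36, 31, 40, 35, 31, 40, 38], 2⟩) (.leaf ⟨133636078, [36, 32, 39, 33, 38, 40, 33, 38], 2⟩)) (.node 134951625 (.leaf ⟨134640408, [36, 31, 39, 36, 31, 40, 33, 38], 2⟩) (.node 137056252 (.leaf ⟨134951625, [36, 31, 36, 39, 31, 36, 37], 2⟩) (.leaf ⟨137056252, [32, 36, 32, 39, 32, 35, 40, 38], 2⟩)))) (.node 141271370 (.node 140371669 (.leaf ⟨139200189, [32, 36, 32, 40, 35, 34, 40, 38], 2⟩) (.leaf ⟨140371669, [34, 32, 38, 33], 2⟩)) (.node 146179930 (.leaf ⟨141271370, [36, 32, 38, 33, 39, 38, 34, 40, 38], 2⟩) (.node 149383588 (.leaf ⟨146179930, [32, 39, 32, 40, 38], 2⟩) (.leaf ⟨149383588, [36, 32, 39, 32, 36, 38, 40], 2⟩)))))) (.node 172582190 (.node 156230895 (.node 153147033 (.node 152715583 (.leaf ⟨149605980, [36, 32, 40, 34, 35, 40, 34, 38], 2⟩) (.leaf ⟨152715583, [36, 32, 39, 36, 33, 38, 40, 31],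 2⟩)) (.node 153337482 (.leaf ⟨153147033, [36, 32, 39, 32, 37, 39], 2⟩) (.node 154934660 (.leaf ⟨153337482, [32, 34, 36, 39, 32, 34, 37, 34], 2⟩) (.leaf ⟨154934660, [36, 32, 38, 40, 35, 34, 40, 38], 2⟩)))) (.node 159846632 (.node 158560606 (.leaf ⟨156230895, [32, 36, 39, 32, 34, 36, 39, 38], 2⟩) (.leaf ⟨158560606, [32, 36, 39, 32, 34, 37, 34], 2⟩)) (.node 160116814 (.leaf ⟨159846632, [32, 36, 32, 39, 32, 36, 39, 38], 2⟩) (.node 164821976 (.leaf ⟨160116814, [32, 36, 32, 39, 37, 33, 39, 31, 35], 2⟩) (.leaf ⟨164821976, [36, 32, 38, 39, 38, 33, 39, 38], 2⟩))))) (.node 179094961 (.node 176020543 (.node 173938015 (.leaf ⟨172582190, [36, 32, 39, 36, 34, 40, 38], 2⟩) (.leaf ⟨173938015, [36, 32, 37, 39, 33, 36, 39, 38], 2⟩)) (.node 176955046 (.leaf ⟨176020543, [38, 31, 40], 2⟩) (.node 177494485 (.leaf ⟨176955046, [36, 32, 39, 37, 34, 40, 37], 2⟩) (.leaf ⟨177494485, [37,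 34, 39, 31, 37, 34], 2⟩)))) (.node 180402318 (.node 180235518 (.leaf ⟨179094961, [36, 32, 40, 35, 34, 40, 38, 31], 2⟩) (.leaf ⟨180235518, [36, 32, 40, 34, 35, 40, 38], 2⟩)) (.node 187938150 (.leaf ⟨180402318, [34, 36, 32, 39, 36, 34, 40, 38], 2⟩) (.node 188020984 (.leaf ⟨187938150, [36, 31, 40, 31, 36, 37, 39, 33], 2⟩) (.leaf ⟨188020984, [38, 33, 32, 39, 33], 2⟩))))))) (.node 222129527 (.node 206141899 (.node 193197778 (.node 191344619 (.node 190218127 (.leaf ⟨188939612, [34, 36, 32, 33, 39, 37, 33], 2⟩) (.leaf ⟨190218127, [36, 34, 37], 2⟩)) (.node 192970669 (.leaf ⟨191344619, [36, 32, 38, 39, 33, 38, 40, 34, 38], 2⟩) (.leaf ⟨192970669, [38, 31, 34, 36], 2⟩))) (.node 194868223 (.node 194482204 (.leaf ⟨193197778, [34, 36, 31, 39, 31, 37, 39, 32], 2⟩) (.leaf ⟨194482204, [40, 32, 38, 33], 2⟩)) (.node 197180501 (.leaf ⟨194868223, [34, 32, 38, 40, 32], 2⟩) (.node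 203993524 (.leaf ⟨197180501, [38, 40], 3⟩) (.leaf ⟨203993524, [38, 35, 31], 2⟩))))) (.node 215589350 (.node 210528564 (.node 209970654 (.leaf ⟨206141899, [32, 36, 39, 32, 35, 34, 40, 38], 2⟩) (.leaf ⟨209970654, [36, 32, 39, 33, 37, 40, 31, 35], 2⟩)) (.node 210937119 (.leaf ⟨210528564, [32, 36, 39, 32, 34, 37, 36], 2⟩) (.node 211009353 (.leaf ⟨210937119, [36, 32, 39, 33, 38, 40, 34, 38], 2⟩) (.leaf ⟨211009353, [32, 34, 35, 34, 39, 32, 37, 33], 2⟩)))) (.node 218740495 (.node 218736139 (.leaf ⟨215589350, [40, 38, 31], 2⟩) (.leaf ⟨218736139, [38, 34, 40, 32], 2⟩)) (.node 218791863 (.leaf ⟨218740495, [34, 36, 31, 39, 32, 37, 33], 2⟩) (.node 220784164 (.leaf ⟨218791863, [38, 34, 32], 2⟩) (.leaf ⟨220784164, [34, 36, 31, 39, 31, 37, 40, 34, 37], 2⟩)))))) (.node 233215925 (.node 227042427 (.node 222616000 (.node 222199503 (.leaf ⟨222129527, [32, 36, 33, 39, 36, 31,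 39, 37], 2⟩) (.leaf ⟨222199503, [34, 38, 40, 31, 39], 2⟩)) (.node 223469522 (.leaf ⟨222616000, [36, 32, 38, 33, 39, 36, 33, 38, 40], 2⟩) (.node 225734487 (.leaf ⟨223469522, [36, 32, 37, 39, 32, 36, 39, 38], 2⟩) (.leaf ⟨225734487, [35, 40, 32, 40, 36, 33, 37], 2⟩)))) (.node 229026987 (.node 229026871 (.leaf ⟨227042427, [38, 40, 31, 40], 2⟩) (.leaf ⟨229026871, [36, 32, 38, 39, 33, 36, 39, 32, 38], 2⟩)) (.node 229354910 (.leaf ⟨229026987, [32, 36, 33, 39, 38, 31, 40, 38, 31], 2⟩) (.node 230964203 (.leaf ⟨229354910, [32, 38, 33, 32], 2⟩) (.leaf ⟨230964203, [40, 36, 32, 39, 37, 33], 2⟩))))) (.node 237700312 (.node 233693816 (.node 233479385 (.leaf ⟨233215925, [36, 31, 39, 32, 36, 34, 40, 38], 2⟩) (.leaf ⟨233479385, [36, 40, 34, 38, 40, 31, 35], 1⟩)) (.node 236018590 (.leaf ⟨233693816, [32, 36, 32, 40, 34, 37, 40, 32, 35], 2⟩) (.node 237270349 (.leaf ⟨236018590,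 [36, 31, 39, 31, 39, 37, 34], 2⟩) (.leaf ⟨237270349, [36, 39, 38, 31, 40], 1⟩)))) (.node 239970675 (.node 237971575 (.leaf ⟨237700312, [36, 32, 38, 39, 32, 36, 38, 40], 2⟩) (.leaf ⟨237971575, [38, 34, 40, 31, 36], 2⟩)) (.node 245526310 (.leaf ⟨239970675, [36, 38, 33, 39, 31, 35, 40, 38], 2⟩) (.node 251827583 (.leaf ⟨245526310, [36, 32, 39, 32, 37, 34], 2⟩) (.leaf ⟨251827583, [38, 39, 34, 31], 2⟩))))))))) (.node 374181792 (.node 313123768 (.node 280056727 (.node 262359707 (.node 255885451 (.node 255170307 (.node 254485282 (.leaf ⟨252015057, [36, 39, 38, 31], 1⟩) (.leaf ⟨254485282, [36, 39, 32, 40, 37, 33], 2⟩)) (.node 255273618 (.leaf ⟨255170307, [37, 39, 37], 3⟩) (.leaf ⟨255273618, [36, 32, 40, 35, 34, 40, 38], 2⟩))) (.node 257825361 (.node 257318400 (.leaf ⟨255885451, [34, 38, 40, 32], 2⟩) (.leaf ⟨257318400, [32, 36, 32, 39, 37, 33, 39, 32, 35], 2⟩)) (.node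 258172505 (.leaf ⟨257825361, [34, 37, 34, 39, 31, 36, 37], 2⟩) (.node 260393006 (.leaf ⟨258172505, [36, 32, 37, 39, 33, 36, 39, 32, 38], 2⟩) (.leaf ⟨260393006, [37, 39, 37], 1⟩))))) (.node 273181961 (.node 266365333 (.node 264193225 (.leaf ⟨262359707, [40, 34, 37], 1⟩) (.leaf ⟨264193225, [34], 1⟩)) (.node 268730089 (.leaf ⟨266365333, [37, 39, 32, 36, 33, 39, 37], 1⟩) (.node 271111803 (.leaf ⟨268730089, [34, 35, 34, 39, 31, 35, 40, 38], 2⟩) (.leaf ⟨271111803, [36, 32, 40, 34, 37, 34], 2⟩)))) (.node 275519660 (.node 274733304 (.leaf ⟨273181961, [32, 36, 32, 40, 34, 37, 34, 31], 2⟩) (.leaf ⟨274733304, [32, 36, 32, 39, 38, 33, 39, 32, 38], 2⟩)) (.node 278966647 (.leaf ⟨275519660, [36, 32, 39, 32, 37, 36], 2⟩) (.node 279339222 (.leaf ⟨278966647, [38, 39], 2⟩) (.leaf ⟨279339222, [36, 31, 36, 39, 38, 31, 40, 32, 38], 2⟩)))))) (.node 293055868 (.node 286107576 (.node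 283895195 (.node 280273774 (.leaf ⟨280056727, [32, 34, 36, 32, 38, 39, 32, 37, 36], 2⟩) (.leaf ⟨280273774, [39, 38], 3⟩)) (.node 285056947 (.leaf ⟨283895195, [34, 38, 31, 36, 39], 2⟩) (.node 285099504 (.leaf ⟨285056947, [36, 31, 36, 39, 38, 31, 40, 38], 2⟩) (.leaf ⟨285099504, [32, 36, 32, 40, 35, 32, 40, 38], 2⟩)))) (.node 291340776 (.node 289972763 (.leaf ⟨286107576, [32, 35, 34, 39, 31, 36, 37], 2⟩) (.leaf ⟨289972763, [36, 32, 33, 39, 36, 33, 39, 38, 31], 2⟩)) (.node 291662941 (.leaf ⟨291340776, [36, 32, 33, 39, 37, 34, 40, 31, 35], 2⟩) (.node 291731969 (.leaf ⟨291662941, [36, 31, 39, 31, 37, 40, 34, 37], 2⟩) (.leaf ⟨291731969, [36, 39, 32, 36, 32, 35, 40, 38], 2⟩))))) (.node 305615377 (.node 297178128 (.node 294992956 (.leaf ⟨293055868, [36, 31, 40, 35, 31, 40, 38], 2⟩) (.leaf ⟨294992956, [36, 38, 31, 39, 31, 36, 39, 38], 2⟩)) (.node 301270797 (.leaf ⟨297178128,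 [39, 38, 31], 2⟩) (.node 305569363 (.leaf ⟨301270797, [32, 36, 32, 39, 38, 33, 39, 38, 31], 2⟩) (.leaf ⟨305569363, [36, 32, 39, 37, 33, 39, 32, 35], 2⟩)))) (.node 307285727 (.node 306159635 (.leaf ⟨305615377, [36, 32, 38, 39, 33, 36, 38, 40], 2⟩) (.leaf ⟨306159635, [34, 38, 31, 34, 40], 2⟩)) (.node 309524085 (.leaf ⟨307285727, [36, 32, 40, 34, 36, 37], 2⟩) (.node 310740752 (.leaf ⟨309524085, [36, 31, 39, 31, 35, 40, 34, 38], 2⟩) (.leaf ⟨310740752, [], 3⟩))))))) (.node 344646258 (.node 323850918 (.node 315254761 (.node 314323741 (.node 314189909 (.leaf ⟨313123768, [40, 34], 3⟩) (.leaf ⟨314189909, [37, 34, 39, 31, 37, 39], 2⟩)) (.node 314516407 (.leaf ⟨314323741, [32, 34, 35, 34, 39, 38, 31, 40, 38], 2⟩) (.leaf ⟨314516407, [34, 36, 31, 39, 31, 37, 39], 2⟩))) (.node 317950707 (.node 315578468 (.leaf ⟨315254761, [36, 31, 40, 38, 35, 31, 40, 38], 2⟩) (.leaf ⟨315578468,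 [34, 36, 32, 39, 33, 36], 3⟩)) (.node 319660441 (.leaf ⟨317950707, [34, 36, 32, 39, 38, 33, 37], 2⟩) (.node 320906787 (.leaf ⟨319660441, [36, 31, 39, 31, 40, 37, 34], 2⟩) (.leaf ⟨320906787, [36, 39, 32], 1⟩))))) (.node 341006917 (.node 333066086 (.node 332278403 (.leaf ⟨323850918, [36, 31, 39, 36, 31, 40, 35, 38], 2⟩) (.leaf ⟨332278403, [36, 32, 38, 40, 34, 36, 38, 40], 2⟩)) (.node 333530228 (.leaf ⟨333066086, [38, 34, 31], 2⟩) (.node 334386095 (.leaf ⟨333530228, [38, 33, 39, 31, 34], 2⟩) (.leaf ⟨334386095, [36, 31, 39, 31, 36, 39, 33, 38], 2⟩)))) (.node 342272449 (.node 341255096 (.leaf ⟨341006917, [36, 33, 39, 31, 37, 40, 34, 37], 2⟩) (.leaf ⟨341255096, [38, 34, 31, 36], 2⟩)) (.node 342552725 (.leaf ⟨342272449, [32, 35, 34, 39, 31, 37, 39, 32], 2⟩) (.node 342780034 (.leaf ⟨342552725, [32, 36, 33, 39, 38, 31, 40, 32, 38], 2⟩) (.leaf ⟨342780034, [38, 31, 35],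 2⟩)))))) (.node 362191580 (.node 357863802 (.node 346516011 (.node 344707873 (.leaf ⟨344646258, [38, 36, 39, 31], 2⟩) (.leaf ⟨344707873, [36, 32, 38, 39, 32, 35, 40, 34, 38], 2⟩)) (.node 348423089 (.leaf ⟨346516011, [36, 32, 40, 34, 35, 34, 39, 38, 31], 2⟩) (.node 352772229 (.leaf ⟨348423089, [32, 36, 32, 38, 40, 34, 37, 34], 2⟩) (.leaf ⟨352772229, [38, 31, 39, 31], 2⟩)))) (.node 359905571 (.node 359473862 (.leaf ⟨357863802, [38, 34, 39, 31, 36], 2⟩) (.leaf ⟨359473862, [35, 40, 32, 34, 36, 39, 38], 2⟩)) (.node 360192986 (.leaf ⟨359905571, [32, 36, 32, 39, 32, 38, 34, 39, 38], 2⟩) (.node 362007539 (.leaf ⟨360192986, [32, 36, 33, 39, 38, 31, 40, 38], 2⟩) (.leaf ⟨362007539, [35, 40, 32, 34, 37, 39], 2⟩))))) (.node 367966994 (.node 363362766 (.node 362320542 (.leaf ⟨362191580, [36, 32, 39, 37, 33, 32], 2⟩) (.leaf ⟨362320542, [36, 31, 39, 31, 36, 39, 32, 38], 2⟩))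 (.node 363924482 (.leaf ⟨363362766, [37, 40, 32, 34, 36, 39, 38], 2⟩) (.node 364764361 (.leaf ⟨363924482, [37, 40, 32, 35, 34, 40, 38], 2⟩) (.leaf ⟨364764361, [35, 40, 32, 34, 36, 38, 40], 2⟩)))) (.node 370057818 (.node 368811812 (.leaf ⟨367966994, [37], 1⟩) (.leaf ⟨368811812, [36, 39, 32, 38, 33], 1⟩)) (.node 370565954 (.leaf ⟨370057818, [36, 32, 33, 38, 39, 32, 36, 39, 38], 2⟩) (.node 370577952 (.leaf ⟨370565954, [35, 34, 39, 31, 37, 39], 2⟩) (.leaf ⟨370577952, [38, 36, 39], 3⟩)))))))) (.node 449817605 (.node 411969462 (.node 390608123 (.node 380377422 (.node 376473662 (.node 375133592 (.leaf ⟨374181792, [32, 36, 33, 39, 31, 36, 39, 33, 38], 2⟩) (.leaf ⟨375133592, [32, 36, 33, 39, 36, 31, 40, 38], 2⟩)) (.node 379024267 (.leaf ⟨376473662, [39, 38], 1⟩) (.leaf ⟨379024267, [], 0⟩))) (.node 383164251 (.node 382085049 (.leaf ⟨380377422, [32, 38, 40, 32], 2⟩) (.leaf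 ⟨382085049, [40, 32, 38], 2⟩)) (.node 388223592 (.leaf ⟨383164251, [34, 36, 31, 39, 31, 36, 39, 38], 2⟩) (.node 388984964 (.leaf ⟨388223592, [36, 32, 39, 33, 36, 39, 32, 38], 2⟩) (.leaf ⟨388984964, [39, 36, 32], 1⟩))))) (.node 399867923 (.node 392042841 (.node 391202833 (.leaf ⟨390608123, [36, 32, 35], 3⟩) (.leaf ⟨391202833, [32, 36, 39, 32, 34, 35, 40, 38], 2⟩)) (.node 392340720 (.leaf ⟨392042841, [36, 32, 33, 39, 32, 37, 40, 31, 35], 2⟩) (.node 392813888 (.leaf ⟨392340720, [38, 34, 40, 32, 33], 2⟩) (.leaf ⟨392813888, [36, 32, 39, 32, 38, 40, 36, 38], 2⟩)))) (.node 402850052 (.node 400059072 (.leaf ⟨399867923, [38, 40, 31, 34], 2⟩) (.leaf ⟨400059072, [36, 39, 33, 32, 37, 33], 2⟩)) (.node 403638770 (.leaf ⟨402850052, [38, 34, 40, 36], 2⟩) (.node 408961187 (.leaf ⟨403638770, [37, 39, 31, 36], 1⟩) (.leaf ⟨408961187, [36, 31, 39, 38, 31, 40, 38], 2⟩)))))) (.node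 437751057 (.node 427890686 (.node 415636143 (.node 415307501 (.leaf ⟨411969462, [38, 34, 31, 39], 2⟩) (.leaf ⟨415307501, [32, 36, 32, 39, 36, 33, 38, 40], 2⟩)) (.node 417415464 (.leaf ⟨415636143, [36, 31, 40, 35, 34, 31, 40, 38], 2⟩) (.node 422378461 (.leaf ⟨417415464, [32, 36, 32, 39, 32, 37, 39], 2⟩) (.leaf ⟨422378461, [36, 32, 39, 33, 36, 39, 31, 35, 38], 2⟩)))) (.node 430633958 (.node 428159137 (.leaf ⟨427890686, [36, 32, 38, 39, 37, 33, 39, 37], 2⟩) (.leaf ⟨428159137, [36, 33, 40, 35, 31, 40, 35, 38], 2⟩)) (.node 433523397 (.leaf ⟨430633958, [38, 39, 32], 2⟩) (.node 435940771 (.leaf ⟨433523397, [38, 35, 31, 39], 2⟩) (.leaf ⟨435940771, [40, 32, 34, 38], 2⟩))))) (.node 440534107 (.node 439139159 (.node 437966048 (.leaf ⟨437751057, [36, 32, 33, 39, 32, 37, 40, 32, 35], 2⟩) (.leaf ⟨437966048, [36, 32, 39, 33, 36, 38, 40, 31], 2⟩)) (.node 439367752 (.leaf ⟨439139159,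 [35, 40, 32, 40, 33, 37, 39], 2⟩) (.node 439924759 (.leaf ⟨439367752, [34, 36, 32, 33, 39, 36, 32, 40, 38], 2⟩) (.leaf ⟨439924759, [38, 40, 31, 39], 2⟩)))) (.node 444160731 (.node 442991860 (.leaf ⟨440534107, [36, 32, 37, 33, 39, 36, 32, 40, 38], 2⟩) (.leaf ⟨442991860, [36, 32, 39, 33, 36, 38, 40], 2⟩)) (.node 444605577 (.leaf ⟨444160731, [37, 40, 32, 34, 37, 34], 2⟩) (.node 446901586 (.leaf ⟨444605577, [32, 35, 40, 32, 40, 37, 34, 39], 2⟩) (.leaf ⟨446901586, [38, 34, 35], 2⟩))))))) (.node 478852636 (.node 465784757 (.node 455690511 (.node 451564085 (.node 449861086 (.leaf ⟨449817605, [37, 39, 31], 1⟩) (.leaf ⟨449861086, [34, 36, 32, 33, 37, 39, 37, 33], 2⟩)) (.node 452062945 (.leaf ⟨451564085, [35, 32, 39, 32, 39, 37, 33], 2⟩) (.leaf ⟨452062945, [35, 34, 39, 31, 35, 40, 38], 2⟩))) (.node 458828704 (.node 457487170 (.leaf ⟨455690511, [36, 33, 40, 35, 31, 39,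 32, 37], 2⟩) (.leaf ⟨457487170, [32, 36, 33, 39, 31, 36, 39, 38], 2⟩)) (.node 460523398 (.leaf ⟨458828704, [38, 40, 31, 35], 2⟩) (.node 461597180 (.leaf ⟨460523398, [39, 32, 38, 35], 2⟩) (.leaf ⟨461597180, [34, 36, 31, 39, 31, 35, 40, 38], 2⟩))))) (.node 471815877 (.node 469695822 (.node 466265936 (.leaf ⟨465784757, [36, 32, 38, 39, 37, 33], 2⟩) (.leaf ⟨466265936, [32, 34, 36, 32, 39, 37, 33], 2⟩)) (.node 470394472 (.leaf ⟨469695822, [38, 36, 39], 2⟩) (.node 471462479 (.leaf ⟨470394472, [37, 39, 32], 1⟩) (.leaf ⟨471462479, [34, 32, 39, 38], 2⟩)))) (.node 472599737 (.node 472558927 (.leaf ⟨471815877, [32, 36, 32, 39, 36, 33, 39, 38], 2⟩) (.leaf ⟨472558927, [32, 34, 35, 34, 31, 39, 37, 33], 2⟩)) (.node 475979887 (.leaf ⟨472599737, [38, 34, 31, 35], 2⟩) (.node 476285895 (.leaf ⟨475979887, [36, 33, 40, 35, 31, 39, 37], 2⟩) (.leaf ⟨476285895, [36, 31, 39, 36, 32,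 33, 39, 38], 2⟩)))))) (.node 494220306 (.node 486519994 (.node 481720775 (.node 479687926 (.leaf ⟨478852636, [36, 32, 38, 39, 32, 35, 40, 38], 2⟩) (.leaf ⟨479687926, [36, 37], 3⟩)) (.node 482182518 (.leaf ⟨481720775, [32, 34, 36, 32, 39, 36, 32, 40, 38], 2⟩) (.node 486394488 (.leaf ⟨482182518, [34, 36, 32, 33, 39, 37, 33], 3⟩) (.leaf ⟨486394488, [37, 33, 39, 32, 33, 37, 40, 33], 2⟩)))) (.node 491799165 (.node 488430438 (.leaf ⟨486519994, [32, 36, 32, 38, 40, 35, 34, 40, 38], 2⟩) (.leaf ⟨488430438, [38, 31, 40, 35], 2⟩)) (.node 492636901 (.leaf ⟨491799165, [35, 34, 39, 31, 40, 36, 32, 37], 2⟩) (.node 493929398 (.leaf ⟨492636901, [39, 32, 34, 38], 2⟩) (.leaf ⟨493929398, [35, 40, 31, 39, 36], 3⟩))))) (.node 506134470 (.node 498831668 (.node 497323634 (.leaf ⟨494220306, [36, 39, 32, 38], 1⟩) (.leaf ⟨497323634, [32, 36, 39, 32, 34, 36, 37], 2⟩)) (.node 499689687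 (.leaf ⟨498831668, [36, 33, 39, 36, 31, 40, 36, 38], 2⟩) (.node 504456072 (.leaf ⟨499689687, [37, 34, 39, 32, 37, 33], 2⟩) (.leaf ⟨504456072, [32, 36, 32, 40, 34, 35, 40, 38], 2⟩)))) (.node 506540364 (.node 506267154 (.leaf ⟨506134470, [36, 39, 38, 31, 40, 31], 1⟩) (.leaf ⟨506267154, [32, 36, 32, 39, 32, 36, 38, 39, 34], 2⟩)) (.node 506631892 (.leaf ⟨506540364, [32, 36, 32, 40, 36, 37, 36, 33], 2⟩) (.node 507624145 (.leaf ⟨506631892, [36, 40, 38], 3⟩) (.leaf ⟨507624145, [36, 40, 34, 38], 1⟩)))))))))) (.node 762128817 (.node 628862983 (.node 573284123 (.node 538975858 (.node 522991984 (.node 517217665 (.node 510592496 (.node 508666835 (.leaf ⟨507783603, [32, 36, 32, 39, 37, 34, 40, 37], 2⟩) (.leaf ⟨508666835, [36, 39, 32, 38, 34], 1⟩)) (.node 513193053 (.leaf ⟨510592496, [36, 32, 39, 32, 37, 40, 33, 37], 2⟩) (.leaf ⟨513193053, [31, 39, 38, 31], 2⟩))) (.node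 520562578 (.node 517610144 (.leaf ⟨517217665, [36, 32, 37, 39, 37, 33], 2⟩) (.leaf ⟨517610144, [36, 40, 34, 39, 38, 31, 40, 38], 2⟩)) (.node 521742364 (.leaf ⟨520562578, [34, 38, 31, 35], 2⟩) (.node 522000066 (.leaf ⟨521742364, [38, 36, 31], 2⟩) (.leaf ⟨522000066, [36, 32, 39, 32, 35, 34, 39, 38], 2⟩))))) (.node 528963995 (.node 525945957 (.node 525751122 (.leaf ⟨522991984, [38, 33, 40, 31], 2⟩) (.leaf ⟨525751122, [38, 34, 40, 31], 2⟩)) (.node 527198369 (.leaf ⟨525945957, [32, 36, 32, 40, 34, 35, 40, 32, 38], 2⟩) (.node 528017059 (.leaf ⟨527198369, [36, 38, 31, 39, 31, 36, 39, 38, 31], 2⟩) (.leaf ⟨528017059, [36, 31, 36, 39, 31, 35, 40, 38], 2⟩)))) (.node 534883687 (.node 532255514 (.leaf ⟨528963995, [32, 36, 32, 39, 36, 33, 37], 2⟩) (.leaf ⟨532255514, [38, 35, 31, 40], 2⟩)) (.node 535597711 (.leaf ⟨534883687, [34, 31, 39, 32, 38], 2⟩) (.node 535784076 (.leaf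 ⟨535597711, [38, 34, 31, 40, 32], 2⟩) (.leaf ⟨535784076, [32, 36, 39, 32, 36, 37, 39, 33], 2⟩)))))) (.node 553668542 (.node 546322237 (.node 542521732 (.node 541490702 (.leaf ⟨538975858, [32, 36, 32, 39, 32, 36, 38, 40], 2⟩) (.leaf ⟨541490702, [36, 31, 40, 31, 34, 37, 39], 2⟩)) (.node 542595039 (.leaf ⟨542521732, [35, 40, 34, 32, 40], 3⟩) (.node 545122650 (.leaf ⟨542595039, [34, 36, 32, 39, 33, 36, 39, 38], 2⟩) (.leaf ⟨545122650, [32, 36, 39, 32, 40, 36, 38, 33], 2⟩)))) (.node 547633942 (.node 546483870 (.leaf ⟨546322237, [34, 36, 39, 32, 39], 3⟩) (.leaf ⟨546483870, [36, 31, 36, 38, 39, 38, 31, 40, 38], 2⟩)) (.node 548584186 (.leaf ⟨547633942, [37, 39, 32, 35], 1⟩) (.node 553174753 (.leaf ⟨548584186, [36, 39, 32, 35, 32, 40, 38], 2⟩) (.leaf ⟨553174753, [32, 36, 33, 39, 32, 37, 33], 2⟩))))) (.node 563380367 (.node 558334397 (.node 556395216 (.leaf ⟨553668542,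 [36, 31, 36, 37, 39, 31, 35, 40, 38], 2⟩) (.leaf ⟨556395216, [36, 32, 38, 33, 39, 36, 32, 40, 38], 2⟩)) (.node 559096818 (.leaf ⟨558334397, [36, 32, 38, 40, 34, 35, 40, 34, 38], 2⟩) (.node 559512828 (.leaf ⟨559096818, [34, 38, 34, 39, 31], 2⟩) (.leaf ⟨559512828, [38, 31, 39], 2⟩)))) (.node 566124180 (.node 563904594 (.leaf ⟨563380367, [38, 40, 35], 2⟩) (.leaf ⟨563904594, [34, 38, 31, 40, 32], 2⟩)) (.node 572652055 (.leaf ⟨566124180, [32, 34, 38, 34, 31], 2⟩) (.node 572969779 (.leaf ⟨572652055, [39], 1⟩) (.leaf ⟨572969779, [32, 38, 34, 40], 2⟩))))))) (.node 599028934 (.node 579624488 (.node 574900619 (.node 574821597 (.node 573986120 (.leaf ⟨573284123, [34, 36, 31, 40, 35, 31, 40, 32, 38], 2⟩) (.leaf ⟨573986120, [40, 35], 1⟩)) (.node 574858111 (.leaf ⟨574821597, [36, 33, 39, 31, 36, 37], 2⟩) (.leaf ⟨574858111, [39, 36, 32, 39, 37, 33], 2⟩))) (.node 575904900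 (.node 574922932 (.leaf ⟨574900619, [36, 31, 39, 36, 31, 39, 32, 37], 2⟩) (.leaf ⟨574922932, [34, 38, 40, 31], 2⟩)) (.node 576272094 (.leaf ⟨575904900, [34, 32, 38, 36], 2⟩) (.node 577049809 (.leaf ⟨576272094, [32, 35, 40, 32, 40, 37, 33], 2⟩) (.leaf ⟨577049809, [35, 34, 39, 32, 40], 3⟩))))) (.node 583835893 (.node 580433161 (.node 580098011 (.leaf ⟨579624488, [35, 40, 34, 32, 39, 36], 3⟩) (.leaf ⟨580098011, [32, 36, 32, 38, 39, 37, 33], 2⟩)) (.node 582281329 (.leaf ⟨580433161, [40, 31], 1⟩) (.node 582329319 (.leaf ⟨582281329, [36, 32, 39, 36, 32, 40, 34, 38], 2⟩) (.leaf ⟨582329319, [37, 40, 32, 34, 35, 34, 39, 38], 2⟩)))) (.node 589560257 (.node 585214725 (.leaf ⟨583835893, [32, 36, 32, 39, 36, 32, 40, 38], 2⟩) (.leaf ⟨585214725, [32, 36, 32, 39, 38, 34, 40, 38], 2⟩)) (.node 590260837 (.leaf ⟨589560257, [36, 31, 36, 39, 36, 31, 40, 38], 2⟩) (.node 591962362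 (.leaf ⟨590260837, [32, 34, 38, 34], 2⟩) (.leaf ⟨591962362, [36, 31, 39, 31, 37, 40, 33, 37], 2⟩)))))) (.node 617528737 (.node 610126083 (.node 603318055 (.node 603268837 (.leaf ⟨599028934, [38, 36, 32], 2⟩) (.leaf ⟨603268837, [36, 32, 39, 32, 36, 38, 40, 32], 2⟩)) (.node 604703027 (.leaf ⟨603318055, [37, 40, 32, 34, 37, 39], 2⟩) (.node 605056720 (.leaf ⟨604703027, [34, 32, 39, 32, 38], 2⟩) (.leaf ⟨605056720, [32, 36, 32, 39, 38, 33, 39, 38], 2⟩)))) (.node 613336066 (.node 610511671 (.leaf ⟨610126083, [36, 32, 38, 40, 34, 35, 40, 38], 2⟩) (.leaf ⟨610511671, [32, 35, 34, 39, 31, 35, 40, 38], 2⟩)) (.node 616801285 (.leaf ⟨613336066, [37, 40, 32, 34, 35, 40, 38], 2⟩) (.node 617124651 (.leaf ⟨616801285, [35, 40, 32, 34, 35, 40, 38], 2⟩) (.leaf ⟨617124651, [36, 39, 31, 39, 33, 38], 3⟩))))) (.node 622692232 (.node 619070670 (.node 618680695 (.leaf ⟨617528737, [35,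 34, 39, 31, 37, 40, 34, 37], 2⟩) (.leaf ⟨618680695, [36, 32, 39, 37, 33, 39, 32, 37], 2⟩)) (.node 620288881 (.leaf ⟨619070670, [32, 34, 36, 39, 32, 35, 34, 40, 38], 2⟩) (.node 621329153 (.leaf ⟨620288881, [32, 35, 34, 39, 31, 36, 39, 38], 2⟩) (.leaf ⟨621329153, [32, 36, 33, 39, 31, 37, 34], 2⟩)))) (.node 625116730 (.node 622927528 (.leaf ⟨622692232, [32, 36, 32, 40, 34, 36, 38, 34, 40], 2⟩) (.leaf ⟨622927528, [36, 32, 33, 36, 39, 38, 34, 40, 38], 2⟩)) (.node 626205942 (.leaf ⟨625116730, [36, 32, 33, 39, 38, 34, 40, 38], 2⟩) (.node 628686277 (.leaf ⟨626205942, [34, 36, 32, 39, 33, 36, 38, 40], 2⟩) (.leaf ⟨628686277, [36, 32, 39, 32, 36, 37, 39, 37], 2⟩)))))))) (.node 690628370 (.node 663230622 (.node 644020238 (.node 632156748 (.node 631307713 (.node 630448145 (.leaf ⟨628862983, [32, 33, 32, 39, 38], 2⟩) (.leaf ⟨630448145, [40, 38], 2⟩)) (.node 631754524 (.leaf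 ⟨631307713, [36], 1⟩) (.leaf ⟨631754524, [36, 32, 39, 32, 35, 40, 33, 38], 2⟩))) (.node 640489221 (.node 638026902 (.leaf ⟨632156748, [32, 36, 33, 38, 39, 32, 37, 33], 2⟩) (.leaf ⟨638026902, [36, 31, 40, 35, 31, 40, 32, 38], 2⟩)) (.node 640955817 (.leaf ⟨640489221, [32, 36, 32, 40, 34, 37, 40, 31, 35], 2⟩) (.node 643506761 (.leaf ⟨640955817, [36, 32, 38, 39, 32, 37, 34], 2⟩) (.leaf ⟨643506761, [38, 34, 31, 40], 2⟩))))) (.node 658443755 (.node 654087442 (.node 648777053 (.leaf ⟨644020238, [36, 31, 40, 38, 34, 31, 36, 37], 2⟩) (.leaf ⟨648777053, [32, 38, 40, 32, 39], 2⟩)) (.node 656453400 (.leaf ⟨654087442, [38, 34, 31, 40, 34], 2⟩) (.node 657216754 (.leaf ⟨656453400, [36, 31, 40, 36, 38, 31, 40, 38], 2⟩) (.leaf ⟨657216754, [38, 34, 40, 34], 2⟩)))) (.node 659937191 (.node 659235494 (.leaf ⟨658443755, [39, 32, 38, 33], 2⟩) (.leaf ⟨659235494, [32, 34, 36, 32, 39,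 37, 34, 40, 37], 2⟩)) (.node 662169662 (.leaf ⟨659937191, [32, 35, 40, 32, 40, 36, 38, 33], 2⟩) (.node 662864378 (.leaf ⟨662169662, [34, 32, 38, 39], 2⟩) (.leaf ⟨662864378, [32, 36, 33, 39, 31, 35, 40, 38], 2⟩)))))) (.node 671000266 (.node 668098019 (.node 664491079 (.node 663433328 (.leaf ⟨663230622, [40, 36], 3⟩) (.leaf ⟨663433328, [36, 32, 39, 32, 40, 36, 32, 39, 38], 2⟩)) (.node 665534993 (.leaf ⟨664491079, [37, 39, 32, 36], 1⟩) (.node 665838486 (.leaf ⟨665534993, [36, 31, 36, 39, 31, 35, 40, 32, 38], 2⟩) (.leaf ⟨665838486, [35, 34, 39, 31, 39, 37, 34], 2⟩)))) (.node 670682830 (.node 668459965 (.leaf ⟨668098019, [36, 33, 39, 36, 31, 40, 38], 2⟩) (.leaf ⟨668459965, [36, 31, 40, 31, 34, 37, 36], 2⟩)) (.node 670747548 (.leaf ⟨670682830, [35, 40, 32, 34, 39, 37, 34], 2⟩) (.node 670939959 (.leaf ⟨670747548, [36, 32, 38, 34, 40, 35, 34, 40, 38], 2⟩) (.leaf ⟨670939959,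 [32, 36, 32, 40, 34, 36, 38, 40], 2⟩))))) (.node 683282286 (.node 675764882 (.node 672148534 (.leaf ⟨671000266, [32, 36, 32, 39, 32, 37, 34], 2⟩) (.leaf ⟨672148534, [40, 36, 31], 3⟩)) (.node 678829416 (.leaf ⟨675764882, [38, 40, 36, 32, 33], 2⟩) (.node 681920738 (.leaf ⟨678829416, [38, 40, 35, 32], 2⟩) (.leaf ⟨681920738, [39, 38], 2⟩)))) (.node 685612461 (.node 685483540 (.leaf ⟨683282286, [36, 31, 40, 36, 31, 40, 37, 34], 2⟩) (.leaf ⟨685483540, [34, 38, 34, 39, 32], 2⟩)) (.node 688760728 (.leaf ⟨685612461, [40, 38, 34, 31], 2⟩) (.node 690378062 (.leaf ⟨688760728, [34, 39, 31, 40, 38], 2⟩) (.leaf ⟨690378062, [36, 31, 39, 36, 31, 40, 34, 38], 2⟩))))))) (.node 724247154 (.node 712727213 (.node 700855107 (.node 697608671 (.node 693709422 (.leaf ⟨690628370, [36, 32, 40, 34, 37, 36], 2⟩) (.leaf ⟨693709422, [34, 35, 34, 39], 3⟩)) (.node 699404046 (.leaf ⟨697608671,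 [34, 36, 32, 39, 37, 33], 2⟩) (.leaf ⟨699404046, [38, 34, 40], 2⟩))) (.node 702283362 (.node 701355821 (.leaf ⟨700855107, [35, 40, 31, 40], 3⟩) (.leaf ⟨701355821, [38, 31, 36, 39], 2⟩)) (.node 702764944 (.leaf ⟨702283362, [32, 36, 32, 39, 37, 34, 39], 2⟩) (.node 706016907 (.leaf ⟨702764944, [38, 39, 34], 2⟩) (.leaf ⟨706016907, [40, 34, 32, 38], 2⟩))))) (.node 717829469 (.node 716380731 (.node 716339776 (.leaf ⟨712727213, [34, 38, 34, 40], 2⟩) (.leaf ⟨716339776, [34, 36, 31, 40, 36, 32, 37, 33], 2⟩)) (.node 716462048 (.leaf ⟨716380731, [36, 32, 39, 33, 36, 39, 38], 2⟩) (.node 717640975 (.leaf ⟨716462048, [35, 34, 39, 38, 31, 40, 38], 2⟩) (.leaf ⟨717640975, [34, 31], 1⟩)))) (.node 720226824 (.node 719511847 (.leaf ⟨717829469, [36, 40, 34, 38], 3⟩) (.leaf ⟨719511847, [34, 36, 32, 39, 33, 36, 39, 32, 38], 2⟩)) (.node 720816164 (.leaf ⟨720226824, [32, 35, 34, 39,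 38, 31, 40, 38], 2⟩) (.node 721875606 (.leaf ⟨720816164, [36, 32, 40, 33, 38, 39, 38, 33], 2⟩) (.leaf ⟨721875606, [36, 32, 40, 34, 35, 40, 32, 38], 2⟩)))))) (.node 743158482 (.node 738434431 (.node 731364407 (.node 724341715 (.leaf ⟨724247154, [37, 34, 39, 31, 35, 40, 34, 38], 2⟩) (.leaf ⟨724341715, [34, 38, 34, 31, 40], 2⟩)) (.node 735507648 (.leaf ⟨731364407, [37, 34, 39, 36, 31, 40, 38], 2⟩) (.node 736224002 (.leaf ⟨735507648, [36, 32, 39, 37, 33], 2⟩) (.leaf ⟨736224002, [34, 37, 34, 39, 31, 35, 40, 38], 2⟩)))) (.node 740285111 (.node 739829508 (.leaf ⟨738434431, [34, 31, 39, 38], 2⟩) (.leaf ⟨739829508, [38, 36, 39, 32], 2⟩)) (.node 740432528 (.leaf ⟨740285111, [38, 40, 31], 2⟩) (.node 741594567 (.leaf ⟨740432528, [37, 39, 32, 39, 37, 33], 2⟩) (.leaf ⟨741594567, [37, 39, 32, 35], 3⟩))))) (.node 754390349 (.node 746492703 (.node 744076045 (.leaf ⟨743158482,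 [34, 31, 39, 33, 38], 2⟩) (.leaf ⟨744076045, [36, 32, 40, 34, 37, 39], 2⟩)) (.node 749496043 (.leaf ⟨746492703, [36, 40, 32, 37, 33], 2⟩) (.node 751053057 (.leaf ⟨749496043, [36, 31, 40, 36, 31, 36, 37], 2⟩) (.leaf ⟨751053057, [], 1⟩)))) (.node 756786728 (.node 755538393 (.leaf ⟨754390349, [38, 31, 40, 31, 40], 2⟩) (.leaf ⟨755538393, [32, 36, 32, 40, 36, 32, 37, 39], 2⟩)) (.node 760841439 (.leaf ⟨756786728, [36, 33, 39, 31, 35, 40, 34, 38], 2⟩) (.node 761381622 (.leaf ⟨760841439, [32, 36, 39, 32, 34, 36, 39, 32, 38], 2⟩) (.leaf ⟨761381622, [36, 31, 39, 31, 36, 39, 38], 2⟩))))))))) (.node 863273666 (.node 812314417 (.node 784421936 (.node 775782687 (.node 765166629 (.node 763891838 (.node 762662697 (.leaf ⟨762128817, [32, 36, 33, 39, 31, 37, 40, 32, 35], 2⟩) (.leaf ⟨762662697, [35, 34, 40, 35, 31, 40, 38], 2⟩)) (.node 765062428 (.leaf ⟨763891838, [35, 32, 40,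 32, 40, 37, 33], 2⟩) (.leaf ⟨765062428, [36, 32, 39, 38, 34, 40, 38], 2⟩))) (.node 770135003 (.node 766019733 (.leaf ⟨765166629, [32, 34, 36, 32, 39, 37, 33, 32], 2⟩) (.leaf ⟨766019733, [32, 36, 39, 32, 40, 37, 34, 39], 2⟩)) (.node 771790849 (.leaf ⟨770135003, [38, 34, 40, 31, 34], 2⟩) (.node 775198525 (.leaf ⟨771790849, [38, 35, 31, 39, 32], 2⟩) (.leaf ⟨775198525, [32, 36, 32, 39, 36, 33, 39, 38, 31], 2⟩))))) (.node 779578532 (.node 776413216 (.node 776081645 (.leaf ⟨775782687, [], 4⟩) (.leaf ⟨776081645, [32, 34, 38, 36], 2⟩)) (.node 776896319 (.leaf ⟨776413216, [36, 32, 40, 31, 36, 39, 36], 3⟩) (.node 778698837 (.leaf ⟨776896319, [36, 32, 33, 39, 36, 33, 39, 38], 2⟩) (.leaf ⟨778698837, [36, 32, 39, 37, 34, 39], 2⟩)))) (.node 781563971 (.node 780881588 (.leaf ⟨779578532, [32, 36, 32, 39, 32, 37, 39, 32], 2⟩) (.leaf ⟨780881588, [36, 32, 39, 38, 33, 39, 38],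 2⟩)) (.node 782159340 (.leaf ⟨781563971, [36, 32, 39, 36, 32, 39, 37], 2⟩) (.node 783244514 (.leaf ⟨782159340, [34, 36, 31, 40, 36, 31, 37, 36], 2⟩) (.leaf ⟨783244514, [32, 35, 34, 39, 32, 37, 33], 2⟩)))))) (.node 799777172 (.node 787377285 (.node 785813817 (.node 785747216 (.leaf ⟨784421936, [38, 40, 32], 2⟩) (.leaf ⟨785747216, [32, 36, 32, 40, 35, 32, 40, 33, 38], 2⟩)) (.node 786090787 (.leaf ⟨785813817, [33, 40], 1⟩) (.node 786493808 (.leaf ⟨786090787, [32, 36, 33, 39, 36, 31, 40, 35, 38], 2⟩) (.leaf ⟨786493808, [32, 36, 32, 40, 38, 35, 32, 40, 38], 2⟩)))) (.node 796606167 (.node 787957983 (.leaf ⟨787377285, [36, 31, 40, 31, 34, 36, 39, 38], 2⟩) (.leaf ⟨787957983, [36, 33, 39, 32, 38, 34, 40, 38], 2⟩)) (.node 796645521 (.leaf ⟨796606167, [34, 31, 40, 38], 2⟩) (.node 798363229 (.leaf ⟨796645521, [32, 36, 32, 40, 38, 34, 37, 39], 2⟩) (.leaf ⟨798363229, [36,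 39, 32, 38, 34, 39], 1⟩))))) (.node 807339429 (.node 801665308 (.node 800394541 (.leaf ⟨799777172, [36, 31, 40, 35, 31, 40, 38, 31], 2⟩) (.leaf ⟨800394541, [36, 32, 39, 32, 37, 39, 31], 2⟩)) (.node 802286561 (.leaf ⟨801665308, [36, 32, 40, 34, 35, 34, 39, 38], 2⟩) (.node 804745204 (.leaf ⟨802286561, [34, 38, 34, 39], 2⟩) (.leaf ⟨804745204, [37, 40, 34], 1⟩)))) (.node 808286349 (.node 808076193 (.leaf ⟨807339429, [35, 34, 39, 31, 36, 39, 38], 2⟩) (.leaf ⟨808076193, [32, 35, 34, 39, 31, 37, 39], 2⟩)) (.node 810341810 (.leaf ⟨808286349, [36, 31, 39, 36, 32, 33, 39, 32, 38], 2⟩) (.node 810933216 (.leaf ⟨810341810, [36, 39, 32, 35, 34, 40, 38], 2⟩) (.leaf ⟨810933216, [36, 32, 38, 39, 33, 36, 39, 38], 2⟩))))))) (.node 838212211 (.node 823299604 (.node 814028990 (.node 813643700 (.node 813612942 (.leaf ⟨812314417, [36, 32, 39, 37, 33, 39, 31, 37], 2⟩) (.leaf ⟨813612942,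 [32, 36, 32, 39, 37, 33, 32], 2⟩)) (.node 813695921 (.leaf ⟨813643700, [36, 32, 38, 40, 34, 37, 34], 2⟩) (.leaf ⟨813695921, [38, 31, 40, 32], 2⟩))) (.node 817834412 (.node 814717865 (.leaf ⟨814028990, [34, 38, 31, 36], 2⟩) (.leaf ⟨814717865, [40, 36, 31, 40, 35, 31, 40, 38], 2⟩)) (.node 819878273 (.leaf ⟨817834412, [36, 40, 34, 38, 40, 31], 1⟩) (.node 820114370 (.leaf ⟨819878273, [32, 38, 36, 32, 39], 2⟩) (.leaf ⟨820114370, [32, 35, 40, 32, 40, 36, 32, 40, 38], 2⟩))))) (.node 830384257 (.node 825255015 (.node 824944928 (.leaf ⟨823299604, [34, 31, 40, 36, 32, 39, 37, 33], 2⟩) (.leaf ⟨824944928, [36, 32, 39, 36, 32, 40, 35, 38], 2⟩)) (.node 828340964 (.leaf ⟨825255015, [40, 38, 31, 36], 2⟩) (.node 828866650 (.leaf ⟨828340964, [38, 31, 34], 2⟩) (.leaf ⟨828866650, [32, 36, 32, 40, 34, 37, 36], 2⟩)))) (.node 833820178 (.node 832214134 (.leaf ⟨830384257, [36, 32,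 39, 32, 36, 39, 38], 2⟩) (.leaf ⟨832214134, [34, 36, 31, 39, 31, 36, 37], 2⟩)) (.node 834984892 (.leaf ⟨833820178, [36, 40], 1⟩) (.node 836401779 (.leaf ⟨834984892, [36, 39, 32, 38, 40], 1⟩) (.leaf ⟨836401779, [38, 35], 3⟩)))))) (.node 854513058 (.node 847526487 (.node 842343294 (.node 840857007 (.leaf ⟨838212211, [32, 36, 39, 32, 34, 36, 39, 33, 38], 2⟩) (.leaf ⟨840857007, [36, 39, 37], 1⟩)) (.node 845380559 (.leaf ⟨842343294, [36, 31, 40, 34, 38, 31, 40, 38], 2⟩) (.node 845832978 (.leaf ⟨845380559, [38, 39, 31], 2⟩) (.leaf ⟨845832978, [32, 36, 32, 39, 32, 36, 37], 2⟩)))) (.node 849797049 (.node 849423061 (.leaf ⟨847526487, [38, 34], 2⟩) (.leaf ⟨849423061, [34, 32, 38, 40], 2⟩)) (.node 853588285 (.leaf ⟨849797049, [38, 40, 31, 36], 2⟩) (.node 853617651 (.leaf ⟨853588285, [34, 38, 40], 2⟩) (.leaf ⟨853617651, [36, 32, 33, 39, 32, 36, 37], 2⟩))))) (.node 858276443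 (.node 855572465 (.node 855459670 (.leaf ⟨854513058, [36, 32, 39, 32, 36, 32, 38, 40], 2⟩) (.leaf ⟨855459670, [36, 32, 40, 33, 37, 39, 33], 2⟩)) (.node 855713210 (.leaf ⟨855572465, [37, 34, 39, 31, 37, 39, 31], 2⟩) (.node 858170753 (.leaf ⟨855713210, [36, 32, 39, 33, 36, 39, 33, 38], 2⟩) (.leaf ⟨858170753, [38, 31, 40, 35, 31], 2⟩)))) (.node 859033363 (.node 858785722 (.leaf ⟨858276443, [36, 31, 39, 36, 31, 40, 38], 2⟩) (.leaf ⟨858785722, [36, 33, 39, 31, 40, 37, 34], 2⟩)) (.node 862509790 (.leaf ⟨859033363, [31, 40, 38, 31], 2⟩) (.node 863065423 (.leaf ⟨862509790, [32, 40, 32, 40, 38], 2⟩) (.leaf ⟨863065423, [36, 32, 39, 32, 35, 40, 38], 2⟩)))))))) (.node 925471872 (.node 899266106 (.node 877257817 (.node 871448914 (.node 864827829 (.node 863933080 (.leaf ⟨863273666, [35, 34, 39, 32, 37, 33], 2⟩) (.leaf ⟨863933080, [32, 36, 39, 32, 40, 37, 33], 2⟩)) (.node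 866943350 (.leaf ⟨864827829, [36, 31, 39, 31, 36, 39, 33, 36, 38], 2⟩) (.leaf ⟨866943350, [39, 33, 38], 2⟩))) (.node 874282349 (.node 872714798 (.leaf ⟨871448914, [36, 39, 31], 1⟩) (.leaf ⟨872714798, [40, 34, 38], 2⟩)) (.node 874294575 (.leaf ⟨874282349, [38, 31, 39, 34], 2⟩) (.node 875132087 (.leaf ⟨874294575, [34, 36, 31, 40, 35, 34, 31, 40, 38], 2⟩) (.leaf ⟨875132087, [32, 36, 32, 40, 34, 36, 38, 40, 32], 2⟩))))) (.node 884002694 (.node 879729846 (.node 879600118 (.leaf ⟨877257817, [31, 40, 38], 2⟩) (.leaf ⟨879600118, [32, 36, 32, 40, 34, 37, 34], 2⟩)) (.node 880691451 (.leaf ⟨879729846, [36, 34, 39, 38], 3⟩) (.node 883651250 (.leaf ⟨880691451, [36, 33, 39, 31, 35, 40, 32, 38], 2⟩) (.leaf ⟨883651250, [36, 40, 34, 39, 31, 35, 40, 38], 2⟩)))) (.node 894892771 (.node 891147206 (.leaf ⟨884002694, [32, 36, 33, 39, 31, 35, 40, 32, 38], 2⟩) (.leaf ⟨891147206, [35,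 34, 39, 31, 37, 36], 2⟩)) (.node 896715126 (.leaf ⟨894892771, [40, 36, 32], 3⟩) (.node 899112456 (.leaf ⟨896715126, [36, 31, 40, 36, 31, 36, 39, 38], 2⟩) (.leaf ⟨899112456, [36, 32, 39, 36, 33, 38, 40], 2⟩)))))) (.node 912161420 (.node 905186063 (.node 900808552 (.node 900327596 (.leaf ⟨899266106, [38, 40, 32, 35], 2⟩) (.leaf ⟨900327596, [34, 38, 31, 39], 2⟩)) (.node 903836772 (.leaf ⟨900808552, [40, 34], 1⟩) (.node 904946531 (.leaf ⟨903836772, [33], 1⟩) (.leaf ⟨904946531, [36, 37, 39, 32, 40, 37, 33], 2⟩)))) (.node 907276646 (.node 907025039 (.leaf ⟨905186063, [35, 34], 3⟩) (.leaf ⟨907025039, [36, 39, 38, 33], 1⟩)) (.node 910750532 (.leaf ⟨907276646, [38, 39, 31, 36], 2⟩) (.node 911586857 (.leaf ⟨910750532, [38, 33, 40], 2⟩) (.leaf ⟨911586857, [36, 33, 40, 35, 31, 40, 38], 2⟩))))) (.node 922281258 (.node 915062649 (.node 914038104 (.leaf ⟨912161420, [36, 32,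 39, 36, 33, 39, 38], 2⟩) (.leaf ⟨914038104, [40, 35, 34, 39, 31, 35, 40, 38], 2⟩)) (.node 919197517 (.leaf ⟨915062649, [40, 33, 38], 2⟩) (.node 920185646 (.leaf ⟨919197517, [34, 36, 32, 39, 32], 3⟩) (.leaf ⟨920185646, [36, 32, 39, 33, 36, 39, 38, 31], 2⟩)))) (.node 922857217 (.node 922449011 (.leaf ⟨922281258, [32, 36, 34, 37], 2⟩) (.leaf ⟨922449011, [37, 40, 34, 32, 39, 37], 3⟩)) (.node 923420671 (.leaf ⟨922857217, [32, 36, 32, 39, 37, 33], 2⟩) (.node 923627524 (.leaf ⟨923420671, [36, 32, 38, 40, 34, 37, 36], 2⟩) (.leaf ⟨923627524, [32, 38, 40], 2⟩))))))) (.node 957125875 (.node 943839815 (.node 929046497 (.node 926846128 (.node 925882993 (.leaf ⟨925471872, [36, 31, 40, 31, 34, 36, 38, 40], 2⟩) (.leaf ⟨925882993, [34, 36, 31, 40, 36, 38, 31, 40, 38], 2⟩)) (.node 928154246 (.leaf ⟨926846128, [36, 32, 39, 36, 32, 40, 38], 2⟩) (.leaf ⟨928154246, [36, 39, 32,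 38, 34, 39, 37], 1⟩))) (.node 932603567 (.node 932210597 (.leaf ⟨929046497, [34, 32, 40, 38], 2⟩) (.leaf ⟨932210597, [38, 40, 32, 33], 2⟩)) (.node 934659090 (.leaf ⟨932603567, [38, 31, 36], 2⟩) (.node 942470270 (.leaf ⟨934659090, [39, 32, 38], 2⟩) (.leaf ⟨942470270, [32, 36, 32, 40, 34, 37, 36, 31], 2⟩))))) (.node 955280389 (.node 945509394 (.node 945350328 (.leaf ⟨943839815, [34, 38, 31, 34], 2⟩) (.leaf ⟨945350328, [34, 35, 34, 39, 31, 37, 34], 2⟩)) (.node 949540192 (.leaf ⟨945509394, [36, 32, 39, 36, 33, 37, 39, 32, 37], 2⟩) (.node 953836778 (.leaf ⟨949540192, [39, 37], 1⟩) (.leaf ⟨953836778, [35, 34, 31, 39, 32, 36, 39, 38], 2⟩)))) (.node 956423769 (.node 955672495 (.leaf ⟨955280389, [32, 36, 32, 40, 34, 38, 34, 39, 38], 2⟩) (.leaf ⟨955672495, [38, 40], 2⟩)) (.node 956558994 (.leaf ⟨956423769, [38, 33, 32, 39], 2⟩) (.node 956784425 (.leaf ⟨956558994, [36,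 33, 39, 31, 37, 34], 2⟩) (.leaf ⟨956784425, [40, 38, 34], 2⟩)))))) (.node 965286859 (.node 961645866 (.node 960454930 (.node 957838298 (.leaf ⟨957125875, [36, 31, 37, 39, 31, 36, 39, 38], 2⟩) (.leaf ⟨957838298, [37, 33, 39, 32, 36, 33, 37, 39], 2⟩)) (.node 961359868 (.leaf ⟨960454930, [31, 36, 39, 32, 34, 36, 37], 2⟩) (.node 961602469 (.leaf ⟨961359868, [34, 36, 32, 39, 32, 35, 40, 38], 2⟩) (.leaf ⟨961602469, [36, 31, 39, 38, 31, 40, 33, 38], 2⟩)))) (.node 962951377 (.node 962492163 (.leaf ⟨961645866, [32, 34, 36, 32, 37, 39, 37, 33], 2⟩) (.leaf ⟨962492163, [38, 36, 32, 39, 33], 2⟩)) (.node 963883977 (.leaf ⟨962951377, [36, 31, 39, 31, 36, 39, 38, 31], 2⟩) (.node 963966574 (.leaf ⟨963883977, [36, 32, 40, 34, 36, 38, 40], 2⟩) (.leaf ⟨963966574, [34, 36, 39, 32, 40, 37, 33], 2⟩))))) (.node 975552382 (.node 967206322 (.node 966696641 (.leaf ⟨965286859, [36, 31,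 39, 36, 31, 39, 37], 2⟩) (.leaf ⟨966696641, [34, 36, 32, 39, 37, 33, 39, 37], 2⟩)) (.node 967962383 (.leaf ⟨967206322, [36, 32, 39, 37, 33, 39, 37], 2⟩) (.node 968286878 (.leaf ⟨967962383, [32, 34, 36, 32, 38, 39, 38, 33, 37], 2⟩) (.leaf ⟨968286878, [32, 34, 36, 32, 39, 38, 34, 40, 38], 2⟩)))) (.node 985258436 (.node 984696137 (.leaf ⟨975552382, [35, 40, 31, 39, 34], 3⟩) (.leaf ⟨984696137, [38, 33, 39, 33], 2⟩)) (.node 988746563 (.leaf ⟨985258436, [35, 40, 32, 40, 37, 33], 2⟩) (.node 993115970 (.leaf ⟨988746563, [36, 39], 1⟩) (.leaf ⟨993115970, [36, 39, 38, 31, 40, 31, 35], 1⟩))))))))))), [[[], [8], [2], [4], [26], [25], [6], [19], [20], [18], [15], [17], [23], [22], [21], [12], [13], [16], [14], [10], [24], [8, 4], [8, 2], [8, 25], [2, 4], [8, 26], [4, 25], [8, 6], [4, 26], [6, 8], [4, 6], [18, 16], [21, 10], [12, 10], [18, 15], [2, 6], [15, 14], [10, 12],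 [10, 21], [25, 6], [16, 24], [15, 13], [26, 6], [22, 10], [8, 22], [15, 24], [8, 19], [6, 23], [2, 19], [21, 12], [8, 20], [22, 12], [19, 25], [19, 8], [20, 28], [18, 14], [2, 20], [19, 28], [25, 20], [23, 12], [25, 19], [21, 23], [21, 8], [26, 19], [8, 16], [23, 21], [20, 22], [8, 21], [26, 20], [22, 30], [12, 21], [8, 15], [13, 8], [2, 15], [19, 22], [22, 17], [22, 22], [26, 12], [17, 24], [25, 13], [22, 25], [25, 10], [8, 17], [4, 21], [2, 21], [13, 28], [15, 25], [14, 8], [2, 16], [8, 14], [2, 14], [24, 24], [22, 18], [17, 26], [21, 21], [15, 12], [22, 28], [2, 18], [6, 10], [25, 12], [15, 22], [18, 24], [24, 18], [24, 22], [25, 14], [26, 13], [25, 15], [24, 13], [12, 22], [22, 26], [17, 12], [6, 12], [8, 18], [26, 10], [12, 6], [15, 21], [21, 20], [22, 14], [18, 23], [15, 26], [14, 26], [4, 12], [25, 16], [8, 13], [2, 13], [19, 16], [23, 16], [23, 23],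 [22, 20], [6, 21], [18, 25], [17, 25], [12, 16], [25, 22], [6, 22], [2, 17], [10, 6], [22, 24], [21, 15], [24, 17], [10, 23], [24, 30], [24, 14], [23, 15], [26, 24], [2, 24], [19, 23], [26, 14], [26, 15], [6, 18], [26, 23], [2, 23], [4, 23], [6, 20], [2, 22], [22, 8], [4, 22], [18, 12], [12, 18], [6, 17], [23, 30], [19, 14], [15, 30], [22, 15], [2, 12], [17, 21], [21, 19], [23, 22], [14, 28], [17, 23], [15, 10], [13, 25], [21, 18], [23, 17], [14, 25], [19, 17], [8, 12], [4, 10], [16, 32], [26, 16], [19, 15], [15, 23], [15, 32], [4, 24], [18, 22], [22, 19], [25, 21], [21, 28], [18, 26], [16, 23], [18, 10], [26, 18], [26, 22], [20, 12], [24, 28], [25, 18], [25, 17], [10, 8], [2, 10], [19, 18], [26, 21], [23, 10], [21, 24], [21, 14], [6, 19], [19, 13], [24, 12], [25, 23], [25, 24], [16, 28], [6, 15], [8, 24], [19, 10], [20, 23], [23, 6], [17, 28], [18, 28], [17,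 6], [21, 30], [12, 17], [21, 13], [18, 6], [16, 30], [12, 8], [26, 17], [12, 23], [18, 21], [21, 17], [23, 18], [15, 28], [13, 26], [20, 21], [8, 10], [24, 15], [8, 23], [6, 14], [17, 22], [23, 26], [17, 10], [19, 12], [6, 16], [24, 21], [10, 24], [24, 6], [24, 26], [23, 8], [20, 10], [23, 28], [23, 25], [6, 13], [24, 10], [19, 21], [19, 24], [24, 16], [20, 24], [6, 24], [22, 23], [8, 4, 2], [18, 16, 28], [8, 4, 26], [18, 16, 2], [8, 4, 25], [10, 21, 8], [18, 16, 8], [8, 4, 6], [26, 22, 24], [18, 15, 2], [6, 8, 4], [18, 15, 28], [12, 10, 22], [10, 12, 21], [2, 4, 6], [18, 16, 32], [8, 21, 6], [16, 24, 30], [6, 8, 22], [8, 26, 21], [18, 15, 25], [10, 12, 22], [21, 10, 8], [18, 15, 26], [18, 16, 19], [8, 22, 26], [21, 10, 28], [8, 25, 6], [15, 14, 2], [8, 6, 22], [8, 25, 21], [24, 22, 10], [15, 24, 30], [12, 21, 23], [24, 22, 12], [18, 16, 26], [8, 26, 6], [15,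 14, 8], [26, 15, 17], [18, 16, 25], [22, 12, 6], [15, 14, 28], [10, 21, 28], [4, 26, 6], [8, 22, 28], [16, 24, 8], [18, 15, 6], [25, 15, 18], [8, 6, 21], [26, 24, 22], [4, 25, 6], [6, 18, 16], [26, 15, 18], [6, 8, 21], [23, 21, 23], [8, 25, 20], [15, 24, 26], [8, 26, 22], [8, 2, 22], [22, 10, 28], [8, 25, 22], [23, 21, 2], [15, 24, 25], [18, 16, 6], [15, 13, 26], [25, 6, 23], [15, 14, 24], [24, 28, 24], [21, 12, 2], [6, 18, 15], [25, 21, 10], [8, 21, 28], [23, 12, 28], [22, 24, 15], [16, 24, 25], [15, 13, 25], [16, 24, 26], [23, 21, 28], [22, 17, 8], [12, 21, 12], [23, 12, 8], [21, 12, 32], [15, 14, 25], [21, 23, 22], [26, 6, 23], [24, 24, 6], [23, 21, 30], [15, 13, 24], [6, 23, 8], [18, 14, 28], [8, 26, 19], [18, 14, 2], [8, 21, 8], [8, 2, 21], [24, 22, 24], [21, 12, 19], [21, 10, 6], [24, 17, 8], [6, 23, 28], [6, 23, 6], [25, 15, 22], [15, 22, 6], [8, 25,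 13], [17, 24, 30], [18, 14, 6], [22, 25, 4], [8, 2, 17], [23, 28, 23], [15, 14, 26], [8, 22, 30], [8, 16, 25], [17, 24, 20], [19, 28, 18], [8, 2, 16], [8, 22, 18], [23, 21, 12], [23, 21, 4], [21, 8, 12], [26, 14, 32], [25, 21, 20], [8, 21, 32], [8, 16, 12], [22, 12, 22], [18, 14, 23], [23, 16, 6], [23, 12, 23], [20, 22, 23], [24, 30, 23], [8, 22, 22], [8, 22, 32], [24, 18, 8], [24, 22, 14], [22, 28, 22], [22, 10, 12], [21, 12, 8], [23, 23, 8], [23, 21, 6], [21, 12, 20], [18, 24, 8], [23, 12, 6], [19, 23, 10], [24, 22, 4], [25, 16, 22], [8, 25, 14], [8, 26, 13], [14, 25, 32], [13, 8, 32], [25, 13, 18], [22, 26, 4], [21, 12, 30], [8, 18, 12], [19, 22, 26], [8, 2, 18], [12, 16, 30], [23, 26, 23], [23, 30, 24], [13, 8, 10], [8, 25, 10], [24, 22, 6], [22, 12, 30], [18, 15, 12], [21, 8, 20], [8, 15, 26], [8, 16, 26], [14, 26, 32], [20, 28, 17], [26, 19, 17], [18,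 16, 13], [19, 28, 17], [8, 26, 15], [8, 2, 15], [8, 19, 16], [8, 19, 22], [22, 25, 32], [24, 24, 12], [8, 22, 17], [12, 22, 19], [6, 22, 24], [2, 6, 21], [21, 12, 15], [17, 21, 6], [8, 15, 12], [22, 25, 13], [6, 23, 20], [12, 10, 23], [12, 23, 15], [6, 23, 23], [12, 22, 32], [23, 15, 6], [12, 6, 22], [22, 24, 24], [22, 26, 19], [4, 25, 12], [6, 23, 19], [25, 20, 22], [22, 12, 32], [17, 24, 8], [12, 22, 28], [23, 23, 4], [24, 22, 13], [14, 8, 32], [8, 6, 23], [21, 10, 23], [10, 21, 23], [23, 21, 24], [24, 22, 8], [24, 24, 8], [24, 24, 4], [19, 17, 26], [4, 25, 24], [12, 16, 32], [10, 23, 19], [18, 14, 25], [8, 24, 18], [21, 8, 32], [21, 19, 25], [25, 20, 23], [8, 26, 14], [21, 12, 17], [13, 28, 32], [26, 13, 18], [10, 12, 23], [4, 25, 10], [25, 6, 21], [23, 21, 17], [8, 17, 12], [21, 14, 8], [26, 23, 13], [19, 22, 25], [18, 15, 24], [20, 22, 25], [8, 6, 18],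 [15, 12, 30], [4, 26, 10], [20, 22, 26], [19, 25, 13], [15, 23, 25], [10, 21, 13], [22, 8, 32], [16, 24, 18], [14, 8, 10], [8, 14, 10], [8, 26, 10], [15, 12, 17], [24, 22, 25], [8, 24, 22], [21, 8, 28], [18, 16, 12], [21, 8, 19], [22, 25, 16], [8, 16, 10], [4, 23, 22], [25, 13, 25], [22, 25, 22], [25, 20, 18], [18, 16, 30], [20, 28, 18], [23, 16, 25], [26, 19, 18], [10, 23, 21], [10, 21, 15], [18, 16, 14], [8, 26, 16], [8, 25, 15], [8, 19, 15], [16, 24, 24], [19, 25, 16], [8, 25, 16], [2, 4, 24], [17, 24, 14], [8, 20, 22], [24, 16, 25], [24, 18, 13], [23, 10, 6], [8, 24, 15], [22, 19, 8], [12, 22, 20], [23, 21, 16], [4, 26, 21], [12, 21, 6], [26, 12, 21], [24, 21, 24], [15, 24, 24], [2, 21, 28], [12, 21, 24], [2, 18, 10], [10, 23, 6], [21, 12, 16], [8, 25, 17], [22, 25, 14], [6, 21, 17], [15, 14, 23], [12, 6, 14], [24, 30, 15], [6, 8, 20], [4, 25, 22], [22,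 8, 6], [23, 6, 21], [19, 8, 12], [26, 21, 24], [15, 24, 12], [6, 15, 24], [10, 23, 30], [22, 23, 23], [13, 25, 21], [14, 26, 21], [22, 26, 20], [22, 25, 19], [17, 26, 22], [2, 4, 10], [8, 26, 12], [19, 28, 22], [8, 6, 10], [22, 30, 15], [25, 19, 22], [17, 25, 20], [19, 16, 23], [22, 28, 8], [8, 16, 23], [10, 6, 18], [15, 14, 12], [15, 32, 12], [10, 21, 12], [21, 20, 25], [6, 21, 15], [15, 12, 32], [4, 26, 24], [10, 12, 14], [24, 13, 16], [22, 22, 28], [2, 19, 10], [18, 14, 26], [23, 10, 8], [10, 12, 20], [26, 19, 21], [10, 23, 8], [12, 21, 32], [24, 22, 28], [25, 19, 23], [26, 20, 23], [19, 28, 30], [8, 20, 21], [23, 8, 22], [21, 12, 18], [8, 25, 24], [26, 10, 23], [23, 23, 13], [8, 6, 20], [26, 6, 21], [22, 26, 30], [23, 17, 21], [17, 12, 8], [13, 28, 19], [21, 8, 13], [8, 21, 24], [16, 23, 6], [8, 23, 22], [25, 12, 18], [18, 16, 24], [20, 28, 22], [8, 6,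 17], [6, 8, 18], [19, 25, 14], [16, 23, 26], [10, 21, 14], [4, 6, 22], [2, 4, 12], [16, 24, 17], [8, 25, 18], [24, 15, 26], [8, 6, 19], [24, 22, 23], [12, 22, 15], [25, 10, 24], [2, 15, 21], [6, 10, 15], [8, 4, 12], [15, 12, 18], [21, 20, 8], [2, 6, 22], [23, 23, 15], [24, 24, 21], [21, 8, 17], [15, 12, 6], [8, 4, 24], [13, 8, 26], [25, 10, 23], [23, 16, 26], [25, 20, 17], [23, 10, 21], [18, 15, 30], [19, 25, 17], [23, 21, 10], [10, 21, 16], [19, 25, 15], [22, 30, 16], [19, 28, 14], [23, 16, 2], [22, 26, 18], [6, 8, 17], [17, 24, 13], [6, 8, 15], [23, 30, 16], [15, 14, 20], [22, 25, 20], [21, 23, 19], [8, 24, 16], [8, 2, 23], [22, 20, 8], [18, 14, 10], [22, 28, 19], [17, 25, 13], [23, 21, 15], [23, 30, 15], [21, 8, 6], [6, 8, 16], [21, 8, 24], [8, 17, 25], [26, 15, 23], [6, 12, 13], [4, 21, 24], [6, 8, 19], [8, 26, 17], [2, 20, 23], [15, 13, 23], [12, 6, 13],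 [6, 19, 21], [19, 16, 26], [24, 13, 21], [14, 25, 18], [24, 13, 24], [25, 13, 10], [6, 20, 21], [23, 15, 25], [26, 12, 22], [19, 25, 12], [19, 25, 10], [8, 20, 12], [15, 23, 28], [12, 10, 24], [16, 24, 12], [8, 6, 24], [18, 16, 21], [21, 24, 25], [14, 25, 21], [18, 25, 22], [18, 16, 23], [24, 12, 15], [8, 25, 12], [21, 8, 15], [22, 25, 17], [17, 25, 19], [14, 26, 20], [26, 12, 15], [10, 12, 19], [25, 10, 18], [8, 15, 23], [25, 10, 14], [6, 10, 18], [10, 6, 17], [16, 32, 12], [2, 21, 24], [15, 12, 19], [21, 12, 10], [20, 23, 28], [19, 23, 28], [15, 14, 22], [22, 26, 17], [24, 13, 15], [8, 26, 24], [12, 10, 14], [25, 6, 13], [10, 12, 13], [13, 8, 21], [15, 22, 23], [21, 12, 13], [8, 19, 10], [19, 28, 12], [2, 20, 10], [12, 10, 20], [25, 6, 19], [25, 19, 21], [10, 12, 24], [26, 20, 21], [26, 6, 19], [25, 24, 16], [21, 10, 12], [24, 15, 28], [26, 19, 23], [26,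 6, 20], [2, 19, 23], [17, 26, 32], [24, 21, 23], [8, 19, 21], [26, 23, 32], [23, 22, 12], [4, 25, 23], [24, 24, 13], [2, 4, 23], [16, 24, 22], [24, 18, 12], [22, 25, 30], [19, 8, 10], [13, 28, 20], [21, 8, 14], [21, 12, 24], [25, 10, 17], [23, 23, 22], [26, 23, 30], [19, 23, 18], [6, 10, 17], [14, 28, 21], [15, 12, 23], [6, 21, 14], [26, 24, 12], [23, 22, 6], [26, 12, 18], [6, 21, 13], [25, 12, 17], [20, 28, 14], [21, 10, 24], [21, 12, 14], [8, 19, 14], [17, 24, 21], [6, 23, 32], [19, 28, 16], [8, 26, 18], [15, 14, 19], [8, 22, 19], [10, 6, 19], [2, 16, 21], [6, 10, 16], [26, 10, 24], [14, 25, 20], [19, 14, 28], [25, 20, 13], [15, 25, 6], [25, 6, 10], [8, 4, 10], [21, 8, 18], [8, 16, 28], [8, 15, 28], [2, 19, 12], [14, 8, 25], [13, 8, 25], [25, 10, 15], [25, 6, 20], [8, 19, 17], [19, 25, 18], [14, 8, 21], [19, 28, 13], [2, 15, 23], [21, 8, 16], [20, 28, 13],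 [22, 25, 18], [8, 6, 13], [8, 6, 15], [2, 6, 16], [22, 10, 19], [24, 16, 28], [18, 15, 23], [25, 12, 16], [8, 22, 20], [8, 26, 23], [21, 23, 20], [26, 24, 32], [18, 22, 6], [20, 22, 16], [24, 18, 10], [22, 19, 26], [22, 20, 25], [22, 28, 20], [17, 25, 14], [22, 10, 20], [25, 24, 15], [8, 6, 14], [8, 6, 16], [2, 6, 15], [15, 30, 26], [22, 10, 22], [2, 16, 23], [26, 10, 14], [25, 19, 12], [22, 30, 24], [10, 24, 21], [19, 16, 25], [8, 4, 23], [18, 23, 20], [16, 32, 26], [15, 22, 24], [21, 10, 21], [8, 25, 23], [13, 28, 6], [25, 12, 15], [16, 32, 25], [8, 19, 12], [2, 20, 12], [20, 28, 10], [20, 28, 21], [6, 8, 24], [15, 21, 20], [25, 20, 21], [24, 12, 16], [25, 20, 15], [24, 12, 21], [6, 22, 20], [26, 6, 12], [8, 19, 18], [24, 18, 16], [26, 12, 16], [12, 10, 19], [21, 24, 8], [20, 28, 12], [12, 6, 24], [26, 19, 10], [15, 12, 20], [10, 21, 24], [4, 6, 24], [25,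 6, 24], [24, 28, 17], [10, 21, 21], [2, 15, 28], [26, 24, 16], [26, 6, 13], [12, 10, 13], [21, 14, 25], [25, 6, 15], [25, 6, 14], [8, 2, 24], [26, 23, 22], [21, 13, 25], [8, 20, 10], [25, 20, 12], [6, 10, 20], [24, 10, 21], [4, 23, 6], [4, 12, 23], [25, 20, 10], [20, 28, 30], [24, 22, 15], [26, 24, 15], [15, 24, 22], [17, 24, 12], [6, 12, 24], [14, 28, 19], [24, 24, 22], [26, 12, 17], [26, 6, 18], [19, 24, 21], [24, 12, 8], [20, 24, 21], [26, 19, 13], [17, 24, 15], [12, 10, 18], [20, 28, 15], [26, 19, 15], [26, 20, 12], [16, 24, 20], [25, 12, 23], [18, 28, 22], [25, 13, 22], [26, 19, 14], [25, 20, 16], [25, 20, 14], [19, 28, 10], [26, 12, 14], [13, 28, 21], [6, 8, 13], [24, 21, 10], [6, 8, 14], [16, 24, 19], [20, 28, 16], [10, 12, 15], [22, 19, 25], [22, 20, 26], [21, 18, 24], [19, 28, 23], [19, 25, 23], [19, 8, 23], [20, 28, 23], [6, 22, 19], [26, 19, 12],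 [26, 20, 10], [17, 24, 24], [24, 13, 12], [26, 19, 16], [6, 18, 22], [12, 10, 17], [25, 19, 10], [10, 12, 17], [26, 6, 24], [26, 6, 15], [26, 6, 14], [25, 6, 18], [25, 6, 16], [26, 6, 17], [26, 12, 23], [24, 30, 10], [8, 19, 23], [18, 24, 10], [10, 12, 18], [10, 12, 16], [25, 6, 17], [12, 10, 16], [8, 20, 23], [26, 6, 16], [18, 16, 28, 2], [10, 21, 8, 2], [18, 15, 28, 6], [10, 21, 8, 6], [8, 26, 21, 21], [24, 28, 24, 2], [24, 28, 24, 4], [23, 12, 8, 23], [26, 22, 24, 21], [8, 25, 21, 21], [18, 16, 8, 12], [23, 21, 2, 28], [26, 24, 22, 10], [25, 15, 18, 6], [26, 24, 22, 25], [23, 12, 8, 6], [6, 23, 8, 23], [25, 6, 23, 23], [8, 21, 6, 21], [6, 8, 22, 32], [8, 6, 21, 18], [24, 28, 24, 28], [18, 16, 28, 12], [25, 15, 18, 12], [24, 22, 12, 10], [24, 22, 10, 6], [24, 22, 12, 26], [6, 8, 21, 15], [22, 24, 15, 8], [12, 21, 23, 32], [8, 6, 21, 17], [6, 8, 21, 18], [8,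 6, 21, 16], [24, 28, 24, 10], [21, 12, 2, 16], [6, 8, 21, 16], [8, 6, 21, 15], [23, 21, 4, 24], [23, 21, 2, 24], [22, 12, 22, 10], [6, 8, 21, 17], [18, 16, 28, 21], [10, 12, 22, 30], [21, 10, 28, 24], [18, 15, 25, 14], [15, 13, 25, 19], [18, 15, 26, 13], [10, 21, 28, 24], [24, 22, 24, 19], [22, 17, 8, 24], [22, 10, 28, 22], [6, 22, 24, 17], [16, 24, 30, 24], [18, 15, 28, 14], [15, 24, 30, 24], [15, 14, 28, 22], [18, 14, 28, 30], [8, 22, 28, 19], [22, 12, 6, 20], [24, 22, 13, 24], [15, 24, 26, 20]], [[], [6], [4], [2], [6, 4], [6, 2], [4, 2], [6, 4, 2]]]⟩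
noncomputable def FQ : FD := ⟨1000000007, (.node 494220306 (.node 252015057 (.node 63976585 (.node 42994607 (.node 17550944 (.leaf ⟨15565766, [39, 36], 1⟩) (.node 31196563 (.leaf ⟨17550944, [37, 39, 32, 36, 33], 1⟩) (.leaf ⟨31196563, [40], 1⟩))) (.node 48740269 (.node 44152144 (.leaf ⟨42994607, [36, 39, 38], 1⟩) (.leaf ⟨44152144, [37, 39, 32, 36, 39], 1⟩)) (.node 57612385 (.leaf ⟨48740269, [36, 40, 34], 1⟩) (.leaf ⟨57612385, [37, 40], 1⟩)))) (.node 92446346 (.node 67628574 (.leaf ⟨63976585, [36, 39, 32, 37], 1⟩) (.node 79801136 (.leaf ⟨67628574, [37, 39], 1⟩) (.leaf ⟨79801136, [37, 39, 32, 36, 33, 39], 1⟩))) (.node 233479385 (.node 105379686 (.leaf ⟨92446346, [36, 40, 34, 38, 40], 1⟩) (.leaf ⟨105379686, [40, 32], 1⟩)) (.node 237270349 (.leaf ⟨233479385, [36, 40, 34, 38, 40, 31, 35], 1⟩) (.leaf ⟨237270349, [36, 39, 38, 31, 40], 1⟩))))) (.node 368811812 (.node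 264193225 (.node 260393006 (.leaf ⟨252015057, [36, 39, 38, 31], 1⟩) (.node 262359707 (.leaf ⟨260393006, [37, 39, 37], 1⟩) (.leaf ⟨262359707, [40, 34, 37], 1⟩))) (.node 320906787 (.node 266365333 (.leaf ⟨264193225, [34], 1⟩) (.leaf ⟨266365333, [37, 39, 32, 36, 33, 39, 37], 1⟩)) (.node 367966994 (.leaf ⟨320906787, [36, 39, 32], 1⟩) (.leaf ⟨367966994, [37], 1⟩)))) (.node 388984964 (.node 376473662 (.leaf ⟨368811812, [36, 39, 32, 38, 33], 1⟩) (.node 379024267 (.leaf ⟨376473662, [39, 38], 1⟩) (.leaf ⟨379024267, [], 0⟩))) (.node 449817605 (.node 403638770 (.leaf ⟨388984964, [39, 36, 32], 1⟩) (.leaf ⟨403638770, [37, 39, 31, 36], 1⟩)) (.node 470394472 (.leaf ⟨449817605, [37, 39, 31], 1⟩) (.leaf ⟨470394472, [37, 39, 32], 1⟩)))))) (.node 798363229 (.node 580433161 (.node 508666835 (.node 506134470 (.leaf ⟨494220306, [36, 39, 32, 38], 1⟩) (.node 507624145 (.leaf ⟨506134470,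 [36, 39, 38, 31, 40, 31], 1⟩) (.leaf ⟨507624145, [36, 40, 34, 38], 1⟩))) (.node 572652055 (.node 547633942 (.leaf ⟨508666835, [36, 39, 32, 38, 34], 1⟩) (.leaf ⟨547633942, [37, 39, 32, 35], 1⟩)) (.node 573986120 (.leaf ⟨572652055, [39], 1⟩) (.leaf ⟨573986120, [40, 35], 1⟩)))) (.node 717640975 (.node 631307713 (.leaf ⟨580433161, [40, 31], 1⟩) (.node 664491079 (.leaf ⟨631307713, [36], 1⟩) (.leaf ⟨664491079, [37, 39, 32, 36], 1⟩))) (.node 775782687 (.node 751053057 (.leaf ⟨717640975, [34, 31], 1⟩) (.leaf ⟨751053057, [], 1⟩)) (.node 785813817 (.leaf ⟨775782687, [], 4⟩) (.leaf ⟨785813817, [33, 40], 1⟩))))) (.node 900808552 (.node 833820178 (.node 804745204 (.leaf ⟨798363229, [36, 39, 32, 38, 34, 39], 1⟩) (.node 817834412 (.leaf ⟨804745204, [37, 40, 34], 1⟩) (.leaf ⟨817834412, [36, 40, 34, 38, 40, 31], 1⟩))) (.node 840857007 (.node 834984892 (.leaf ⟨833820178, [36,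 40], 1⟩) (.leaf ⟨834984892, [36, 39, 32, 38, 40], 1⟩)) (.node 871448914 (.leaf ⟨840857007, [36, 39, 37], 1⟩) (.leaf ⟨871448914, [36, 39, 31], 1⟩)))) (.node 928154246 (.node 903836772 (.leaf ⟨900808552, [40, 34], 1⟩) (.node 907025039 (.leaf ⟨903836772, [33], 1⟩) (.leaf ⟨907025039, [36, 39, 38, 33], 1⟩))) (.node 988746563 (.node 949540192 (.leaf ⟨928154246, [36, 39, 32, 38, 34, 39, 37], 1⟩) (.leaf ⟨949540192, [39, 37], 1⟩)) (.node 993115970 (.leaf ⟨988746563, [36, 39], 1⟩) (.leaf ⟨993115970, [36, 39, 38, 31, 40, 31, 35], 1⟩))))))), [[[], [2], [8], [4], [12], [10], [6], [14], [13], [8, 4], [2, 4], [12, 8], [8, 12], [2, 8], [4, 12], [2, 12], [4, 10], [8, 10], [4, 6], [12, 6], [2, 10], [10, 12], [8, 6], [2, 6], [4, 13], [8, 13], [4, 14], [8, 14], [12, 14], [12, 13], [10, 13], [10, 14], [6, 13], [6, 14], [8, 4, 2], [2, 4, 12], [12, 8, 4], [8, 4, 12], [2, 4, 10],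 [8, 4, 10], [2, 4, 6], [4, 12, 6], [4, 10, 12], [8, 4, 6], [8, 4, 14], [12, 8, 13], [8, 4, 13], [12, 8, 14], [4, 12, 13], [4, 12, 14], [4, 10, 14], [4, 10, 13], [8, 10, 13], [4, 6, 14], [8, 10, 14], [10, 12, 13], [4, 6, 13], [10, 12, 14], [12, 8, 4, 14], [12, 8, 4, 13], [8, 4, 10, 14], [8, 4, 10, 13], [4, 10, 12, 14], [4, 10, 12, 13]], [[], [2]]]⟩
noncomputable def nQ : List (List (List Nat)) := [[[11, 9, 3, 1], [11, 9], [5], [7], [9, 7, 5, 3], [11], [13]], [[11, 9, 3, 1], [13, 9, 7, 5, 1], [11, 7, 1], [13, 11, 5, 1], [7, 5, 3, 1], [13, 7, 5, 1], [13]], [[13, 11, 9, 7, 1], [13, 11, 5, 1], [11, 3, 1], [13, 9, 5, 3, 1], [7, 5, 3, 1], [5, 3, 1], [13]], [[11, 5, 3], [13, 11, 5, 1], [13, 7], [11, 3, 1], [9], [5, 3, 1], [13]], [[1], [9, 7, 5, 3], [9, 7, 3, 1], [13, 9, 5, 3, 1], [7, 5, 3, 1], [11, 9, 7, 5, 3, 1], [13]]]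
noncomputable def ts : List (List Nat) := [[(nat_lit 27)],
  [(nat_lit 29)],
  [(nat_lit 27), (nat_lit 27)],
  [(nat_lit 29), (nat_lit 27)],
  [(nat_lit 27), (nat_lit 29)],
  [(nat_lit 29), (nat_lit 29)],
  [(nat_lit 27), (nat_lit 27), (nat_lit 27)],
  [(nat_lit 29), (nat_lit 27), (nat_lit 27)],
  [(nat_lit 29), (nat_lit 29), (nat_lit 27)],
  [(nat_lit 27), (nat_lit 27), (nat_lit 29)],
  [(nat_lit 29), (nat_lit 27), (nat_lit 29)],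
  [(nat_lit 27), (nat_lit 29), (nat_lit 29)],
  [(nat_lit 29), (nat_lit 27), (nat_lit 27), (nat_lit 27)],
  [(nat_lit 29), (nat_lit 29), (nat_lit 27), (nat_lit 27)],
  [(nat_lit 27), (nat_lit 29), (nat_lit 29), (nat_lit 27)],
  [(nat_lit 27), (nat_lit 27), (nat_lit 27), (nat_lit 29)],
  [(nat_lit 29), (nat_lit 27), (nat_lit 27), (nat_lit 29)],
  [(nat_lit 29), (nat_lit 29), (nat_lit 27), (nat_lit 29)],
  [(nat_lit 27), (nat_lit 27), (nat_lit 29), (nat_lit 29)],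
  [(nat_lit 29), (nat_lit 27), (nat_lit 29), (nat_lit 29)],
  [(nat_lit 29), (nat_lit 29), (nat_lit 27), (nat_lit 27), (nat_lit 27)],
  [(nat_lit 27), (nat_lit 29), (nat_lit 29), (nat_lit 27), (nat_lit 27)],
  [(nat_lit 27), (nat_lit 27), (nat_lit 29), (nat_lit 29), (nat_lit 27)],
  [(nat_lit 29), (nat_lit 27), (nat_lit 29), (nat_lit 29), (nat_lit 27)],
  [(nat_lit 29), (nat_lit 27), (nat_lit 27), (nat_lit 27), (nat_lit 29)],
  [(nat_lit 29), (nat_lit 29), (nat_lit 27), (nat_lit 27), (nat_lit 29)],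
  [(nat_lit 29), (nat_lit 27), (nat_lit 27), (nat_lit 29), (nat_lit 29)],
  [(nat_lit 29), (nat_lit 29), (nat_lit 27), (nat_lit 29), (nat_lit 29)],
  [(nat_lit 27), (nat_lit 29), (nat_lit 29), (nat_lit 27), (nat_lit 27), (nat_lit 27)],
  [(nat_lit 27), (nat_lit 27), (nat_lit 29), (nat_lit 29), (nat_lit 27), (nat_lit 27)],
  [(nat_lit 29), (nat_lit 27), (nat_lit 29), (nat_lit 29), (nat_lit 27), (nat_lit 27)],
  [(nat_lit 29), (nat_lit 27), (nat_lit 27), (nat_lit 29), (nat_lit 29), (nat_lit 27)],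
  [(nat_lit 29), (nat_lit 29), (nat_lit 27), (nat_lit 29), (nat_lit 29), (nat_lit 27)],
  [(nat_lit 29), (nat_lit 29), (nat_lit 27), (nat_lit 27), (nat_lit 27), (nat_lit 29)],
  [(nat_lit 27), (nat_lit 29), (nat_lit 29), (nat_lit 27), (nat_lit 27), (nat_lit 29)],
  [(nat_lit 29), (nat_lit 29), (nat_lit 27), (nat_lit 27), (nat_lit 29), (nat_lit 29)],
  [(nat_lit 27), (nat_lit 27), (nat_lit 29), (nat_lit 29), (nat_lit 27), (nat_lit 27), (nat_lit 27)],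
  [(nat_lit 29), (nat_lit 27), (nat_lit 29), (nat_lit 29), (nat_lit 27), (nat_lit 27), (nat_lit 27)],
  [(nat_lit 29), (nat_lit 27), (nat_lit 27), (nat_lit 29), (nat_lit 29), (nat_lit 27), (nat_lit 27)],
  [(nat_lit 29), (nat_lit 29), (nat_lit 27), (nat_lit 29), (nat_lit 29), (nat_lit 27), (nat_lit 27)],
  [(nat_lit 29), (nat_lit 29), (nat_lit 27), (nat_lit 27), (nat_lit 29), (nat_lit 29), (nat_lit 27)],
  [(nat_lit 27), (nat_lit 29), (nat_lit 29), (nat_lit 27), (nat_lit 27), (nat_lit 27), (nat_lit 29)],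
  [(nat_lit 27), (nat_lit 27), (nat_lit 29), (nat_lit 29), (nat_lit 27), (nat_lit 27), (nat_lit 29)],
  [(nat_lit 27), (nat_lit 29), (nat_lit 29), (nat_lit 27), (nat_lit 27), (nat_lit 29), (nat_lit 29)],
  [(nat_lit 29), (nat_lit 27), (nat_lit 27), (nat_lit 29), (nat_lit 29), (nat_lit 27), (nat_lit 27), (nat_lit 27)],
  [(nat_lit 29), (nat_lit 29), (nat_lit 27), (nat_lit 29), (nat_lit 29), (nat_lit 27), (nat_lit 27), (nat_lit 27)],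
  [(nat_lit 29), (nat_lit 29), (nat_lit 27), (nat_lit 27), (nat_lit 29), (nat_lit 29), (nat_lit 27), (nat_lit 27)],
  [(nat_lit 27), (nat_lit 29), (nat_lit 29), (nat_lit 27), (nat_lit 27), (nat_lit 29), (nat_lit 29), (nat_lit 27)],
  [(nat_lit 27), (nat_lit 27), (nat_lit 29), (nat_lit 29), (nat_lit 27), (nat_lit 27), (nat_lit 27), (nat_lit 29)],
  [(nat_lit 29), (nat_lit 27), (nat_lit 29), (nat_lit 29), (nat_lit 27), (nat_lit 27), (nat_lit 27), (nat_lit 29)],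
  [(nat_lit 29), (nat_lit 27), (nat_lit 27), (nat_lit 29), (nat_lit 29), (nat_lit 27), (nat_lit 27), (nat_lit 29)],
  [(nat_lit 27), (nat_lit 27), (nat_lit 29), (nat_lit 29), (nat_lit 27), (nat_lit 27), (nat_lit 29), (nat_lit 29)],
  [(nat_lit 27), (nat_lit 29), (nat_lit 29), (nat_lit 27), (nat_lit 27), (nat_lit 29), (nat_lit 29), (nat_lit 27), (nat_lit 27)],
  [(nat_lit 27), (nat_lit 27), (nat_lit 29), (nat_lit 29), (nat_lit 27), (nat_lit 27), (nat_lit 29), (nat_lit 29), (nat_lit 27)],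
  [(nat_lit 29), (nat_lit 27), (nat_lit 27), (nat_lit 29), (nat_lit 29), (nat_lit 27), (nat_lit 27), (nat_lit 27), (nat_lit 29)],
  [(nat_lit 29), (nat_lit 29), (nat_lit 27), (nat_lit 29), (nat_lit 29), (nat_lit 27), (nat_lit 27), (nat_lit 27), (nat_lit 29)],
  [(nat_lit 29), (nat_lit 29), (nat_lit 27), (nat_lit 27), (nat_lit 29), (nat_lit 29), (nat_lit 27), (nat_lit 27), (nat_lit 29)],
  [(nat_lit 29), (nat_lit 27), (nat_lit 27), (nat_lit 29), (nat_lit 29), (nat_lit 27), (nat_lit 27), (nat_lit 29), (nat_lit 29)],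
  [(nat_lit 29), (nat_lit 27), (nat_lit 27), (nat_lit 29), (nat_lit 29), (nat_lit 27), (nat_lit 27), (nat_lit 29), (nat_lit 29), (nat_lit 27)]]
noncomputable def tb : List (List (Nat × List Nat)) := [[(1, []), (2, [])], [(3, []), (4, [])], [(5, []), (6, [])], [(7, []), (8, [])], [(6, [19, 9, 7, 3, 1]), (9, [])], [(10, []), (11, [])], [(12, []), (0, [])], [(11, [11, 7, 1]), (13, [])], [(9, [19, 17, 15, 13, 11, 9, 7, 3]), (14, [])], [(15, []), (1, [])], [(16, []), (17, [])], [(0, [17, 11, 7, 1]), (18, [])], [(19, []), (20, [])], [(14, [15, 5, 1]), (21, [])], [(22, []), (3, [])], [(23, []), (24, [])], [(20, [17, 15, 5]), (25, [])], [(18, [19, 17, 15, 13, 11, 9, 7]), (26, [])], [(21, [17, 13, 11, 5]), (5, [])], [(24, [17, 13, 9, 7, 1]), (27, [])], [(2, [15, 5]), (28, [])], [(29, []), (7, [])], [(30, []), (31, [])], [(31, [17, 15, 13, 9, 7, 3, 1]), (32, [])], [(4,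 [13, 3]), (33, [])], [(26, [19, 17, 9, 7, 3]), (34, [])], [(35, []), (10, [])], [(28, [17, 15, 13, 11, 9, 5, 1]), (36, [])], [(34, [19, 15, 13, 7, 3, 1]), (12, [])], [(37, []), (38, [])], [(38, [19, 15, 9, 7, 3]), (39, [])], [(8, [11, 1]), (40, [])], [(33, [15, 7, 5, 1]), (41, [])], [(36, [19, 13, 11, 9, 1]), (15, [])], [(42, []), (16, [])], [(43, []), (37, [19, 17, 9, 7, 5, 1])], [(44, []), (19, [])], [(17, [19, 15, 9, 7, 5]), (45, [])], [(13, [19, 9, 7, 5, 3, 1]), (46, [])], [(40, [19, 17, 13, 7, 1]), (47, [])], [(41, [17, 15, 13, 7, 5, 3, 1]), (22, [])], [(48, []), (23, [])], [(49, []), (50, [])], [(50, [19, 11, 9, 7]), (51, [])], [(52, []), (49, [17, 11, 7, 5, 3, 1])], [(46, [11, 7, 3, 1]), (35, [17, 9, 7, 5, 1])], [(47, [19, 17, 13, 11, 7]), (29, [])], [(53, []), (30, [])], [(54, []), (52, [3, 1])], [(27, [19, 17, 11, 9, 7, 5, 3]), (55, [])], [(25, [19,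 11, 3]), (56, [])], [(45, [17, 13, 9, 7, 1]), (57, [])], [(32, [19, 15, 13, 11, 9, 7, 5]), (58, [])], [(51, [19, 17, 9, 7, 3]), (54, [19, 17, 7, 5, 3])], [(39, [17, 15, 5, 3]), (59, [])], [(56, [19, 15, 7, 1]), (44, [19, 17, 11, 7, 5, 3, 1])], [(57, [17, 15, 13, 5, 1]), (42, [])], [(59, [17, 1]), (43, [])], [(55, [17, 13, 11, 5]), (48, [3, 1])], [(58, [11, 7, 1]), (53, [19, 17, 7, 5, 3])]]
noncomputable def lkU : List (List Nat) := [[(nat_lit 34), (nat_lit 36), (nat_lit 32)],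
  [(nat_lit 35), (nat_lit 34), (nat_lit 39)],
  [(nat_lit 36), (nat_lit 32), (nat_lit 39)],
  [(nat_lit 36), (nat_lit 32), (nat_lit 39), (nat_lit 38)],
  [(nat_lit 34), (nat_lit 36), (nat_lit 31)],
  [(nat_lit 36), (nat_lit 32), (nat_lit 39), (nat_lit 32), (nat_lit 38), (nat_lit 34), (nat_lit 39), (nat_lit 37)],
  [(nat_lit 36), (nat_lit 32), (nat_lit 39), (nat_lit 32), (nat_lit 38), (nat_lit 34), (nat_lit 39)],
  [(nat_lit 36), (nat_lit 32), (nat_lit 39), (nat_lit 32)],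
  [(nat_lit 36), (nat_lit 32), (nat_lit 39), (nat_lit 32), (nat_lit 38)],
  [(nat_lit 36), (nat_lit 32), (nat_lit 39), (nat_lit 32), (nat_lit 38), (nat_lit 34)]]
noncomputable def lkQ : List (List Nat) := [[(nat_lit 11), (nat_lit 9), (nat_lit 1)],
  [(nat_lit 9), (nat_lit 7), (nat_lit 5)],
  [(nat_lit 13), (nat_lit 7), (nat_lit 3)],
  [(nat_lit 13), (nat_lit 7), (nat_lit 3)],
  [(nat_lit 11), (nat_lit 9), (nat_lit 5), (nat_lit 3)],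
  [(nat_lit 13), (nat_lit 7), (nat_lit 3)],
  [(nat_lit 13), (nat_lit 7), (nat_lit 3)],
  [(nat_lit 13), (nat_lit 7), (nat_lit 3)],
  [(nat_lit 13), (nat_lit 7), (nat_lit 3)],
  [(nat_lit 13), (nat_lit 7), (nat_lit 3)]]
noncomputable def r8 : List (List Nat) := [[(nat_lit 3), (nat_lit 3), (nat_lit 3)],
  [(nat_lit 1), (nat_lit 1), (nat_lit 4), (nat_lit 1), (nat_lit 1), (nat_lit 4), (nat_lit 1), (nat_lit 1), (nat_lit 4), (nat_lit 1), (nat_lit 1), (nat_lit 4), (nat_lit 1), (nat_lit 1), (nat_lit 4)]]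
noncomputable def wqs : List Nat := [(nat_lit 1), (nat_lit 3), (nat_lit 21), (nat_lit 19), (nat_lit 17), (nat_lit 15)]
noncomputable def wb : List Nat := [(nat_lit 5), (nat_lit 13), (nat_lit 5), (nat_lit 13), (nat_lit 6), (nat_lit 13), (nat_lit 6), (nat_lit 13), (nat_lit 7), (nat_lit 3)]
noncomputable def wy : List Nat := [(nat_lit 13), (nat_lit 6), (nat_lit 2), (nat_lit 13), (nat_lit 8), (nat_lit 5), (nat_lit 1), (nat_lit 13), (nat_lit 6), (nat_lit 2), (nat_lit 13), (nat_lit 8), (nat_lit 5), (nat_lit 1)]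
noncomputable def al : List Nat := [(nat_lit 8), (nat_lit 3)]
noncomputable def be : List Nat := [(nat_lit 9), (nat_lit 4)]
noncomputable def gX : List (List Nat) := [[(nat_lit 11), (nat_lit 5)],
  [(nat_lit 5), (nat_lit 11), (nat_lit 7)],
  [(nat_lit 3), (nat_lit 7), (nat_lit 1), (nat_lit 3), (nat_lit 1), (nat_lit 3), (nat_lit 5), (nat_lit 11), (nat_lit 3), (nat_lit 1), (nat_lit 3), (nat_lit 7), (nat_lit 1), (nat_lit 3), (nat_lit 1)],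
  [(nat_lit 3), (nat_lit 7), (nat_lit 3), (nat_lit 5), (nat_lit 3), (nat_lit 1), (nat_lit 3), (nat_lit 7), (nat_lit 5), (nat_lit 3), (nat_lit 1)],
  [(nat_lit 5), (nat_lit 3), (nat_lit 11), (nat_lit 9), (nat_lit 1), (nat_lit 3), (nat_lit 5), (nat_lit 11), (nat_lit 3), (nat_lit 9), (nat_lit 3), (nat_lit 7), (nat_lit 3), (nat_lit 9), (nat_lit 5), (nat_lit 3), (nat_lit 11), (nat_lit 3), (nat_lit 9), (nat_lit 7), (nat_lit 3)],
  [(nat_lit 3), (nat_lit 9), (nat_lit 1), (nat_lit 3), (nat_lit 1), (nat_lit 3), (nat_lit 5), (nat_lit 11), (nat_lit 3), (nat_lit 1), (nat_lit 3), (nat_lit 9), (nat_lit 1), (nat_lit 3), (nat_lit 1)],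
  [(nat_lit 5), (nat_lit 11), (nat_lit 3), (nat_lit 1), (nat_lit 3), (nat_lit 7), (nat_lit 1), (nat_lit 3), (nat_lit 9)]]
noncomputable def gam : List (List Nat) := [[(nat_lit 3)],
  [(nat_lit 7)],
  [(nat_lit 9)],
  [(nat_lit 11)],
  [(nat_lit 9), (nat_lit 1)],
  [(nat_lit 9), (nat_lit 5)],
  [(nat_lit 1), (nat_lit 3), (nat_lit 2), (nat_lit 13)]]
noncomputable def W6 : List (List Nat) := [[(nat_lit 3), (nat_lit 3)],
  [(nat_lit 5), (nat_lit 13), (nat_lit 5), (nat_lit 13), (nat_lit 6), (nat_lit 13), (nat_lit 6), (nat_lit 13), (nat_lit 7), (nat_lit 3)],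
  [(nat_lit 6), (nat_lit 8), (nat_lit 5), (nat_lit 2), (nat_lit 3), (nat_lit 1)],
  [(nat_lit 7), (nat_lit 3)],
  [(nat_lit 5), (nat_lit 8), (nat_lit 6), (nat_lit 3)],
  [(nat_lit 6), (nat_lit 10), (nat_lit 1), (nat_lit 10), (nat_lit 5), (nat_lit 1)]]
noncomputable def tau : List (List Nat) := [[(nat_lit 1), (nat_lit 4), (nat_lit 1)],
  [(nat_lit 4)],
  [(nat_lit 5), (nat_lit 7)],
  [(nat_lit 8)],
  [(nat_lit 10)],
  [(nat_lit 11), (nat_lit 9), (nat_lit 3), (nat_lit 3)]]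
noncomputable def wj : List Nat := [(nat_lit 39), (nat_lit 38)]
noncomputable def wj2 : List Nat := [(nat_lit 37), (nat_lit 39), (nat_lit 35)]

end CF.XT.Sz
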