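import Cfsg.Agent.XT.SzN
import Cfsg.Agent.XT.SzD
import Cfsg.Agent.Recog.U43.Model
import Cfsg.Agent.XT.WE
import Cfsg.Agent.Comp.Suz.Rels

set_option autoImplicit false
set_option maxRecDepth 1000000
set_option maxHeartbeats 0

namespace CF.XT.Sz

open CF.Comp CF.Bt CF.Recog

noncomputable def NH : List Net := lapp X X1
noncomputable def NS : List Net := lapp X XE
noncomputable def eH : List ℕ → List ℕ → Bool := sameW NH 1782 11
noncomputable def nH : List ℕ → List ℕ → Bool := difW NH 1782 11
noncomputable def eS : List ℕ → List ℕ → Bool := sameW NS 1782 11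
def wsT : List (List ℕ) := [[45], [47], [49], [51], [53], [55]]
def wsK : List (List ℕ) := [[45], [47], [49], [51], [53], [55], [73]]
def wsY : List (List ℕ) := [[45], [47], [49], [51], [53], [55], [41]]
def wsR : List (List ℕ) := [[31], [33], [35], [37], [39]]
def wsC : List (List ℕ) := [[27], [29]]
def wV : List (List ℕ) := [[], [1], [3], [1, 3]]
def s1 : List (List ℕ) := [[5], [7], [9], [11], [3], [1]]
def sR : List (List ℕ) := [[15], [17], [19], [21], [5], [7], [9], [11], [3], [1]]
def ps : List (List ℕ) := [[15], [17], [19], [21]]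
noncomputable def wC : List (List ℕ) :=
  lapp [[41], [43], [13, 67], [27], [29]] (lapp sR (lmap (subst wsT) (ltake U43.hA 4)))
def rI : List (List ℕ) := [[1], [3], [61], [55]]

theorem k1 : evsOK Suz.N 1782 11 NS (lapp wsH wsE) = true := by decide +kernel
theorem k2 : evsOK Suz.N 1782 11 X wsH = true := by decide +kernel
theorem k3 : slpOK (lapp X X1) 1782 11 W1 35 = true := by decide +kernel
theorem k4 : commW X 1782 11 (gensW 35) [[1]] = true := by decide +kernel
theorem k5 : cleOK Suz.N 1782 11 448345497600 [[1]] Da 3317760 = true := by decide +kernel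
theorem k6 : geOK NH 1782 cH 3317760 = true := by decide +kernel
theorem k7 : lall (wordIn (slpIn W1 35 wsR)) (cgens cH) = true := by decide +kernel
theorem k8 : ceqOK NH 1782 11 3317760 [3] Dv cV 61440 = true := by decide +kernel
theorem k9 : lall (wordIn (slpIn W1 35 wsC)) (cgens cV) = true := by decide +kernel
theorem k10 : ceqOK NH 1782 11 3317760 [41] Dy cY 3456 = true := by decide +kernel
theorem k11 : lall (wordIn (slpIn W1 35 wsY)) (cgens cY) = true := by decide +kernel
theorem k12 : cleOK NH 1782 11 3317760 sQ Dq 2 = true := by decide +kernel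
theorem k13 : pOK NH 1782 11 2 PT 13 = true := by decide +kernel
theorem k14 : pOK NH 1782 11 2 PQ 7 = true := by decide +kernel
theorem k15 : pOK NH 1782 11 2 PP 6 = true := by decide +kernel
theorem k16 : clOK NH 1782 11 2 cQ [[1], [3]] FQ = true := by decide +kernel
theorem k17 : nrmAll eH sQ wsR nQ = true := by decide +kernel
theorem k18 : cosOK eH wsC sR ([] :: ts) tb = true := by decide +kernel
theorem k19 : lall (fun t => lany (fun x => outL nH wV (cmW t x)) s1) ts = true := by decide +kernel
theorem k20 : lall (fun x => lall (fun r => inL eH wV (cmW r x)) sR) s1 = true := by decide +kernel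
theorem k21 : pcAll 2 (fun w => inL eH [[], [1]] (lapp w w)) sQ = true := by decide +kernel
theorem k22 : pcAll 2 (fun w => bor (inL eH wV w) (bor (nH (lapp w w) [])
    (nH (lapp w (cjW [27] w)) (lapp (cjW [27] w) w)))) s1 = true := by decide +kernel
theorem k23 : pcAll 2 (fun w => bor (inL eH wV w) (lany (fun p => outL nH [[], [1]] (cmW p w)) ps)) s1 = true := by
  decide +kernel
theorem k24 : pcAll 2 (fun w => bor (outL nH wV (cmW [41] (15 :: w))) (bor (outL nH wV (cmW [43] (15 :: w)))
    (bor (inL eH wV w) (lall (fun m => inL eH [[], [3]] (cmW m (15 :: w))) s1)))) s1 = true := by decide +kernel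
theorem k25 : pcAll 2 (fun w => bor (eH w []) (bor (eH w wqs)
    (lany (fun r => nH (subst [[27], lapp w [29]] r) []) r8))) sP = true := by decide +kernel
theorem k26 : rls eH wsC r8 = true := by decide +kernel
theorem k27 : rls eH wsT U43.RH = true := by decide +kernel
theorem k28 : allFrom (fun j => eH (cjW (nth [] lkU j) (subst wsR (nth [] WE.PW j)))
    (lapp (subst sQ (nth [] lkQ j)) [15])) 0 10 = true := by decide +kernel
theorem k29 : comAll eH [[3]] wC = true := by decide +kernel
theorem k30 : eqs eH [([15, 15], [3]), ([27, 15, 28], [17]), ([27, 17, 28], [19]), ([27, 19, 28], [21]),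
    ([31, 31, 31], []), ([33, 33, 33], []), ([35, 35, 35], []), ([37, 37, 37], []), ([39, 39, 39], []),
    ([41, 41, 41], []), ([27, 27, 27, 27, 27], []), ([13, 3, 14], [1, 3]), ([1, 1], []), ([3, 3], [])] = true := by
  decide +kernel
theorem k31 : lall (fun w => inL eH wV w) [cmW [41] [15], cmW [43] [15]] = true := by decide +kernel
theorem k32 : lall (fun p : List ℕ × List ℕ => nH p.1 p.2) [([1], []), ([3], []), ([3], [1]), ([41, 61], [61, 41]),
    ([27], []), ([13], []), ([13], [1])] = true := by decide +kernel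
theorem k33 : eqs eH [([1], subst wsT [3, 3]), ([3], subst wsT [3, 7]), ([13], subst wsT [1, 3, 2]),
    ([57], subst wsT (nth [] W6 2)), ([63], subst wsT (nth [] W6 3)), ([65], subst wsT (nth [] W6 4)),
    ([59, 57, 59], subst wsT (nth [] W6 5)), ([59, 69], subst wsT al), ([43, 60], subst wsT be),
    (cjW wj [3], subst wsT (nth [] U43.hA 0)), (cjW wj2 [55], [1, 55])] = true := by decide +kernel
theorem k34 : allFrom (fun i => eH (cjW [59] (nth [] wsT i)) (subst wsT (nth [] tau i))) 0 6 = true := by
  decide +kernel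
theorem k35 : rls eH wsT (lmap (fun w => wpow w 8) (ltake gam 6 ++ [subst U43.hA [1, 5, 7, 1]])) = true := by
  decide +kernel
theorem k36 : eqs eS [([75, 75], []), ([75, 27, 76], [27]), ([75, 29, 76], lapp wqs [29]), ([73], [67, 75]),
    (cjW [73] (subst wsK (nth [] U43.hA 0)), subst wsK (nth [] U43.hA 2)),
    (cjW [73] (subst wsK (nth [] U43.hA 1)), subst wsK (nth [] U43.hA 3)),
    (cjW [73] (subst wsK (nth [] U43.hA 2)), subst wsK (subst U43.hA [1, 5])),
    (cjW [73] (subst wsK (nth [] U43.hA 3)), subst wsK (subst U43.hA [3, 7])),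
    ([13, 67, 75, 13, 67, 76], subst wsK (subst U43.hA [1, 5, 7, 1])), ([73, 41, 74], [41]),
    (subst wsK wb, [71]), (subst wsK wy, [41]), ([73, 44, 74], [69]), ([71, 61, 72], [61]),
    (wpow [71, 57, 59, 57, 59] 5, [41]), ([73, 1, 74], [3]), ([77, 61], [61, 77])] = true := by decide +kernel
theorem k37 : allFrom (fun j => eS (subst [[1], [71], [57], [63], [65], [59, 57, 59]] (nth [] gX j))
    (subst wsK (nth [] gam j))) 0 7 = true := by decide +kernel
theorem k38 : rls eS wsK (lmap (fun w => wpow w 16) gam) = true := by decide +kernel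
theorem k39 : trk eS wsK [61] [3] wb = true ∧ trk eS wsK [61] [3] wy = true := by decide +kernel
theorem k40 : ordOK NS 1782 11 [77] 7 = true := by decide +kernel
theorem k41 : pq U43.NM 280 9 7 wy [] = true ∧
    pq U43.NM 280 9 7 (subst (lapp tau [lapp al (13 :: be)]) wb) wb = true ∧
    allFrom (fun j => pq U43.NM 280 9 7 (subst W6 (nth [] gX j)) (nth [] gam j)) 0 7 = true := by decide +kernel
theorem k42 : lall (fun r => bor (wordIn [[1], [5], [7], [9], [11], [13]] r) (bor (leq r [3, 7, 3, 7])
    (bor (leq r [3, 9, 3, 9]) (bor (leq r (wpow (lapp (wpow [3, 5, 7, 5, 7] 5) [9]) 3))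
    (Bool.rec false (pq U43.NM 280 9 7 (subst W6 (subst [[1], [3], [5], [], [], [7], [9]] r)) [])
      (wordIn [[1], [3], [5], [11], [13]] r)))))) Suz.rels = true := by decide +kernel

end CF.XT.Sz
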