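import Cfsg.Agent.XT.SzZ
import Cfsg.Agent.XT.SzE
import Cfsg.Agent.XT.SzK
import Cfsg.Agent.Comp.MatData

set_option autoImplicit false
set_option maxRecDepth 1000000
set_option maxHeartbeats 0

namespace CF.XT.SzL

open CF.Comp CF.Bt CF.Recog

noncomputable def NZ : List Net := lapp Sz.NS X2
noncomputable def eZ : List ℕ → List ℕ → Bool := sameW NZ 1782 11
noncomputable def nZ : List ℕ → List ℕ → Bool := difW NZ 1782 11
def wY : List (List ℕ) := [[], [41], [41, 41]]
noncomputable def big (w : List ℕ) : List Lvl := [⟨1, lmap (fun q => cmW q w) Sz.sQ, 2⟩]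

theorem z0 : Nat.beq (chainProd NZ 1782 cZ) 448345497600 = true := by decide +kernel
theorem z1 : slpOK (lapp Sz.NS X2) 1782 11 W2 39 = true := by decide +kernel
theorem z2 : geOK NZ 1782 cZ 448345497600 = true := by decide +kernel
theorem z3 : cleOK NZ 1782 11 448345497600 [[77]] D7 84 = true := by decide +kernel
theorem z4 : lall (fun p : List ℕ × ℕ => ordOK NZ 1782 11 p.1 p.2) [([77], 7), ([61], 2), ([97], 3), ([61, 97], 3),
    ([27], 5), ([99], 5), ([101, 101], 2), ([103], 2), ([105], 2), ([103, 105], 3), ([41], 3)] = true := by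
  decide +kernel
theorem z5 : cleOK NZ 1782 11 448345497600 s5 D5 25 = true := by decide +kernel
theorem z6 : abOK NZ 1782 11 5 P5 2 = true := by decide +kernel
theorem z7 : clOK NZ 1782 11 5 c5 [[27], [99]] F5 = true := by decide +kernel
theorem z8 : nrmAll eZ s5 [[101], [103], [105]] n5 = true := by decide +kernel
theorem z9 : stepOK NZ 1782 11 5 s5 [99] U51 L51 = true ∧ stepOK NZ 1782 11 5 s5 [27] U52 L52 = true := by
  decide +kernel
theorem z10 : eqs eZ [([77, 61], [61, 77]), ([77, 97], [97, 77]), ([103, 101], [101, 103]), ([105, 101], [101, 105]),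
    ([115, 117, 116, 118], [41]), ([59, 41, 60], [42]), ([109, 109], [110])] = true := by decide +kernel
theorem z11 : ∀ i < 5, fx NZ 1782 11 (wpow [99] i) ≠ fx NZ 1782 11 [27] := by decide +kernel
theorem z12 : cleOK NZ 1782 11 448345497600 [[41]] Dy2 9797760 = true := by decide +kernel
theorem z13 : comAll eZ ([115] :: [117] :: Sz.wsK) [[41]] = true := by decide +kernel
theorem z14 : lall (fun r => inL eZ wY (subst Sz.wsK r)) U43.RG = true := by decide +kernel
theorem z15 : outL nZ wY [47] = true ∧ nZ [59, 41] [41, 59] = true := by decide +kernel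
theorem z17 : cleOK NZ 1782 11 448345497600 [[41], [107], [109], [111]] DA 243 = true := by decide +kernel
theorem z18 : stdS NZ 1782 11 cZ [[41], [107], [109]] [[41], [107], [110]] [] [] DX.fw DX.kg DX.T 0 = true := by
  decide +kernel
theorem z19 : abOK NZ 1782 11 3 PA 5 = true ∧ comAll eZ sA sA = true ∧
    lall (fun w => eZ (wpow w 3) []) sA = true := by decide +kernel
theorem z20 : stepOK NZ 1782 11 3 sA [41] UA1 LA1 = true ∧ stepOK NZ 1782 11 3 sA [107] UA2 LA2 = true := by
  decide +kernel
theorem z21 : stepOK NZ 1782 11 3 sA [109] UA3 ([109, 109] :: LA3) = true ∧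
    stepOK NZ 1782 11 3 sA [111] UA4 LA4 = true := by decide +kernel
theorem z22 : geOK NZ 1782 cN 1924560 = true ∧ nrmAll eZ sA (cgens cN) nA = true := by decide +kernel
theorem z23 : mdOK NZ 1782 11 7 7920 MA = true ∧ lall (closedW NZ sA) mk = true := by decide +kernel
theorem z24 : selIs 24 l11 11 = true ∧ relOK Mat.iN N11 w11 l11 11 = true := by decide +kernel
theorem z25 : pOK NZ 1782 11 3 P3 4 = true ∧ comAll eZ s3 [[1]] = true := by decide +kernel
theorem z26 : pcAll 3 (fun w => bor (leq w []) (bor (lany (fun p : List ℕ × List ℕ =>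
    Bool.rec false (eZ (cjW p.2 w) [41]) (leq w p.1)) LY) (geOK NZ 1782 (big w) 9))) s3 = true := by decide +kernel

end CF.XT.SzL
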